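/-
Project P8 (S2920): reduction to the simple normal subgroup.
-/
import Cfsg.Agent.P8.Defs
import Cfsg.Agent.S2923
import Cfsg.Agent.Loc.Bal2

set_option autoImplicit false

namespace CL.P8
open Cfsg Subgroup CL.Grp

universe u

namespace Red2

variable {G : Type*} [Group G] [Finite G] {ι : Γ0 →* G}

theorem rel_dvd (U K : Subgroup G) [K.Normal] : U.relIndex K ∣ U.index := by
  obtain ⟨c, hc⟩ := relIndex_dvd_index_of_normal K U
  have h1 := relIndex_mul_index (inf_le_left : U ⊓ K ≤ U)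
  have h2 := relIndex_mul_index (inf_le_right : U ⊓ K ≤ K)
  rw [inf_relIndex_left] at h1
  rw [inf_relIndex_right, ← h1, hc, mul_left_comm] at h2
  exact ⟨c, (Nat.eq_of_mul_eq_mul_left (Nat.pos_of_ne_zero (index_ne_zero_of_finite (H := K.subgroupOf U))) h2).symm⟩

theorem odd_fix (h : Pr ι) {M : Subgroup G} [M.Normal] (ho : ¬ 2 ∣ Nat.card M) (γ : Γ0) {x : G} (hx : x ∈ M)
    (hc : ι (γ * z * γ⁻¹) * x * (ι (γ * z * γ⁻¹))⁻¹ = x) : x = 1 := by
  have h1 : (ι γ)⁻¹ * x * ι γ ∈ centralizer ({ι z} : Set G) := mem_centralizer_singleton_iff.2 (by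
    rw [mul_inv_eq_iff_eq_mul, map_mul, map_mul, map_inv] at hc
    calc (ι γ)⁻¹ * x * ι γ * ι z = (ι γ)⁻¹ * (x * (ι γ * ι z * (ι γ)⁻¹)) * ι γ := by group
      _ = _ := by rw [← hc]; group)
  obtain ⟨k, hk⟩ := IsPGroup.iff_card.1 (pCore_isPGroup 2 (centralizer ({ι z} : Set G)))
  have hd : Disjoint (pCore 2 (centralizer ({ι z} : Set G))) (M.subgroupOf _) :=
    disjoint_of_coprime_natCard (hk ▸ ((Nat.prime_two.coprime_iff_not_dvd.2 ho).coprime_dvd_right
      (card_comap_dvd_of_injective M _ (subtype_injective _))).pow_left k)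
  have h2 : (⟨_, h1⟩ : centralizer ({ι z} : Set G)) ∈ M.subgroupOf _ := Normal.conj_mem' inferInstance x hx _
  have h3 := congrArg Subtype.val (disjoint_def.1 hd (h.ch fun y hy =>
    commute_of_normal_of_disjoint _ _ inferInstance inferInstance hd y _ hy h2) h2)
  simpa [mul_assoc] using congrArg (fun y => ι γ * y * (ι γ)⁻¹) h3

theorem range_le (h : Pr ι) (M : Subgroup G) [hM : M.Normal] (hne : M ≠ ⊥) : ι.range ≤ M := by
  by_cases ho : 2 ∣ Nat.card M
  · obtain ⟨t, ht, t1⟩ : ∃ t ∈ normalizer (ι.range : Set G) ⊓ M, t ≠ 1 := by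
      refine (bot_or_exists_ne_one _).resolve_left fun e => h.odd (ho.trans ?_)
      rw [← relIndex_bot_left, ← e, inf_relIndex_right]
      exact rel_dvd _ _
    rcases (hM.comap ι).eq_bot_or_eq_top with e | e
    · refine absurd (h.cent t fun γ => ?_) t1
      obtain ⟨δ, hδ⟩ := mul_mem ((mem_normalizer_iff.1 ht.1 _).1 (⟨γ, rfl⟩ : ι γ ∈ ι.range)) (inv_mem ⟨γ, rfl⟩)
      have h1 : δ ∈ M.comap ι := by
        rw [mem_comap, hδ, mul_assoc, mul_assoc, ← mul_assoc (ι γ)]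
        exact mul_mem ht.2 (hM.conj_mem _ (inv_mem ht.2) _)
      rw [e, mem_bot] at h1
      rw [h1, map_one, eq_comm, mul_inv_eq_one, mul_inv_eq_iff_eq_mul] at hδ
      exact hδ
    · rintro _ ⟨γ, rfl⟩
      exact e.ge (mem_top γ)
  · have inv : ∀ γ : Γ0, ∀ x ∈ M, ι (γ * z * γ⁻¹) * x * (ι (γ * z * γ⁻¹))⁻¹ = x⁻¹ := fun γ x hx => by
      have h2 : ι (γ * z * γ⁻¹) * ι (γ * z * γ⁻¹) = 1 := by
        rw [← map_mul, conj_mul, q8s.zz, mul_one, mul_inv_cancel, map_one]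
      exact congrArg Subtype.val (congrFun (MonoidHom.FixedPointFree.coe_eq_inv_of_involutive
        (φ := MulAut.conjNormal (H := M) (ι (γ * z * γ⁻¹)))
        (fun y hy => Subtype.ext (odd_fix h ho γ y.2 (congrArg Subtype.val hy))) fun y => by
          rw [← MulAut.mul_apply, ← map_mul, h2, map_one, MulAut.one_apply]) ⟨x, hx⟩)
    refine absurd (eq_bot_iff.2 fun x hx => odd_fix h ho (a 0 * n0) hx ?_) hne
    have e : a 0 * n0 * z * (a 0 * n0)⁻¹ = n0 * z * n0⁻¹ * (1 * z * 1⁻¹) :=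
      rel (X.a 0 * X.n0 * X.z * (X.a 0 * X.n0)⁻¹) (X.n0 * X.z * X.n0⁻¹ * (1 * X.z * 1⁻¹)) (by decide +kernel)
    rw [e, map_mul, show ∀ u v : G, u * v * x * (u * v)⁻¹ = u * (v * x * v⁻¹) * u⁻¹ from fun _ _ => by group,
      inv 1 x hx, inv n0 _ (inv_mem hx), inv_inv]

theorem ch_sub (L : Subgroup G) [L.Normal] (y : L) (h : IsOfCharacteristicTwo (centralizer ({(y : G)} : Set G))) :
    IsOfCharacteristicTwo (centralizer ({y} : Set L)) := by
  let e : centralizer ({y} : Set L) ≃* L.subgroupOf (centralizer ({(y : G)} : Set G)) :=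
    { toFun := fun x => ⟨⟨x.1.1, mem_centralizer_singleton_iff.2
        (congrArg Subtype.val (mem_centralizer_singleton_iff.1 x.2))⟩, x.1.2⟩
      invFun := fun x => ⟨⟨x.1.1, x.2⟩, mem_centralizer_singleton_iff.2
        (Subtype.ext (mem_centralizer_singleton_iff.1 x.1.2))⟩
      left_inv := fun _ => rfl
      right_inv := fun _ => rfl
      map_mul' := fun _ _ => rfl }
  refine fun x hx => (mem_pCore_equiv e).1 (Cfsg.Agent.S2923.result h _ (Normal.isSubnormal inferInstance) fun w hw => ?_)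
  obtain ⟨w, rfl⟩ := e.surjective w
  rw [← map_mul, ← map_mul, hx w ((mem_pCore_equiv e).1 hw)]

omit [Finite G] in
theorem range_res (L : Subgroup G) (hL : ∀ γ, ι γ ∈ L) : (ι.codRestrict L hL).range = ι.range.subgroupOf L :=
  Subgroup.ext fun _ => ⟨fun ⟨γ, e⟩ => ⟨γ, congrArg Subtype.val e⟩, fun ⟨γ, e⟩ => ⟨γ, Subtype.ext e⟩⟩

theorem pr_sub (h : Pr ι) (L : Subgroup G) [L.Normal] (hL : ∀ γ, ι γ ∈ L) : Pr (ι.codRestrict L hL) where
  inj := (ι.injective_codRestrict L hL).2 h.inj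
  cent x hx := Subtype.ext (h.cent x fun γ => congrArg Subtype.val (hx γ))
  ch := ch_sub L _ h.ch
  odd e := h.odd (e.trans (by
    rw [range_res, ← subgroupOf_normalizer_eq (H := ι.range) (fun _ ⟨γ, e⟩ => e ▸ hL γ)]
    exact rel_dvd _ _))

end Red2

open Red2

theorem red2 {G : Type u} [Group G] [Finite G] {ι : Γ0 →* G} (h : Pr ι) (ht : Tw ι) (h1 : Core1.{u}) (h2 : Core2.{u}) : Nonempty (generalizedFittingSubgroup G ≃* Γ0) ∨ Nonempty (generalizedFittingSubgroup G ≃* POmega (ZMod 3) (quadFormPlus 4 (ZMod 3))) := by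
  obtain ⟨L, hLd⟩ : ∃ L, L = normalClosure (ι.range : Set G) := ⟨_, rfl⟩
  have hN : L.Normal := hLd ▸ normalClosure_normal
  have hL : ∀ γ, ι γ ∈ L := fun γ => hLd ▸ subset_normalClosure ⟨γ, rfl⟩
  have hP := pr_sub h L hL
  have hz : (⟨ι z, hL z⟩ : L) ≠ 1 := fun e => z_ne (h.inj ((congrArg Subtype.val e).trans (map_one ι).symm))
  have : Nontrivial L := ⟨_, _, hz⟩
  have hs : IsSimpleGroup L := ⟨fun K hK => or_iff_not_imp_left.2 fun hne => eq_top_iff.2 fun x _ => by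
    have h3 : L ≤ (K.map L.subtype).normalCore := hLd.le.trans <| normalClosure_le_normal fun _ ⟨γ, e⟩ g => by
      have := hK.comap (MulAut.conjNormal (H := L) g).toMonoidHom
      exact ⟨_, range_le hP (K.comap (MulAut.conjNormal (H := L) g).toMonoidHom) (fun e' => hne (by
        rw [← map_comap_eq_self_of_surjective (f := (MulAut.conjNormal (H := L) g).toMonoidHom)
          (MulAut.conjNormal (H := L) g).surjective K, e', Subgroup.map_bot])) ⟨γ, rfl⟩, e ▸ rfl⟩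
    exact (mem_map_iff_mem L.subtype_injective).1 (normalCore_le _ (h3 x.2))⟩
  have hC : centralizer (L : Set G) = ⊥ := eq_bot_iff.2 fun x hx => h.cent x fun γ => (hx _ (hL γ)).symm
  rw [Loc.fstar_eq_of_cent_eq_bot ⟨hN.isSubnormal, Loc.isQuasisimple_of_isSimpleGroup fun c =>
    hz (hP.cent _ fun γ => c.1.1 _ _)⟩ hC]
  refine h1 L _ hP.inj (fun e => ?_) hP.ch
  rw [range_res] at e
  rcases ht with ht | ⟨j, hj, rfl, ho⟩
  · exact ht (e.trans (rel_dvd _ _))
  by_cases hr : ∀ w, j w ∈ L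
  · refine h2 L (j.codRestrict L hr) ((j.injective_codRestrict L hr).2 hj) (fun e' => ho (e'.trans ?_)) hP.ch
    rw [show (j.codRestrict L hr).range = j.range.subgroupOf L from Subgroup.ext fun _ =>
      ⟨fun ⟨γ, e⟩ => ⟨γ, congrArg Subtype.val e⟩, fun ⟨γ, e⟩ => ⟨γ, Subtype.ext e⟩⟩]
    exact rel_dvd _ _
  · have h3 : inc.range ≤ L.comap j := fun _ ⟨γ, e⟩ => e ▸ hL γ
    have h4 : inc.range.index = 2 := by
      have := inc.range.card_mul_index
      rw [card_W0, ← Nat.card_congr (MonoidHom.ofInjective inc_inj).toEquiv, card_Γ0] at this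
      omega
    have h5 : L.comap j = inc.range := ((isCoatom_of_index_prime (H := inc.range) (h4 ▸ Nat.prime_two)).le_iff_eq
      (b := L.comap j) fun e' => hr fun w => e'.ge (mem_top w)).1 h3
    refine ho (e.trans ?_)
    rw [show (j.comp inc).range.subgroupOf L = j.range.subgroupOf L from Subgroup.ext fun x =>
      ⟨fun ⟨γ, e⟩ => ⟨_, e⟩, fun ⟨w, e⟩ => by
        obtain ⟨γ, rfl⟩ := h5.le (show j w ∈ L from e ▸ x.2)
        exact ⟨γ, e⟩⟩]
    exact rel_dvd _ _

end CL.P8
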