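/-
A Sylow 2-subgroup of `PSp_4(3)`, its centre, and letters for the 45 conjugates of the central involution.
Generated by tools/pg.
-/
import Cfsg.Agent.Spor.PGCtx
import Cfsg.Agent.Spor.PGSearch
import Cfsg.Agent.Spor.PGStruct
import Cfsg.Agent.Spor.PGTop2
import Cfsg.Agent.Spor.StdPS43

set_option autoImplicit false
set_option maxRecDepth 200000
set_option Elab.async false
set_option linter.unusedVariables false

namespace CL.P8.GQM
open CL.PG

noncomputable def xa12 : Net := (.cons 20 (nat_lit 0x7a21)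
 (.cons 10 (nat_lit 0x3660016c)
 (.cons 5 (nat_lit 0x601502013)
 (.cons 1 (nat_lit 0x2000020000)
 (.cons 1 (nat_lit 0x5000050140)
 (.cons 1 (nat_lit 0x2800029084)
 (.cons 1 (nat_lit 0x5280252948)
 (.cons 1 (nat_lit 0x2002021005)
 (.cons 5 (nat_lit 0x700002012)
 (.cons 10 (nat_lit 0x3e00016c)
 (.cons 20 (nat_lit 0x1fa20)
 .nil)))))))))))
noncomputable def xa13 : Net := (.cons 20 (nat_lit 0xfeae9)
 (.cons 10 (nat_lit 0x1fe000e1)
 (.cons 5 (nat_lit 0x280807c0d)
 (.cons 1 (nat_lit 0x2000009000)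
 (.cons 1 (nat_lit 0x5010a12940)
 (.cons 1 (nat_lit 0x29085214a1)
 (.cons 1 (nat_lit 0x5204a42942)
 (.cons 1 (nat_lit 0x29020210a1)
 (.cons 5 (nat_lit 0x480802002)
 (.cons 10 (nat_lit 0x184003b4)
 (.cons 20 (nat_lit 0x4b2e2)
 .nil)))))))))))
noncomputable def xa14 : Net := (.cons 20 (nat_lit 0x7ee2c)
 (.cons 10 (nat_lit 0x163003a2)
 (.cons 5 (nat_lit 0x580e0780f)
 (.cons 1 (nat_lit 0x8000)
 (.cons 1 (nat_lit 0x10a50800)
 (.cons 1 (nat_lit 0x808529080)
 (.cons 1 (nat_lit 0x1084a52900)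
 (.cons 1 (nat_lit 0x1420080a0)
 (.cons 5 (nat_lit 0x281e03810)
 (.cons 10 (nat_lit 0x30800138)
 (.cons 20 (nat_lit 0x9728e)
 .nil)))))))))))
noncomputable def xa15 : Net := (.cons 20 (nat_lit 0xb21fb)
 (.cons 10 (nat_lit 0x21300071)
 (.cons 5 (nat_lit 0x540f0640d)
 (.cons 1 (nat_lit 0x9000)
 (.cons 1 (nat_lit 0x284812802)
 (.cons 1 (nat_lit 0x14a421424)
 (.cons 1 (nat_lit 0x9424084a)
 (.cons 1 (nat_lit 0x8100020)
 (.cons 5 (nat_lit 0x200604010)
 (.cons 10 (nat_lit 0x38e001ec)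
 (.cons 20 (nat_lit 0x4de04)
 .nil)))))))))))
noncomputable def xa16 : Net := (.cons 20 (nat_lit 0xfeae9)
 (.cons 10 (nat_lit 0x1fe000e1)
 (.cons 5 (nat_lit 0x280807c0d)
 (.cons 1 (nat_lit 0x2000009000)
 (.cons 1 (nat_lit 0x5010a12940)
 (.cons 1 (nat_lit 0x29085214a1)
 (.cons 1 (nat_lit 0x5204a42942)
 (.cons 1 (nat_lit 0x29020210a1)
 (.cons 5 (nat_lit 0x480802002)
 (.cons 10 (nat_lit 0x184003b4)
 (.cons 20 (nat_lit 0x4b2e2)
 .nil)))))))))))
noncomputable def xa17 : Net := (.cons 20 (nat_lit 0xf5669)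
 (.cons 10 (nat_lit 0x214003d6)
 (.cons 5 (nat_lit 0x58080401f)
 (.cons 1 (nat_lit 0x800100001)
 (.cons 1 (nat_lit 0x5280a0210a)
 (.cons 1 (nat_lit 0x214a529084)
 (.cons 1 (nat_lit 0x5294a1094a)
 (.cons 1 (nat_lit 0x520021)
 (.cons 5 (nat_lit 0x500c00010)
 (.cons 10 (nat_lit 0x200382)
 (.cons 20 (nat_lit 0x7de4c)
 .nil)))))))))))
noncomputable def xa18 : Net := (.cons 20 (nat_lit 0x7a21)
 (.cons 10 (nat_lit 0x3660016c)
 (.cons 5 (nat_lit 0x601502013)
 (.cons 1 (nat_lit 0x2000020000)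
 (.cons 1 (nat_lit 0x5000050140)
 (.cons 1 (nat_lit 0x2800029084)
 (.cons 1 (nat_lit 0x5280252948)
 (.cons 1 (nat_lit 0x2002021005)
 (.cons 5 (nat_lit 0x700002012)
 (.cons 10 (nat_lit 0x3e00016c)
 (.cons 20 (nat_lit 0x1fa20)
 .nil)))))))))))
noncomputable def xa19 : Net := (.cons 20 (nat_lit 0xa9a4b)
 (.cons 10 (nat_lit 0x27a001cc)
 (.cons 5 (nat_lit 0x701d05005)
 (.cons 1 (nat_lit 0x800000020)
 (.cons 1 (nat_lit 0x1004a40140)
 (.cons 1 (nat_lit 0x20485204a5)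
 (.cons 1 (nat_lit 0x509021094a)
 (.cons 1 (nat_lit 0x4a128400)
 (.cons 5 (nat_lit 0x500207008)
 (.cons 10 (nat_lit 0x1cc0027a)
 (.cons 20 (nat_lit 0x564a4)
 .nil)))))))))))
noncomputable def xa20 : Net := (.cons 20 (nat_lit 0x7e9d2)
 (.cons 10 (nat_lit 0x2c0025e)
 (.cons 5 (nat_lit 0x38070281c)
 (.cons 1 (nat_lit 0x500000)
 (.cons 1 (nat_lit 0x4000a02148)
 (.cons 1 (nat_lit 0x2948509085)
 (.cons 1 (nat_lit 0x5094a1294a)
 (.cons 1 (nat_lit 0x940028084)
 (.cons 5 (nat_lit 0x300002808)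
 (.cons 10 (nat_lit 0x4800226)
 (.cons 20 (nat_lit 0xf9260)
 .nil)))))))))))
noncomputable def xa21 : Net := (.cons 20 (nat_lit 0x7a21)
 (.cons 10 (nat_lit 0x3660016c)
 (.cons 5 (nat_lit 0x601502013)
 (.cons 1 (nat_lit 0x2000020000)
 (.cons 1 (nat_lit 0x5000050140)
 (.cons 1 (nat_lit 0x2800029084)
 (.cons 1 (nat_lit 0x5280252948)
 (.cons 1 (nat_lit 0x2002021005)
 (.cons 5 (nat_lit 0x700002012)
 (.cons 10 (nat_lit 0x3e00016c)
 (.cons 20 (nat_lit 0x1fa20)
 .nil)))))))))))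
noncomputable def xa22 : Net := (.cons 20 (nat_lit 0x2068c)
 (.cons 10 (nat_lit 0x30400398)
 (.cons 5 (nat_lit 0x1c0004016)
 (.cons 1 (nat_lit 0x100004)
 (.cons 1 (nat_lit 0xa5000a)
 (.cons 1 (nat_lit 0x2040521005)
 (.cons 1 (nat_lit 0x1084a5200a)
 (.cons 1 (nat_lit 0x9001010a4)
 (.cons 5 (nat_lit 0x200004016)
 (.cons 10 (nat_lit 0x10400318)
 (.cons 20 (nat_lit 0x20684)
 .nil)))))))))))
noncomputable def xa23 : Net := (.cons 20 (nat_lit 0xd3ba2)
 (.cons 10 (nat_lit 0xd200314)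
 (.cons 5 (nat_lit 0x201005419)
 (.cons 1 (nat_lit 0x800400085)
 (.cons 1 (nat_lit 0x1000840942)
 (.cons 1 (nat_lit 0x9004000a4)
 (.cons 5 (nat_lit 0x201005012)
 (.cons 10 (nat_lit 0x8000110)
 (.cons 20 (nat_lit 0xd1ba2)
 .nil)))))))))
noncomputable def xa24 : Net := (.cons 20 (nat_lit 0x4bcc4)
 (.cons 10 (nat_lit 0x5c00158)
 (.cons 5 (nat_lit 0x700f0601f)
 (.cons 1 (nat_lit 0x42000000)
 (.cons 1 (nat_lit 0x284800000)
 (.cons 1 (nat_lit 0x108420004)
 (.cons 1 (nat_lit 0x1294a10108)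
 (.cons 1 (nat_lit 0x20481204a1)
 (.cons 5 (nat_lit 0x701802000)
 (.cons 10 (nat_lit 0x1000158)
 (.cons 20 (nat_lit 0x43cc4)
 .nil)))))))))))
noncomputable def xa25 : Net := (.cons 20 (nat_lit 0x7f82)
 (.cons 10 (nat_lit 0x152003de)
 (.cons 5 (nat_lit 0x301400006)
 (.cons 1 (nat_lit 0x140000000)
 (.cons 1 (nat_lit 0x280010800)
 (.cons 1 (nat_lit 0x140129401)
 (.cons 1 (nat_lit 0x280210842)
 (.cons 1 (nat_lit 0x148129401)
 (.cons 5 (nat_lit 0x200400006)
 (.cons 10 (nat_lit 0x112001c8)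
 (.cons 20 (nat_lit 0x5f82)
 .nil)))))))))))
noncomputable def xa26 : Net := (.cons 20 (nat_lit 0x84c30)
 (.cons 10 (nat_lit 0x3fe00350)
 (.cons 5 (nat_lit 0x341203000)
 (.cons 1 (nat_lit 0x8000000a0)
 (.cons 1 (nat_lit 0x1280810140)
 (.cons 1 (nat_lit 0x290a4280a0)
 (.cons 1 (nat_lit 0x5284a10140)
 (.cons 1 (nat_lit 0x28480284a4)
 (.cons 5 (nat_lit 0x501803000)
 (.cons 10 (nat_lit 0x1000340)
 (.cons 20 (nat_lit 0x84c30)
 .nil)))))))))))
noncomputable def xa27 : Net := (.cons 20 (nat_lit 0xa15b0)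
 (.cons 10 (nat_lit 0x32000252)
 (.cons 5 (nat_lit 0x781e0700b)
 (.cons 1 (nat_lit 0x24)
 (.cons 1 (nat_lit 0x284a)
 (.cons 1 (nat_lit 0x28081210a5)
 (.cons 1 (nat_lit 0x1010a42942)
 (.cons 1 (nat_lit 0x29481210a5)
 (.cons 5 (nat_lit 0x381c07014)
 (.cons 10 (nat_lit 0x32000252)
 (.cons 20 (nat_lit 0xa15b0)
 .nil)))))))))))
noncomputable def xa28 : Net := (.cons 20 (nat_lit 0xf1a00)
 (.cons 10 (nat_lit 0x20000380)
 (.cons 5 (nat_lit 0x281c0180e)
 (.cons 1 (nat_lit 0x8000020)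
 (.cons 1 (nat_lit 0x14000140)
 (.cons 1 (nat_lit 0x10a0200a4)
 (.cons 1 (nat_lit 0x429401214a)
 (.cons 1 (nat_lit 0x908120424)
 (.cons 5 (nat_lit 0x28180080e)
 (.cons 10 (nat_lit 0x20000380)
 (.cons 20 (nat_lit 0xf1a00)
 .nil)))))))))))
noncomputable def xa29 : Net := (.cons 20 (nat_lit 0x2dac2)
 (.cons 10 (nat_lit 0x140005c)
 (.cons 5 (nat_lit 0x3c1806005)
 (.cons 1 (nat_lit 0x2000001)
 (.cons 1 (nat_lit 0x14000902)
 (.cons 1 (nat_lit 0x908021484)
 (.cons 1 (nat_lit 0x1094250848)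
 (.cons 1 (nat_lit 0x204a021420)
 (.cons 5 (nat_lit 0x180601a)
 (.cons 10 (nat_lit 0x140005c)
 (.cons 20 (nat_lit 0x2dac2)
 .nil)))))))))))
noncomputable def xa30 : Net := (.cons 20 (nat_lit 0xf9530)
 (.cons 10 (nat_lit 0x35a0031c)
 (.cons 5 (nat_lit 0x401800802)
 (.cons 1 (nat_lit 0x20)
 (.cons 1 (nat_lit 0x140)
 (.cons 1 (nat_lit 0x100085)
 (.cons 1 (nat_lit 0x202142)
 (.cons 1 (nat_lit 0x200a1080a5)
 (.cons 5 (nat_lit 0x200000800)
 (.cons 10 (nat_lit 0xc000318)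
 (.cons 20 (nat_lit 0xf9130)
 .nil)))))))))))
noncomputable def xa31 : Net := (.cons 20 (nat_lit 0x5102d)
 (.cons 10 (nat_lit 0x2f000308)
 (.cons 5 (nat_lit 0x281c04006)
 (.cons 1 (nat_lit 0x800000000)
 (.cons 1 (nat_lit 0x5014000000)
 (.cons 1 (nat_lit 0x200a000080)
 (.cons 1 (nat_lit 0x5294000842)
 (.cons 1 (nat_lit 0x2800428004)
 (.cons 5 (nat_lit 0x281c00008)
 (.cons 10 (nat_lit 0x2f000308)
 (.cons 20 (nat_lit 0x51024)
 .nil)))))))))))
noncomputable def xa32 : Net := (.cons 20 (nat_lit 0x80602)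
 (.cons 10 (nat_lit 0x3fe00006)
 (.cons 5 (nat_lit 0x601c07010)
 (.cons 1 (nat_lit 0x800000000)
 (.cons 1 (nat_lit 0x1000a02900)
 (.cons 1 (nat_lit 0x2100401084)
 (.cons 1 (nat_lit 0x4280a4284a)
 (.cons 1 (nat_lit 0x100001024)
 (.cons 5 (nat_lit 0x401007018)
 (.cons 10 (nat_lit 0x3fc00004)
 (.cons 20 (nat_lit 0xbf8)
 .nil)))))))))))
noncomputable def xa33 : Net := (.cons 20 (nat_lit 0x51704)
 (.cons 10 (nat_lit 0x9c0036a)
 (.cons 5 (nat_lit 0x300003001)
 (.cons 1 (nat_lit 0x2100000)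
 (.cons 1 (nat_lit 0x14a00000)
 (.cons 1 (nat_lit 0x948500404)
 (.cons 1 (nat_lit 0x1094a10808)
 (.cons 1 (nat_lit 0x942100484)
 (.cons 5 (nat_lit 0x300001000)
 (.cons 10 (nat_lit 0x1400168)
 (.cons 20 (nat_lit 0x41704)
 .nil)))))))))))
noncomputable def xa34 : Net := (.cons 20 (nat_lit 0xfa002)
 (.cons 10 (nat_lit 0x1000368)
 (.cons 5 (nat_lit 0x700e05809)
 (.cons 1 (nat_lit 0x500000)
 (.cons 1 (nat_lit 0xa00000)
 (.cons 1 (nat_lit 0xa5210a0)
 (.cons 1 (nat_lit 0x294a4214a)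
 (.cons 1 (nat_lit 0x280a529005)
 (.cons 5 (nat_lit 0x700e00816)
 (.cons 10 (nat_lit 0x1000368)
 (.cons 20 (nat_lit 0x22002)
 .nil)))))))))))
noncomputable def xa35 : Net := (.cons 20 (nat_lit 0xab8c0)
 (.cons 10 (nat_lit 0x23400030)
 (.cons 5 (nat_lit 0x241006814)
 (.cons 1 (nat_lit 0x2020400)
 (.cons 1 (nat_lit 0x1004a52948)
 (.cons 1 (nat_lit 0x210a4294a4)
 (.cons 1 (nat_lit 0x4094a5284a)
 (.cons 1 (nat_lit 0x2100020420)
 (.cons 5 (nat_lit 0x201407812)
 (.cons 10 (nat_lit 0x2b400070)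
 (.cons 20 (nat_lit 0x96b00)
 .nil)))))))))))
noncomputable def xa36 : Net := (.cons 20 (nat_lit 0xb6000)
 (.cons 10 (nat_lit 0x23001b0)
 (.cons 5 (nat_lit 0x541502012)
 (.cons 1 (nat_lit 0x1420)
 (.cons 1 (nat_lit 0x294a)
 (.cons 1 (nat_lit 0x1485)
 (.cons 1 (nat_lit 0x401000294a)
 (.cons 1 (nat_lit 0x14a0)
 (.cons 5 (nat_lit 0x401002012)
 (.cons 10 (nat_lit 0x1b0)
 (.cons 20 (nat_lit 0x24000)
 .nil)))))))))))
noncomputable def xa37 : Net := (.cons 20 (nat_lit 0x68360)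
 (.cons 10 (nat_lit 0x2810005c)
 (.cons 5 (nat_lit 0x780b05804)
 (.cons 1 (nat_lit 0x1)
 (.cons 1 (nat_lit 0x20000a)
 (.cons 1 (nat_lit 0x48501085)
 (.cons 1 (nat_lit 0x129420290a)
 (.cons 1 (nat_lit 0x1025290a1)
 (.cons 5 (nat_lit 0x700005804)
 (.cons 10 (nat_lit 0x1460005c)
 (.cons 20 (nat_lit 0x68360)
 .nil)))))))))))
noncomputable def xa38 : Net := (.cons 20 (nat_lit 0x8d5ad)
 (.cons 10 (nat_lit 0xa600187)
 (.cons 5 (nat_lit 0x400c0401d)
 (.cons 1 (nat_lit 0x42000021)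
 (.cons 1 (nat_lit 0x29400294a)
 (.cons 1 (nat_lit 0x2108509485)
 (.cons 1 (nat_lit 0x429421294a)
 (.cons 1 (nat_lit 0x29421094a0)
 (.cons 5 (nat_lit 0x400406008)
 (.cons 10 (nat_lit 0xa400388)
 (.cons 20 (nat_lit 0x2d0a4)
 .nil)))))))))))
noncomputable def xa39 : Net := (.cons 20 (nat_lit 0xff000)
 (.cons 10 (nat_lit 0x125002e4)
 (.cons 5 (nat_lit 0x500b07804)
 (.cons 1 (nat_lit 0x40100020)
 (.cons 1 (nat_lit 0x90a02940)
 (.cons 1 (nat_lit 0x10a4014a5)
 (.cons 1 (nat_lit 0x4214a02942)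
 (.cons 1 (nat_lit 0x2842108025)
 (.cons 5 (nat_lit 0x201005804)
 (.cons 10 (nat_lit 0x1b4002e4)
 (.cons 20 (nat_lit 0xff000)
 .nil)))))))))))
noncomputable def xa40 : Net := (.cons 20 (nat_lit 0x47b4c)
 (.cons 10 (nat_lit 0x27a001a2)
 (.cons 5 (nat_lit 0x500d06001)
 (.cons 1 (nat_lit 0x20000)
 (.cons 1 (nat_lit 0x5000050000)
 (.cons 1 (nat_lit 0x2140028080)
 (.cons 1 (nat_lit 0x5084052142)
 (.cons 1 (nat_lit 0x2140420480)
 (.cons 5 (nat_lit 0x500c06000)
 (.cons 10 (nat_lit 0x78001a2)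
 (.cons 20 (nat_lit 0x47b4c)
 .nil)))))))))))
noncomputable def xa41 : Net := (.cons 20 (nat_lit 0x60f04)
 (.cons 10 (nat_lit 0xb000303)
 (.cons 5 (nat_lit 0x680806411)
 (.cons 1 (nat_lit 0x8000)
 (.cons 1 (nat_lit 0x10908)
 (.cons 1 (nat_lit 0xa021084)
 (.cons 1 (nat_lit 0x21485204a)
 (.cons 1 (nat_lit 0x280a001081)
 (.cons 5 (nat_lit 0x680c0101a)
 (.cons 10 (nat_lit 0xb00007c)
 (.cons 20 (nat_lit 0x40d00)
 .nil)))))))))))
noncomputable def xa42 : Net := (.cons 20 (nat_lit 0x86ad0)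
 (.cons 10 (nat_lit 0x3ad002d0)
 (.cons 5 (nat_lit 0x481e06810)
 (.cons 1 (nat_lit 0x40000000)
 (.cons 1 (nat_lit 0x280a00040)
 (.cons 1 (nat_lit 0x29024000a0)
 (.cons 1 (nat_lit 0x5294a00040)
 (.cons 1 (nat_lit 0x90a5200a4)
 (.cons 5 (nat_lit 0x781202000)
 (.cons 10 (nat_lit 0x50000c0)
 (.cons 20 (nat_lit 0x86ad0)
 .nil)))))))))))
noncomputable def xa43 : Net := (.cons 20 (nat_lit 0xc85b0)
 (.cons 10 (nat_lit 0x1f200155)
 (.cons 5 (nat_lit 0x381a0101a)
 (.cons 1 (nat_lit 0x842000020)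
 (.cons 1 (nat_lit 0x5094002140)
 (.cons 1 (nat_lit 0x2108009085)
 (.cons 1 (nat_lit 0x5294010942)
 (.cons 1 (nat_lit 0x84a1094a4)
 (.cons 5 (nat_lit 0x1a03818)
 (.cons 10 (nat_lit 0x1f200016)
 (.cons 20 (nat_lit 0xca0a0)
 .nil)))))))))))
noncomputable def xa44 : Net := (.cons 20 (nat_lit 0x253b4)
 (.cons 10 (nat_lit 0x35200126)
 (.cons 5 (nat_lit 0x20100700b)
 (.cons 1 (nat_lit 0x8000)
 (.cons 1 (nat_lit 0x80050000)
 (.cons 1 (nat_lit 0x140521024)
 (.cons 1 (nat_lit 0x4090a5214a)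
 (.cons 1 (nat_lit 0x142529481)
 (.cons 5 (nat_lit 0x201007014)
 (.cons 10 (nat_lit 0x35200126)
 (.cons 20 (nat_lit 0x253b4)
 .nil)))))))))))
noncomputable def xa45 : Net := (.cons 20 (nat_lit 0xab626)
 (.cons 10 (nat_lit 0x348001b2)
 (.cons 5 (nat_lit 0x10080500c)
 (.cons 1 (nat_lit 0x108000)
 (.cons 1 (nat_lit 0xa50000)
 (.cons 1 (nat_lit 0x800420005)
 (.cons 1 (nat_lit 0x5000a5000a)
 (.cons 1 (nat_lit 0x8405084a5)
 (.cons 5 (nat_lit 0x10080400c)
 (.cons 10 (nat_lit 0x302001b0)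
 (.cons 20 (nat_lit 0x2ba24)
 .nil)))))))))))
noncomputable def xa46 : Net := (.cons 20 (nat_lit 0x24a0)
 (.cons 10 (nat_lit 0x376000f1)
 (.cons 5 (nat_lit 0x601406c09)
 (.cons 1 (nat_lit 0x2000000000)
 (.cons 1 (nat_lit 0x5000a00000)
 (.cons 1 (nat_lit 0x2900500080)
 (.cons 1 (nat_lit 0x5214a00108)
 (.cons 1 (nat_lit 0x2140009081)
 (.cons 5 (nat_lit 0x601402808)
 (.cons 10 (nat_lit 0x37600092)
 (.cons 20 (nat_lit 0x24a0)
 .nil)))))))))))
noncomputable def xa47 : Net := (.cons 20 (nat_lit 0x51744)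
 (.cons 10 (nat_lit 0x1420038c)
 (.cons 5 (nat_lit 0x100804)
 (.cons 1 (nat_lit 0x1000a4)
 (.cons 1 (nat_lit 0x1020014a)
 (.cons 1 (nat_lit 0x10a5200a5)
 (.cons 1 (nat_lit 0x284a1014a)
 (.cons 1 (nat_lit 0x210a1214a4)
 (.cons 5 (nat_lit 0x1800800)
 (.cons 10 (nat_lit 0x1020038c)
 (.cons 20 (nat_lit 0x51744)
 .nil)))))))))))
noncomputable def xa48 : Net := (.cons 20 (nat_lit 0x64d89)
 (.cons 10 (nat_lit 0x25b0017e)
 (.cons 5 (nat_lit 0x140206c01)
 (.cons 1 (nat_lit 0x2028000)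
 (.cons 1 (nat_lit 0x14052002)
 (.cons 1 (nat_lit 0x200a029404)
 (.cons 1 (nat_lit 0x5214052808)
 (.cons 1 (nat_lit 0x14a101424)
 (.cons 5 (nat_lit 0x680001800)
 (.cons 10 (nat_lit 0x39800168)
 (.cons 20 (nat_lit 0x5cc88)
 .nil)))))))))))
noncomputable def xa49 : Net := (.cons 20 (nat_lit 0x27390)
 (.cons 10 (nat_lit 0x11400040)
 (.cons 5 (nat_lit 0x1803c08)
 (.cons 1 (nat_lit 0x800100000)
 (.cons 1 (nat_lit 0x5000a40800)
 (.cons 1 (nat_lit 0x200a521080)
 (.cons 1 (nat_lit 0x5214a12908)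
 (.cons 1 (nat_lit 0x280a1200a1)
 (.cons 5 (nat_lit 0x1804008)
 (.cons 10 (nat_lit 0x11400040)
 (.cons 20 (nat_lit 0x27390)
 .nil)))))))))))
noncomputable def xa50 : Net := (.cons 20 (nat_lit 0x4bd48)
 (.cons 10 (nat_lit 0xa003c8)
 (.cons 5 (nat_lit 0x380c04c09)
 (.cons 1 (nat_lit 0x1)
 (.cons 1 (nat_lit 0x8000014a)
 (.cons 1 (nat_lit 0x948529084)
 (.cons 1 (nat_lit 0x108421094a)
 (.cons 1 (nat_lit 0x948521420)
 (.cons 5 (nat_lit 0x380802012)
 (.cons 10 (nat_lit 0x800348)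
 (.cons 20 (nat_lit 0x4bd48)
 .nil)))))))))))
noncomputable def xa51 : Net := (.cons 20 (nat_lit 0xe1ec0)
 (.cons 10 (nat_lit 0x188000d8)
 (.cons 5 (nat_lit 0x130200c)
 (.cons 1 (nat_lit 0x2000005)
 (.cons 1 (nat_lit 0x14a0280a)
 (.cons 1 (nat_lit 0x2908401005)
 (.cons 1 (nat_lit 0x1214a0280a)
 (.cons 1 (nat_lit 0x2900120005)
 (.cons 5 (nat_lit 0x2008)
 (.cons 10 (nat_lit 0x10000098)
 (.cons 20 (nat_lit 0x21ac0)
 .nil)))))))))))
noncomputable def xa52 : Net := (.cons 20 (nat_lit 0x5e8d1)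
 (.cons 10 (nat_lit 0x3f800098)
 (.cons 5 (nat_lit 0x181801808)
 (.cons 1 (nat_lit 0x908000484)
 (.cons 1 (nat_lit 0x121001290a)
 (.cons 1 (nat_lit 0x948400484)
 (.cons 5 (nat_lit 0x181801808)
 (.cons 10 (nat_lit 0x16000098)
 (.cons 20 (nat_lit 0x468d0)
 .nil)))))))))
noncomputable def xa53 : Net := (.cons 20 (nat_lit 0xfd7b0)
 (.cons 10 (nat_lit 0x341003f0)
 (.cons 5 (nat_lit 0x741a05c0e)
 (.cons 1 (nat_lit 0x8404000a0)
 (.cons 1 (nat_lit 0x5080a40940)
 (.cons 1 (nat_lit 0x290a5290a0)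
 (.cons 1 (nat_lit 0x529421214a)
 (.cons 1 (nat_lit 0x84a1214a0)
 (.cons 5 (nat_lit 0x300e0100e)
 (.cons 10 (nat_lit 0x140003f0)
 (.cons 20 (nat_lit 0xfd030)
 .nil)))))))))))
noncomputable def xa54 : Net := (.cons 20 (nat_lit 0xfe800)
 (.cons 10 (nat_lit 0x19000015)
 (.cons 5 (nat_lit 0x441301811)
 (.cons 1 (nat_lit 0x800000020)
 (.cons 1 (nat_lit 0x1210252840)
 (.cons 1 (nat_lit 0x294a421485)
 (.cons 1 (nat_lit 0x5094a5094a)
 (.cons 1 (nat_lit 0x948501425)
 (.cons 5 (nat_lit 0x200c01818)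
 (.cons 10 (nat_lit 0x1900000c)
 (.cons 20 (nat_lit 0xfe800)
 .nil)))))))))))
noncomputable def xa55 : Net := (.cons 20 (nat_lit 0x3fff0)
 (.cons 10 (nat_lit 0x154003fe)
 (.cons 5 (nat_lit 0x6c0000402)
 (.cons 1 (nat_lit 0x802001400)
 (.cons 1 (nat_lit 0x1014042800)
 (.cons 1 (nat_lit 0x284a021400)
 (.cons 1 (nat_lit 0x509401280a)
 (.cons 1 (nat_lit 0x902509420)
 (.cons 5 (nat_lit 0x500004002)
 (.cons 10 (nat_lit 0x194003fe)
 (.cons 20 (nat_lit 0x3f800)
 .nil)))))))))))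
noncomputable def xa56 : Net := (.cons 20 (nat_lit 0xa0a58)
 (.cons 10 (nat_lit 0x3920010c)
 (.cons 5 (nat_lit 0x20000740d)
 (.cons 1 (nat_lit 0x800101024)
 (.cons 1 (nat_lit 0x101020094a)
 (.cons 1 (nat_lit 0x800101081)
 (.cons 5 (nat_lit 0x2012)
 (.cons 10 (nat_lit 0x3800010c)
 (.cons 20 (nat_lit 0xa0a50)
 .nil)))))))))
noncomputable def xa57 : Net := (.cons 20 (nat_lit 0xb6582)
 (.cons 10 (nat_lit 0x4a003e1)
 (.cons 5 (nat_lit 0x701001809)
 (.cons 1 (nat_lit 0x2000008000)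
 (.cons 1 (nat_lit 0x5000050140)
 (.cons 1 (nat_lit 0x2800428085)
 (.cons 1 (nat_lit 0x5010250142)
 (.cons 1 (nat_lit 0x20424214a0)
 (.cons 5 (nat_lit 0x601000000)
 (.cons 10 (nat_lit 0x4a0000e)
 (.cons 20 (nat_lit 0xb6582)
 .nil)))))))))))
noncomputable def xa58 : Net := (.cons 20 (nat_lit 0x5805c)
 (.cons 10 (nat_lit 0x1540021c)
 (.cons 5 (nat_lit 0x541401017)
 (.cons 1 (nat_lit 0x20)
 (.cons 1 (nat_lit 0x50048)
 (.cons 1 (nat_lit 0x2942020484)
 (.cons 1 (nat_lit 0x5284850902)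
 (.cons 1 (nat_lit 0x942001481)
 (.cons 5 (nat_lit 0x201401000)
 (.cons 10 (nat_lit 0x10400284)
 (.cons 20 (nat_lit 0x3e44c)
 .nil)))))))))))
noncomputable def xa59 : Net := (.cons 20 (nat_lit 0xff800)
 (.cons 10 (nat_lit 0x22e003f0)
 (.cons 5 (nat_lit 0x401900000)
 (.cons 1 (nat_lit 0x2000000)
 (.cons 1 (nat_lit 0x4a00800)
 (.cons 1 (nat_lit 0x148501400)
 (.cons 1 (nat_lit 0x294200802)
 (.cons 1 (nat_lit 0x21425294a0)
 (.cons 5 (nat_lit 0x400000000)
 (.cons 10 (nat_lit 0x22e00000)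
 (.cons 20 (nat_lit 0xfe000)
 .nil)))))))))))
noncomputable def xa60 : Net := (.cons 20 (nat_lit 0xdb20)
 (.cons 10 (nat_lit 0x18002ae)
 (.cons 5 (nat_lit 0x741005004)
 (.cons 1 (nat_lit 0x508000)
 (.cons 1 (nat_lit 0xa50002)
 (.cons 1 (nat_lit 0x100520005)
 (.cons 1 (nat_lit 0x90a52902)
 (.cons 1 (nat_lit 0x2102508020)
 (.cons 5 (nat_lit 0x301005004)
 (.cons 10 (nat_lit 0x18002aa)
 (.cons 20 (nat_lit 0xdb20)
 .nil)))))))))))
noncomputable def xa61 : Net := (.cons 20 (nat_lit 0xdc84d)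
 (.cons 10 (nat_lit 0x170000d2)
 (.cons 5 (nat_lit 0x481c0241a)
 (.cons 1 (nat_lit 0x2000020)
 (.cons 1 (nat_lit 0x4040948)
 (.cons 1 (nat_lit 0x148029084)
 (.cons 1 (nat_lit 0x4090012942)
 (.cons 1 (nat_lit 0x940028420)
 (.cons 5 (nat_lit 0x681406800)
 (.cons 10 (nat_lit 0x7000330)
 (.cons 20 (nat_lit 0x82d50)
 .nil)))))))))))
noncomputable def xa62 : Net := (.cons 20 (nat_lit 0x6c800)
 (.cons 10 (nat_lit 0x24d002d0)
 (.cons 5 (nat_lit 0x581201002)
 (.cons 1 (nat_lit 0x9000080a)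
 (.cons 1 (nat_lit 0x1081014a5)
 (.cons 1 (nat_lit 0x29421094a)
 (.cons 1 (nat_lit 0x1404000a0)
 (.cons 5 (nat_lit 0x180401002)
 (.cons 10 (nat_lit 0x94002d0)
 (.cons 20 (nat_lit 0x24800)
 .nil))))))))))
noncomputable def xa63 : Net := (.cons 20 (nat_lit 0xde900)
 (.cons 10 (nat_lit 0x2c900050)
 (.cons 5 (nat_lit 0x4c0904810)
 (.cons 1 (nat_lit 0x100000)
 (.cons 1 (nat_lit 0x5000200000)
 (.cons 1 (nat_lit 0x2800500085)
 (.cons 1 (nat_lit 0x1000a40902)
 (.cons 1 (nat_lit 0x800028005)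
 (.cons 5 (nat_lit 0x580c04810)
 (.cons 10 (nat_lit 0x136001c0)
 (.cons 20 (nat_lit 0xde900)
 .nil)))))))))))
noncomputable def xa64 : Net := (.cons 10 (nat_lit 0x24900380)
 (.cons 5 (nat_lit 0x700107400)
 (.cons 1 (nat_lit 0x100400)
 (.cons 1 (nat_lit 0x4000240800)
 (.cons 1 (nat_lit 0x2902429400)
 (.cons 1 (nat_lit 0x5084852800)
 (.cons 1 (nat_lit 0x84a409084)
 (.cons 5 (nat_lit 0x600002000)
 (.cons 10 (nat_lit 0x1b600380)
 .nil)))))))))
noncomputable def xa65 : Net := (.cons 20 (nat_lit 0x6d514)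
 (.cons 10 (nat_lit 0x3960029a)
 (.cons 5 (nat_lit 0x1c1200c1e)
 (.cons 1 (nat_lit 0x40000001)
 (.cons 1 (nat_lit 0x428000084a)
 (.cons 1 (nat_lit 0x29400094a4)
 (.cons 1 (nat_lit 0x128001284a)
 (.cons 1 (nat_lit 0x8080284a5)
 (.cons 5 (nat_lit 0x48000301c)
 (.cons 10 (nat_lit 0x296003dc)
 (.cons 20 (nat_lit 0x1d400)
 .nil)))))))))))
noncomputable def xws : List (List ℕ) :=
  [W (nat_lit 0x2c0d0140c0040103002),
  W (nat_lit 0xf02c0d0240301402),
  W (nat_lit 0x2c0600404),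
  W (nat_lit 0x2c030040401802),
  W (nat_lit 0x1f0681d0701f06c1a0701d),
  W (nat_lit 0x1b0681e06c1a0701c0701a0701f0701e),
  W (nat_lit 0x9024),
  W (nat_lit 0x741d),
  W (nat_lit 0x8c1f),
  W (nat_lit 0x2509425),
  W (nat_lit 0x20ac01),
  W (nat_lit 0x40ac03),
  W (nat_lit 0x20b401),
  W (nat_lit 0x40b403),
  W (nat_lit 0x20bc01),
  W (nat_lit 0x40bc03),
  W (nat_lit 0x20c401),
  W (nat_lit 0x40c403),
  W (nat_lit 0x20cc01),
  W (nat_lit 0x40cc03),
  W (nat_lit 0x40d403),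
  W (nat_lit 0x20dc01),
  W (nat_lit 0x20e401),
  W (nat_lit 0x40e403),
  W (nat_lit 0x20ec01),
  W (nat_lit 0x40ec03),
  W (nat_lit 0x40f403),
  W (nat_lit 0x20fc01),
  W (nat_lit 0x40fc03),
  W (nat_lit 0x210401),
  W (nat_lit 0x410403),
  W (nat_lit 0x210c01),
  W (nat_lit 0x410c03),
  W (nat_lit 0x211401),
  W (nat_lit 0x411403),
  W (nat_lit 0x211c01),
  W (nat_lit 0x212401),
  W (nat_lit 0x412403),
  W (nat_lit 0x212c01),
  W (nat_lit 0x213401),
  W (nat_lit 0x413403),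
  W (nat_lit 0x213c01),
  W (nat_lit 0x413c03),
  W (nat_lit 0x214401),
  W (nat_lit 0x414403),
  W (nat_lit 0x214c01),
  W (nat_lit 0x416c03),
  W (nat_lit 0x217401),
  W (nat_lit 0x417c03),
  W (nat_lit 0x219401),
  W (nat_lit 0x419403),
  W (nat_lit 0x41b403),
  W (nat_lit 0x41bc03),
  W (nat_lit 0x41c403)]
noncomputable def xns : List Net := [CL.Std.PS43.a0, CL.Std.PS43.a1, CL.Std.PS43.a2, CL.Std.PS43.a3, CL.Std.PS43.a4, CL.Std.PS43.a5, CL.Std.PS43.a6, CL.Std.PS43.a7, CL.Std.PS43.a8, CL.Std.PS43.a9, CL.Std.PS43.a10, CL.Std.PS43.a11, xa12, xa13, xa14, xa15, xa16, xa17, xa18, xa19, xa20, xa21, xa22, xa23, xa24, xa25, xa26, xa27, xa28, xa29, xa30, xa31, xa32, xa33, xa34, xa35, xa36, xa37, xa38, xa39, xa40, xa41, xa42, xa43, xa44, xa45, xa46, xa47, xa48, xa49, xa50, xa51, xa52, xa53, xa54, xa55, xa56, xa57, xa58, xa59, xa60, xa61, xa62, xa63, xa64, xa65]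
noncomputable def xD : List (ℕ × List ℕ) := app CL.Std.PS43.D (mkDefs xws 12)
noncomputable def xchk : List (List ℕ × List ℕ) → Bool := CL.Std.PS43.P.relsB xns
noncomputable def xP_ps : List PcG :=
  [⟨[30], 2, [], [W (nat_lit 0x250842909c1d), W (nat_lit 0x9427), [40], W (nat_lit 0x9421), [36]]⟩,
  ⟨[28], 2, [38], [[38], [32], W (nat_lit 0x9429), [36]]⟩,
  ⟨[38], 2, [], [W (nat_lit 0x9429), W (nat_lit 0x9421), [36]]⟩,
  ⟨[40], 2, [36], [[32], [36]]⟩,
  ⟨[32], 2, [36], [[36]]⟩,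
  ⟨[36], 2, [], []⟩]
noncomputable def xzE0 : List (ℕ × List ℕ) :=
  [(24, [36]),
  (26, [32])]
noncomputable def xP_v0 : Lev :=
  ⟨7, 8, sg (W (nat_lit 0x741b07c1d)), [[32], [34]], 14, 2⟩
noncomputable def xP_v1 : Lev :=
  ⟨10, 4, sg (W (nat_lit 0x8c21)), [[36]], 16, 1⟩
noncomputable def xP_v2 : Lev :=
  ⟨0, 2, sg [36], [], 17, 0⟩
noncomputable def xP_vs3 : List Lev :=
  []
noncomputable def xP_vs2 : List Lev :=
  xP_v2 :: xP_vs3
noncomputable def xP_vs1 : List Lev :=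
  xP_v1 :: xP_vs2
noncomputable def xP_vs : List Lev :=
  xP_v0 :: xP_vs1
noncomputable def xzm5 : ℕ :=
  (nat_lit 0x240040080)
noncomputable def xcz_F : List (List ℕ × ℕ × ℕ) :=
  [([2], xzm5, xzm5)]
noncomputable def xczG_v0 : Lev :=
  ⟨7, 8, sg (W (nat_lit 0x741b07c1d)), [[32], [34]], 14, 2⟩
noncomputable def xczG_v1 : Lev :=
  ⟨0, 8, sg (W (nat_lit 0x842108c21)), [], 19, 0⟩
noncomputable def xczG_vs2 : List Lev :=
  []
noncomputable def xczG_vs1 : List Lev :=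
  xczG_v1 :: xczG_vs2
noncomputable def xczG_vs : List Lev :=
  xczG_v0 :: xczG_vs1
noncomputable def xcz_x : List (ℕ × List ℕ) :=
  [((nat_lit 0xe000), []),
  ((nat_lit 0x30000), [(nat_lit 0xa001411801),
   (nat_lit 0x924104012)]),
  ((nat_lit 0), [(nat_lit 0x800000000),
   (nat_lit 0x2000000000)])]
noncomputable def xcz_G : Gl :=
  ⟨CL.Std.PS43.P, xns, (app xD []), (diag [[24], [26], [28], [30]]), [], [], memM (app xD []) [[36]], true⟩
noncomputable def xcz_s : St :=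
  ⟨(mkS CL.Std.PS43.P.n xczG_vs xcz_x), [[24], [26], [28], [30]], [], mapL Prod.snd xcz_F, memM (app xD []) [[36]], []⟩
noncomputable def xzt9 : ST :=
  (.br 0 [] [] [(18, W (nat_lit 0x1d06c1d)), (30, W (nat_lit 0x741d)), (33, [30]), (7, [])] (.cons (.orb 0 (.orb 1 (.img [4] 0 (.and 2 0 (.br 0 [[36]] [0] [(14, [32])] (.cons (.orb 1 (.img [2] 0 (.and 2 0 (.mis 0))))
 .nil))))))
 (.cons (.orb 0 (.orb 1 (.img [4] 0 (.and 2 0 (.br 0 [[36]] [0] [(21, [])] (.cons (.img [2] 0 (.orb 1 (.and 1 0 (.mis 0))))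
 .nil))))))
 (.cons (.orb 0 (.orb 1 (.img [4] 0 (.and 2 0 (.br 0 [[36]] [0] [(3, W (nat_lit 0x8423))] (.cons (.img [5] 0 (.orb 0 (.and 1 0 (.mis 0))))
 .nil))))))
 (.cons (.orb 0 (.orb 1 (.img [4] 0 (.and 2 0 (.br 0 [[36]] [0] [(0, [])] (.cons .fnd
 .nil))))))
 .nil)))))
noncomputable def dl : ℕ → ℕ :=
  fun i => Nat.add 42 (Nat.mul 2 i)
noncomputable def tT : ℕ :=
  nat_lit 0x8e285d9da998593552ad19293e894d6cc78b5caa8921c1d97c51140ce0a005002c18181275ba2669eb2ba85316a4f6273655248898e17c37076575534503802ca206102aa8adf76665c5184e44a14505cf3a93653222ec29a5482471a78047835826c18c0153aac66b2e75e10957caa48a251119a37064248a079d6da61651238f34c0091c50c1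
noncomputable def tA : ℕ :=
  nat_lit 0x188654803088c101b28010595c00229032860a0a24308a70010815833841d00048f1114901140535858401705024590220325801e4312e80048b1064681021840282ad082910402a3160445226343041110a189485141514004cb90015290138000145a464e68265019003103084e4284420611384740a8234503003210a0964a01803077502208a040b5400d221048b514c0012330510644c428c14094816e104180340568400c685142a1611180a02b8190542139a0220188118044245e0480092c0b38a10664200cc220c1512c8103a51040f08481b52844001a0301e40608e0111181522b0e280e004624090cb38c0011b0205a18204b6060041b01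
noncomputable def tW : ℕ :=
  nat_lit 0x00000000000040000000000000000000000001000000000000000000000000000000000000000040000040040000000000000004000000000040001000001004000000000000000000000000100000000000000000000004000000000000000000000000000000000000000000000000000000000000000000000004004000000000000000000000000000000000000000040000000000000000000000000000001000000000000000000000000000000000000000000000000000000001000000000000000000040000000040000000000001001000000000000000040000000004000040000100040000000040000000000000000000000000000000000040000000000000000000000000000000000000000000000000000000000000000000000000000000000001000000001000000000000000000000000000000000041000000000000000000000000000000000000040000001000000004000000000000000040000000001000100000040040000000000100000000000000000000000000000000000100000000000000000000000000000040000001000004000000000000000000040000000001000100000040040000000000000040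0000000000000000000000000000000000000000000400000000000000000000000000000000000000000000000000000000010000000000000010000000000000000000000000000000001000040000000000000000000000000000000000000000000000000000000000001000001000000000000000000000000000000000000000000000000000000000000000000000000000010000000000400000000000000000000000000000000000000000000000000000000000000000000000400000000000400000000000000000000000041000000000000000000000000000000000000000000000000000000000400000000000000000400000000000000000000000000000000000000000000000010000000000000000400000000000000000000000000000000000000000000000000000000000000000000000000000000000000000000000000400010040000000400000400400000000000000000000000000400010000010040000000010000000000400000000000000000000000000000000000000000000000000000000000000000000000000000000010000000000000000000000400000000000000000000040000000000001000000000000000000000000000000000000000000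00000000000000001000000000000000000000000000000000000000000000000000040000000000000000000000000001000000000000000000000000000000000001000000000000004000000000000000000000000000000000000000004000000000000000000000040000004000001001000000000000000040000000000000040000100040000000000004000000000000000000000000000000000000004000000000000000000000000000000000000000000000000040000000000040000000000000000000000000000001000000040000100100000000000000001000000000040000000001001000000000000001000000000000040000000000000000000000000000000000000000000000000000000000000000000000000040000000000000000000000000000000000001000000000000001000000000000000000000000000000000000000000000000001000001000000100000040040000000000000001000000000100001000000001000000000000000000000000000001000000000000000000001000000000000000000000000004000000040000040040000000000000004000000000040001000001000000000000000000040000000000000000000000000000000040000000000000000000000000000000000000000000000000000000000040000000000000000000000000000000040000000000001000000000000000000000000000000000000000001000000000000000000000000000000000000000040000000000000000000000001000000000000000000000000000000000000000000000001000000000000000000000000000040000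

theorem xzr1 : xchk (pcsR xP_ps []) = true := by decide +kernel
theorem xzr2 : xchk (defRels xzE0) = true := by decide +kernel
theorem xzb3 : bnd (pcsB xD xP_ps []) (leB (app xD xzE0) [[24], [26], [28], [30]] (pcGens xP_ps [])) = true := by decide +kernel
theorem xzc4 : CL.Std.PS43.P.chainB xns xD xP_vs [[24], [26], [28], [30]] = true := by decide +kernel
theorem xzf6 : CL.Std.PS43.P.fixXB xns (diag [[24], [26], [28], [30]]) xcz_F = true := by decide +kernel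
theorem xzc7 : CL.Std.PS43.P.chainB xns xD xczG_vs [[24], [26], [28], [30]] = true := by decide +kernel
theorem xzs8 : ssB CL.Std.PS43.P.N xns xD (mkS CL.Std.PS43.P.n xczG_vs xcz_x) [[24], [26], [28], [30]] = true := by decide +kernel
theorem xzs10 : xcz_G.chk xzt9 xcz_s none = true := by decide +kernel
theorem xzr11 : xchk (comR [[36]] (mapL Prod.snd (diag [[24], [26], [28], [30]]))) = true := by decide +kernel
theorem xzm12 : leB xD [[36]] [[24], [26], [28], [30]] = true := by decide +kernel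
theorem xzr13 : xchk [([42], [36])] = true := by decide +kernel
theorem xzr14 : xchk [([36, 36], [])] = true := by decide +kernel
theorem xze15 : extB CL.Std.PS43.ns xns 12 xws CL.Std.PS43.D = true := by decide +kernel
theorem xzn16 : CL.Std.PS43.P.netsB xns (mkDefs xws 12) = true := by decide +kernel

section
variable {G X : Type*} [Group G] [MulAction G X] {e : ℕ → X} {gs : List G}

theorem xlen {k} (c : Ctx CL.Std.PS43.P e gs CL.Std.PS43.ns CL.Std.PS43.D k) : gs.length = 12 := c.len xze15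

theorem xctx0 {k} (c : Ctx CL.Std.PS43.P e gs CL.Std.PS43.ns CL.Std.PS43.D k) : Ctx CL.Std.PS43.P e (ext gs xws) xns xD chk0 :=
  c.ext rfl xze15 xzn16

theorem xctx {k} (c : Ctx CL.Std.PS43.P e gs CL.Std.PS43.ns CL.Std.PS43.D k) {H : Subgroup G} (hF : Faithful e CL.Std.PS43.P.n H) (hH : ∀ g ∈ gs, g ∈ H) :
    Ctx CL.Std.PS43.P e (ext gs xws) xns xD xchk :=
  (xctx0 c).withB hF (mem_of_mem_ext hH _)

theorem xP_pr (c : Ctx CL.Std.PS43.P e gs xns xD xchk) :
    Rels gs (pcsR xP_ps []) :=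
  (c.rels _ xzr1)

theorem xP_pe (c : Ctx CL.Std.PS43.P e gs xns xD xchk) :
    Rels gs (defRels xzE0) :=
  (c.rels _ xzr2)

theorem xP_pb : bnd (pcsB xD xP_ps []) (leB (app xD xzE0) [[24], [26], [28], [30]] (pcGens xP_ps [])) = true := xzb3

theorem xP_ub (c : Ctx CL.Std.PS43.P e gs xns xD xchk) :
    UB (subW gs [[24], [26], [28], [30]]) 64 :=
  c.pcs (UB.nil gs) (xP_pe c) (xP_pr c) xP_pb (by decide +kernel)

theorem xP_c : CL.Std.PS43.P.chainB xns xD xP_vs [[24], [26], [28], [30]] = true :=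
  xzc4

theorem xP_o : prodL xP_vs 1 = 64 := by decide +kernel

theorem xP_lb (c : Ctx CL.Std.PS43.P e gs xns xD xchk) :
    LB (subW gs [[24], [26], [28], [30]]) 64 :=
  c.lb xP_c xP_o

theorem xP_card (c : Ctx CL.Std.PS43.P e gs xns xD xchk) :
    Nat.card (subW gs [[24], [26], [28], [30]]) = 64 :=
  (xP_ub c).card_eq (xP_lb c)

theorem xczG_c : CL.Std.PS43.P.chainB xns xD xczG_vs [[24], [26], [28], [30]] = true :=
  xzc7

theorem xczG_o : prodL xczG_vs 1 = 64 := by decide +kernel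

theorem xcz (c : Ctx CL.Std.PS43.P e gs xns xD xchk) :
    (subW gs [[24], [26], [28], [30]]) ⊓ Subgroup.centralizer (subW gs [[24], [26], [28], [30]] : Set G) = (subW gs [[36]]) :=
  c.cent (lx := [[24], [26], [28], [30]]) (Rels.nil _) (c.sOk (c.exact xczG_c xczG_o (xP_ub c)) xzs8) (fun _ h => by cases h)
    (c.fixX xzf6) (c.rels _ xzr11) xzm12 xzs10

theorem xz0 (c : Ctx CL.Std.PS43.P e gs xns xD xchk) :
    wordG gs [42] = wordG gs [36] :=
  c.eq xzr13

theorem xzz (c : Ctx CL.Std.PS43.P e gs xns xD xchk) :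
    wordG gs [36, 36] = wordG gs [] :=
  c.eq xzr14

theorem xtop {Γ : Type*} [Group Γ] (f : Nonempty (subW CL.Std.PS43.gs1 [[0], [2]] ≃* Γ)) :
    ∃ (_ : MulAction Γ (Fin CL.Std.PS43.P.n)) (cs : List Γ), Top CL.Std.PS43.P xns xD xchk [[0], [2]] 25920 (eF CL.Std.PS43.P.n) cs := by
  obtain ⟨_, cs, t⟩ := CL.Std.PS43.c1.exists_top (b := 12) (by decide +kernel) (by decide +kernel) ((faithful_eF _).mono le_top) CL.Std.PS43.card (by norm_num) f
  exact ⟨_, _, t.ext (xctx t.c t.fa fun _ _ => trivial) (b := 12) (by decide +kernel) (by decide +kernel)⟩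

end
end CL.P8.GQM

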