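/-
The group `W(E₈)/±1` on the 120 pairs of roots (helper84, S2920).
Generated by tools/pg.
-/
import Cfsg.Agent.Spor.PGStruct
import Cfsg.Agent.Spor.PGCtx

set_option autoImplicit false
set_option maxRecDepth 200000
set_option Elab.async false
set_option linter.unusedVariables false

namespace CL.P8.MW
open CL.PG

def P : Par := ⟨120, 128, 7, 3⟩
theorem hP : P.Ok := by decide
noncomputable def a0 : Net := (.cons 64 (nat_lit 0xff00000000000000)
 (.cons 32 (nat_lit 0xffffff00000000f0000000)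
 (.cons 16 (nat_lit 0xffff0000ffff0000f00000000f0c)
 (.cons 8 (nat_lit 0xff00ff0000000000ff00f000cc)
 (.cons 4 (nat_lit 0xf0f0f0f000000000f000f00)
 (.cons 2 (nat_lit 0x333333330000000000030030)
 (.cons 1 (nat_lit 0x555555550000055050000555)
 (.cons 8 (nat_lit 0xf000cc)
 (.cons 16 (nat_lit 0xf00000000f0c)
 (.cons 32 (nat_lit 0xff00000000000000f0000000)
 (.cons 64 (nat_lit 0xff00000000000000)
 .nil)))))))))))
noncomputable def a1 : Net := (.cons 64 (nat_lit 0xff00000000000000)
 (.cons 32 (nat_lit 0xffffff00000000f0000000)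
 (.cons 16 (nat_lit 0xffff0000ffff0000f00000000f0c)
 (.cons 8 (nat_lit 0xff0000000000ff000000ff00f000cc)
 (.cons 4 (nat_lit 0xf0f0f0f00000000000000000f000f00)
 (.cons 2 (nat_lit 0x33333333000000000000000000030030)
 (.cons 1 (nat_lit 0x55555555000000000000055005055005)
 (.cons 8 (nat_lit 0xf000cc)
 (.cons 16 (nat_lit 0xf00000000f0c)
 (.cons 32 (nat_lit 0xff00000000000000f0000000)
 (.cons 64 (nat_lit 0xff00000000000000)
 .nil)))))))))))
noncomputable def a2 : Net := (.cons 16 (nat_lit 0xfc0000000000)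
 (.cons 8 (nat_lit 0xc0000000fc00c0)
 (.cons 4 (nat_lit 0x3030303030303000003000f000f00)
 (.cons 2 (nat_lit 0x303030303030300333303333303300)
 (.cons 1 (nat_lit 0x500505500550505005454411401100)
 (.cons 4 (nat_lit 0xc0c0c0c0c0c0c00000c0000000000)
 (.cons 8 (nat_lit 0xc0000000fc00c0)
 (.cons 16 (nat_lit 0xf30000000000)
 .nil))))))))
noncomputable def a3 : Net := (.cons 16 (nat_lit 0xf30000000000)
 (.cons 8 (nat_lit 0xc0000000fc00c0)
 (.cons 4 (nat_lit 0x3030303030303000003000f000f00)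
 (.cons 2 (nat_lit 0x30303030303030333033333303300)
 (.cons 1 (nat_lit 0x500505500550505550041405105000)
 (.cons 4 (nat_lit 0xc0c0c0c0c0c0c00000c0000000000)
 (.cons 8 (nat_lit 0xc0000000fc00c0)
 (.cons 16 (nat_lit 0xfc0000000000)
 .nil))))))))
noncomputable def a4 : Net := (.cons 64 (nat_lit 0xff00000000000000)
 (.cons 32 (nat_lit 0xff00000000000000fc3c00)
 (.cons 16 (nat_lit 0xffff00000000000003300000fc30)
 (.cons 8 (nat_lit 0xff00ff00c0000c00c0003c)
 (.cons 4 (nat_lit 0xf00000f0f00000f0c0c0c0000000c00)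
 (.cons 2 (nat_lit 0x33000033330000330330303303300333)
 (.cons 1 (nat_lit 0x55000055550000550440401101014415)
 (.cons 4 (nat_lit 0xc0c0c0000000c00)
 (.cons 8 (nat_lit 0xc0000c00c0003c)
 (.cons 16 (nat_lit 0x3300000fc30)
 (.cons 32 (nat_lit 0xff00000000000000fc3c00)
 (.cons 64 (nat_lit 0xff00000000000000)
 .nil))))))))))))
noncomputable def a5 : Net := (.cons 64 (nat_lit 0xff00000000000000)
 (.cons 32 (nat_lit 0xff00000000000000fc3c00)
 (.cons 16 (nat_lit 0xffff000003300000fc30)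
 (.cons 8 (nat_lit 0xff00ff0000000000c0000c00c0003c)
 (.cons 4 (nat_lit 0xf0f00000f0f000c0c0c0000000c00)
 (.cons 2 (nat_lit 0x333300003333000330303303300333)
 (.cons 1 (nat_lit 0x555500005555000440101401514140)
 (.cons 4 (nat_lit 0xc0c0c0000000c00)
 (.cons 8 (nat_lit 0xc0000c00c0003c)
 (.cons 16 (nat_lit 0x3300000fc30)
 (.cons 32 (nat_lit 0xff00000000000000fc3c00)
 (.cons 64 (nat_lit 0xff00000000000000)
 .nil))))))))))))
noncomputable def a6 : Net := (.cons 32 (nat_lit 0xff300000)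
 (.cons 16 (nat_lit 0xf00000000000)
 (.cons 8 (nat_lit 0x3000ff000000c0)
 (.cons 4 (nat_lit 0xc03030c030c0c03000f0f030c0f00)
 (.cons 2 (nat_lit 0x112222112211110033000022000000)
 (.cons 1 (nat_lit 0x141414141414145050414114500500)
 (.cons 2 (nat_lit 0x222222222222220000000022000000)
 (.cons 4 (nat_lit 0xc0c0c0c0c0c0c000000000c000000)
 (.cons 8 (nat_lit 0x300000000000c0)
 (.cons 16 (nat_lit 0xf00000000000)
 (.cons 32 (nat_lit 0xff300000)
 .nil)))))))))))
noncomputable def a7 : Net := (.cons 32 (nat_lit 0xff300000)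
 (.cons 16 (nat_lit 0xf00000000000)
 (.cons 8 (nat_lit 0x3000ff000000c0)
 (.cons 4 (nat_lit 0x30c0c030c030303000f0f0c0c0f00)
 (.cons 2 (nat_lit 0x221111221122220033000011000000)
 (.cons 1 (nat_lit 0x414141414141415005505041144100)
 (.cons 2 (nat_lit 0x222222222222220000000022000000)
 (.cons 4 (nat_lit 0xc0c0c0c0c0c0c000000000c000000)
 (.cons 8 (nat_lit 0x300000000000c0)
 (.cons 16 (nat_lit 0xf00000000000)
 (.cons 32 (nat_lit 0xff300000)
 .nil)))))))))))
noncomputable def a8 : Net := (.cons 32 (nat_lit 0xff000000000000f3fc0000)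
 (.cons 16 (nat_lit 0xff0000ff0000003ccc0000c000)
 (.cons 8 (nat_lit 0xff000000ff00cc00f300cc0000)
 (.cons 4 (nat_lit 0xc0c000c0003)
 (.cons 2 (nat_lit 0x330033000030003)
 (.cons 4 (nat_lit 0xc0c00000000)
 (.cons 8 (nat_lit 0xc000cc0000)
 (.cons 16 (nat_lit 0x3ccc0000c000)
 (.cons 32 (nat_lit 0xff000000000000f3fc0000)
 .nil)))))))))
noncomputable def a9 : Net := (.cons 64 (nat_lit 0x69b29d3f52c50988)
 (.cons 32 (nat_lit 0x8dbfb0b70000000056000f50)
 (.cons 16 (nat_lit 0x5c360000fb400000f7c2000097f6)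
 (.cons 8 (nat_lit 0xe900f80089007000ee001c000100e8)
 (.cons 4 (nat_lit 0x9010204030b0c040c000a0b010c070d)
 (.cons 2 (nat_lit 0x23200323001203013100203313221)
 (.cons 1 (nat_lit 0x40505041014410144554401010551414)
 (.cons 2 (nat_lit 0x22220222002200000000222)
 (.cons 4 (nat_lit 0x802020808020e0c04060a0008040c0c)
 (.cons 8 (nat_lit 0x30007c0020004000a800da00160082)
 (.cons 16 (nat_lit 0x91520000980000003300000010b0)
 (.cons 32 (nat_lit 0xe5ef9c300000000040240086)
 (.cons 64 (nat_lit 0x696d8219c2c05650)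
 .nil)))))))))))))
noncomputable def a10 : Net := (.cons 32 (nat_lit 0xf0000000)
 (.cons 16 (nat_lit 0xf00300000000)
 (.cons 8 (nat_lit 0x3000c300b00000)
 (.cons 4 (nat_lit 0xf000003000300)
 (.cons 2 (nat_lit 0x33030033003033030030330300300)
 (.cons 1 (nat_lit 0x444444444444440400000000400000)
 (.cons 2 (nat_lit 0x222222222222220200000000200000)
 (.cons 4 (nat_lit 0xc0c00000000)
 (.cons 8 (nat_lit 0xc0000000e00000)
 (.cons 16 (nat_lit 0x300000000000)
 (.cons 32 (nat_lit 0xf0000000)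
 .nil)))))))))))
noncomputable def a11 : Net := (.cons 64 (nat_lit 0x7e00000000000000)
 (.cons 32 (nat_lit 0xff0000000000000f03f000)
 (.cons 16 (nat_lit 0xcccc0000cccc0000ccc000000f30)
 (.cons 8 (nat_lit 0x5a00a500a5005a00c0003c00cf00f0)
 (.cons 4 (nat_lit 0xc0f000c030f000f)
 (.cons 2 (nat_lit 0x30300303030330300300030003300000)
 (.cons 1 (nat_lit 0x14414114144141140000000000000000)
 (.cons 4 (nat_lit 0xc000000000c0000)
 (.cons 8 (nat_lit 0xaa00aa00aa00aa00c0000c003000f0)
 (.cons 16 (nat_lit 0xcccc0000cccc0000ccc000000f30)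
 (.cons 32 (nat_lit 0xff0000000000000f03f000)
 (.cons 64 (nat_lit 0x7e00000000000000)
 .nil))))))))))))
noncomputable def a12 : Net := (.cons 64 (nat_lit 0xff00000000000000)
 (.cons 32 (nat_lit 0xffff0000000000000000)
 (.cons 8 (nat_lit 0xff00ff00ff00ff0000000000000000)
 (.cons 2 (nat_lit 0x33333333333333330000000000000000)
 (.cons 1 (nat_lit 0x55555555555555550001501010041515)
 (.cons 64 (nat_lit 0xff00000000000000)
 .nil))))))
noncomputable def a13 : Net := (.cons 64 (nat_lit 0xff00000000000000)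
 (.cons 32 (nat_lit 0xff00ffff00000000c3f00000)
 (.cons 16 (nat_lit 0xff00000000ff0000f3f000000000)
 (.cons 8 (nat_lit 0xff00ff00ff00ff00f000cc000c0000)
 (.cons 4 (nat_lit 0xc0000030c000000)
 (.cons 2 (nat_lit 0x22222222222222220330030030330303)
 (.cons 1 (nat_lit 0x11111111111111111051000050001515)
 (.cons 2 (nat_lit 0x22222222222222220000000000000000)
 (.cons 4 (nat_lit 0xc0000000c000000)
 (.cons 8 (nat_lit 0xf0000c000c0000)
 (.cons 16 (nat_lit 0xf3f000000000)
 (.cons 32 (nat_lit 0xff000000000000c3f00000)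
 (.cons 64 (nat_lit 0xff00000000000000)
 .nil)))))))))))))
noncomputable def a14 : Net := (.cons 64 (nat_lit 0xf600000000000000)
 (.cons 32 (nat_lit 0x66666699000000000c30c030)
 (.cons 16 (nat_lit 0x9669000096690000fcc000000033)
 (.cons 8 (nat_lit 0xf0000000c0000c)
 (.cons 4 (nat_lit 0xf0f0f0f0000000c000c03030c0f)
 (.cons 2 (nat_lit 0x3000300303003)
 (.cons 4 (nat_lit 0xc000c00000c0c)
 (.cons 8 (nat_lit 0xc00000000000cc)
 (.cons 16 (nat_lit 0xf0f00000f0f00000f0c00000c0c0)
 (.cons 32 (nat_lit 0xff0000000000000c30c030)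
 (.cons 64 (nat_lit 0xf600000000000000)
 .nil)))))))))))
noncomputable def a15 : Net := (.cons 32 (nat_lit 0xff00000000000003c00000)
 (.cons 16 (nat_lit 0xff0000ff00000003c000000000)
 (.cons 8 (nat_lit 0xc00cc0000)
 (.cons 4 (nat_lit 0xc0c000000)
 (.cons 2 (nat_lit 0x30330330003)
 (.cons 4 (nat_lit 0xc0c000000)
 (.cons 8 (nat_lit 0xc00cc0000)
 (.cons 16 (nat_lit 0x3c000000000)
 (.cons 32 (nat_lit 0xff00000000000003c00000)
 .nil)))))))))
noncomputable def a16 : Net := (.cons 4 (nat_lit 0xf0f0f0f0f0f0f0f00000000000000)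
 (.cons 2 (nat_lit 0x333333333333333300000000000000)
 (.cons 1 (nat_lit 0x555555555555555500055551541540)
 .nil)))
noncomputable def a17 : Net := (.cons 64 (nat_lit 0xff00000000000000)
 (.cons 32 (nat_lit 0xff00000000000003c00cc0)
 (.cons 16 (nat_lit 0xffff0000000000000ff000000c0f)
 (.cons 8 (nat_lit 0xc00c000cc)
 (.cons 4 (nat_lit 0xf000f000f000f0000000c0c000f00)
 (.cons 2 (nat_lit 0x330033003300330330030330333303)
 (.cons 1 (nat_lit 0x550055005500550000050540551005)
 (.cons 4 (nat_lit 0xc0c000000)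
 (.cons 8 (nat_lit 0xc00cc00c0)
 (.cons 16 (nat_lit 0xff000003000)
 (.cons 32 (nat_lit 0xff00000000000003c00cc0)
 (.cons 64 (nat_lit 0xff00000000000000)
 .nil))))))))))))
noncomputable def a18 : Net := (.cons 32 (nat_lit 0xff000000000000c3f00cc0)
 (.cons 16 (nat_lit 0xffff0000fff000000c0f)
 (.cons 8 (nat_lit 0xf000000cc)
 (.cons 4 (nat_lit 0xf000f000f000000030c0f000f00)
 (.cons 2 (nat_lit 0x3300330033000330333333033303)
 (.cons 1 (nat_lit 0x5500550055000550555555005500)
 (.cons 8 (nat_lit 0xf0000c00c0)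
 (.cons 16 (nat_lit 0xfff000003000)
 (.cons 32 (nat_lit 0xff000000000000c3f00cc0)
 .nil)))))))))
noncomputable def a19 : Net := (.cons 64 (nat_lit 0xc3788869e73d5f7e)
 (.cons 32 (nat_lit 0xfd20900a00000000ff810200)
 (.cons 16 (nat_lit 0x9eb700001943000078490000c1d6)
 (.cons 8 (nat_lit 0x2f00f9008400e800d4007c00250032)
 (.cons 4 (nat_lit 0x6090e0501050808010407080f03080c)
 (.cons 2 (nat_lit 0x1300001212223103113100302122032)
 (.cons 1 (nat_lit 0x54114141111505145111011541411000)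
 (.cons 2 (nat_lit 0x20202202000000222020000222000)
 (.cons 4 (nat_lit 0xc0806040c040a040206020a000804)
 (.cons 8 (nat_lit 0x68002200cc002800ba002c00300028)
 (.cons 16 (nat_lit 0x3b1800005914000003800000f524)
 (.cons 32 (nat_lit 0xfe64402000000000ff100800)
 (.cons 64 (nat_lit 0xc31b7fc4296c0b00)
 .nil)))))))))))))
noncomputable def a20 : Net := (.cons 64 (nat_lit 0xff00000000000000)
 (.cons 32 (nat_lit 0xff00000000000000fc000000)
 (.cons 16 (nat_lit 0xaaaa0000aaaa0000fcf30000f3f0)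
 (.cons 8 (nat_lit 0x3300330033003300cc003c0003000c)
 (.cons 4 (nat_lit 0x9090606060609090c000f0c00000000)
 (.cons 2 (nat_lit 0x33003300003300333030003030000300)
 (.cons 1 (nat_lit 0x50505050050505055401415041540444)
 (.cons 4 (nat_lit 0xa0a0a0a0a0a0a0a0c00000c00000000)
 (.cons 8 (nat_lit 0xcc00cc00cc00cc00f000c000c00000)
 (.cons 16 (nat_lit 0xaaaa0000aaaa000000f00000f30c)
 (.cons 32 (nat_lit 0xff00000000000000fc000000)
 (.cons 64 (nat_lit 0xff00000000000000)
 .nil))))))))))))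
noncomputable def a21 : Net := (.cons 64 (nat_lit 0xfddf4ebb75c5af74)
 (.cons 32 (nat_lit 0xfe0100000000000003020080)
 (.cons 16 (nat_lit 0xcbcc0000522900003b2200006eac)
 (.cons 8 (nat_lit 0x5f00d1007900ef00c100f50084001a)
 (.cons 4 (nat_lit 0x40a090f010c0b0600090d0802010502)
 (.cons 2 (nat_lit 0x20122223120300120223220012221232)
 (.cons 1 (nat_lit 0x14114104000400045114440404441040)
 (.cons 2 (nat_lit 0x22222000000200020222200200200020)
 (.cons 4 (nat_lit 0x200000c0c0200020a0a08040a00000c)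
 (.cons 8 (nat_lit 0x980000000000f600c0003000a600c8)
 (.cons 16 (nat_lit 0x98c40000378200003b06000034c0)
 (.cons 32 (nat_lit 0xff0000100000000001000408)
 (.cons 64 (nat_lit 0xfd0ea1b68911ee24)
 .nil)))))))))))))
noncomputable def a22 : Net := (.cons 64 (nat_lit 0xbf6c60a9fd1cbb2a)
 (.cons 32 (nat_lit 0x3600000200000000fd000000)
 (.cons 16 (nat_lit 0xbfde00006a8200007f420000fd32)
 (.cons 8 (nat_lit 0x2e002300ad00ab001a005800de00fa)
 (.cons 4 (nat_lit 0x909050c09080006090b08080f050804)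
 (.cons 2 (nat_lit 0x213301123223312031221323322202)
 (.cons 1 (nat_lit 0x14444101111404410515115051111004)
 (.cons 2 (nat_lit 0x200002220002220000020002202002)
 (.cons 4 (nat_lit 0xa0c0a02020404040c00080e04040204)
 (.cons 8 (nat_lit 0x14002800da009c0020002c002800b8)
 (.cons 16 (nat_lit 0x17a0000005080000be200000fdc0)
 (.cons 32 (nat_lit 0xbc00000400000000fd000000)
 (.cons 64 (nat_lit 0xbfb0bc5131889ba2)
 .nil)))))))))))))
noncomputable def a23 : Net := (.cons 64 (nat_lit 0xff00000000000000)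
 (.cons 32 (nat_lit 0xf000000f00000000c0000000)
 (.cons 16 (nat_lit 0xf00f0000f00f0000ff0c00000000)
 (.cons 8 (nat_lit 0xf000f000f000f000300c000f30000)
 (.cons 4 (nat_lit 0xf000f000f000f0f00000c0c030f00)
 (.cons 2 (nat_lit 0x11222121221112123030000333033030)
 (.cons 1 (nat_lit 0x44111414114441411141005154004040)
 (.cons 4 (nat_lit 0xc000000000c00)
 (.cons 8 (nat_lit 0xf000f000f000f000c0000000cc0000)
 (.cons 16 (nat_lit 0x3fc000000000)
 (.cons 32 (nat_lit 0xc0000000)
 (.cons 64 (nat_lit 0xff00000000000000)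
 .nil))))))))))))
noncomputable def a24 : Net := (.cons 64 (nat_lit 0xef00000000000000)
 (.cons 32 (nat_lit 0xf0000f0000000003c000000)
 (.cons 16 (nat_lit 0xff000000ff00000fc0300000000)
 (.cons 8 (nat_lit 0x99009600660069003000fc00c30030)
 (.cons 4 (nat_lit 0xf000f000f000f000c0c0f030c000c00)
 (.cons 2 (nat_lit 0x33300303033030)
 (.cons 1 (nat_lit 0x11444141441114140055411401011010)
 (.cons 4 (nat_lit 0xc000c00)
 (.cons 8 (nat_lit 0xf000f000f000f0000000cc00c00000)
 (.cons 16 (nat_lit 0xfccc00000000)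
 (.cons 32 (nat_lit 0x3c000000)
 (.cons 64 (nat_lit 0xef00000000000000)
 .nil))))))))))))
noncomputable def a25 : Net := (.cons 32 (nat_lit 0xff0f30f0)
 (.cons 16 (nat_lit 0xc0c00000921a)
 (.cons 8 (nat_lit 0xcc0003001600f2)
 (.cons 4 (nat_lit 0xa05050a050a0a030003000503030a)
 (.cons 2 (nat_lit 0x212121212121213330330321323320)
 (.cons 1 (nat_lit 0x444444444444441550100044445410)
 (.cons 2 (nat_lit 0x222222222222220000000020020000)
 (.cons 4 (nat_lit 0xa0a0a0a0a0a0a0000000c00000000)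
 (.cons 8 (nat_lit 0xcc0000000200f8)
 (.cons 16 (nat_lit 0xf00c0000a84a)
 (.cons 32 (nat_lit 0xffc33c30)
 .nil)))))))))))
noncomputable def a26 : Net := (.cons 32 (nat_lit 0xfa200000)
 (.cons 16 (nat_lit 0xf00000000000)
 (.cons 8 (nat_lit 0x6000ff009800c0)
 (.cons 4 (nat_lit 0x30c0c030c030302000f0f0d0c0f00)
 (.cons 2 (nat_lit 0x112222112211111023000002200000)
 (.cons 1 (nat_lit 0x141414141414140000000004100000)
 (.cons 2 (nat_lit 0x222222222222220000000002200000)
 (.cons 4 (nat_lit 0xc0c0c0c0c0c0c0000000004080000)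
 (.cons 8 (nat_lit 0x600000009800c0)
 (.cons 16 (nat_lit 0xf00000000000)
 (.cons 32 (nat_lit 0xfa200000)
 .nil)))))))))))
noncomputable def a27 : Net := (.cons 32 (nat_lit 0x78000000)
 (.cons 16 (nat_lit 0xff3c00000000)
 (.cons 8 (nat_lit 0x3c003000d400c0)
 (.cons 4 (nat_lit 0x60909060906060f0f020f0c000c00)
 (.cons 2 (nat_lit 0x333333333333333033213023103000)
 (.cons 1 (nat_lit 0x411414411441411055401414504100)
 (.cons 4 (nat_lit 0xc00060c00080000)
 (.cons 8 (nat_lit 0xc00000006c00c0)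
 (.cons 16 (nat_lit 0xcf3000000000)
 (.cons 32 (nat_lit 0xb8000000)
 .nil))))))))))
noncomputable def a28 : Net := (.cons 32 (nat_lit 0xe0000000)
 (.cons 16 (nat_lit 0xf00000000000)
 (.cons 8 (nat_lit 0xc000cc00f00000)
 (.cons 4 (nat_lit 0xf0c0c0f000f00)
 (.cons 2 (nat_lit 0x122121122112123103030303203000)
 (.cons 1 (nat_lit 0x144141144114140155444411401100)
 (.cons 4 (nat_lit 0xc000c00)
 (.cons 8 (nat_lit 0x30000000f00000)
 (.cons 16 (nat_lit 0xf00000000000)
 (.cons 32 (nat_lit 0xe0000000)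
 .nil))))))))))
noncomputable def a29 : Net := (.cons 32 (nat_lit 0xf0000000)
 (.cons 16 (nat_lit 0xf00000000000)
 (.cons 8 (nat_lit 0xc300000000)
 (.cons 4 (nat_lit 0xc0c00000000)
 (.cons 2 (nat_lit 0x111111111111113130030310300300)
 (.cons 1 (nat_lit 0x111111111111111145444411101100)
 (.cons 2 (nat_lit 0x222222222222220200000020000000)
 (.cons 4 (nat_lit 0xc0c00000000)
 (.cons 16 (nat_lit 0xf00000000000)
 (.cons 32 (nat_lit 0xf0000000)
 .nil))))))))))
noncomputable def a30 : Net := (.cons 32 (nat_lit 0xd0000000)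
 (.cons 16 (nat_lit 0xf00000000000)
 (.cons 8 (nat_lit 0x3000cc00700000)
 (.cons 4 (nat_lit 0xf0c0c03000300)
 (.cons 2 (nat_lit 0x211212211221210200000000100000)
 (.cons 8 (nat_lit 0x30000000700000)
 (.cons 16 (nat_lit 0xf00000000000)
 (.cons 32 (nat_lit 0xd0000000)
 .nil))))))))
noncomputable def a31 : Net := (.cons 32 (nat_lit 0xf0000000)
 (.cons 16 (nat_lit 0xf00300000000)
 (.cons 8 (nat_lit 0x3000c300b00000)
 (.cons 4 (nat_lit 0xf000003000300)
 (.cons 2 (nat_lit 0x33030033003033030030330300300)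
 (.cons 1 (nat_lit 0x444444444444440400000000400000)
 (.cons 2 (nat_lit 0x222222222222220200000000200000)
 (.cons 4 (nat_lit 0xc0c00000000)
 (.cons 8 (nat_lit 0xc0000000e00000)
 (.cons 16 (nat_lit 0x300000000000)
 (.cons 32 (nat_lit 0xf0000000)
 .nil)))))))))))
noncomputable def a32 : Net := (.cons 16 (nat_lit 0xc00000000000)
 (.cons 8 (nat_lit 0xc0000000c00000)
 (.cons 4 (nat_lit 0xf00000c000c00)
 (.cons 2 (nat_lit 0x33030303003000)
 (.cons 1 (nat_lit 0x411414411441411400000000000000)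
 (.cons 4 (nat_lit 0xc000c00)
 (.cons 8 (nat_lit 0xc0000000c00000)
 (.cons 16 (nat_lit 0xc00000000000)
 .nil))))))))
noncomputable def a33 : Net := (.cons 64 (nat_lit 0x2b0be7ca9ff1dc40)
 (.cons 32 (nat_lit 0xaded94c000000000824d0a40)
 (.cons 16 (nat_lit 0x647e0000377600001fd000003a92)
 (.cons 8 (nat_lit 0xef0047001000a7007e00d800b90030)
 (.cons 4 (nat_lit 0xa040f0202050a00070304000a0c010e)
 (.cons 2 (nat_lit 0x23120023022023002103223121212122)
 (.cons 1 (nat_lit 0x41545014110405501511140040041404)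
 (.cons 2 (nat_lit 0x22020000000000000002200000000002)
 (.cons 4 (nat_lit 0x6040a08000004020c0604000e06080c)
 (.cons 8 (nat_lit 0x640056003c008c00ec009800e400a0)
 (.cons 16 (nat_lit 0x60bc00003ce200004f1000000688)
 (.cons 32 (nat_lit 0xad45ff0000000000d2470658)
 (.cons 64 (nat_lit 0x2b875155b3faf160)
 .nil)))))))))))))
noncomputable def a34 : Net := (.cons 64 (nat_lit 0xdb4dcfd33f4aeaaa)
 (.cons 32 (nat_lit 0xe9f2689900000000e6000000)
 (.cons 16 (nat_lit 0xe7d80000bdb00000d7bd0000b604)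
 (.cons 8 (nat_lit 0x8600a800af004b00e3008e00910014)
 (.cons 4 (nat_lit 0xa010609090909080306080b0f090406)
 (.cons 2 (nat_lit 0x23302102212012101121003232321120)
 (.cons 1 (nat_lit 0x1111015151101415114400111411414)
 (.cons 2 (nat_lit 0x2220020202002200000000202000000)
 (.cons 4 (nat_lit 0x8080e02040a080c000000080c0a0006)
 (.cons 8 (nat_lit 0x1800f000a8000200b6000200080064)
 (.cons 16 (nat_lit 0x9dd00000fd38000091c00000a624)
 (.cons 32 (nat_lit 0x317a619200000000e6000000)
 (.cons 64 (nat_lit 0xdb9961dcaa198798)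
 .nil)))))))))))))
noncomputable def a35 : Net := (.cons 64 (nat_lit 0xb01a7a4da5ca2358)
 (.cons 32 (nat_lit 0xfe00000200000000bd0129a0)
 (.cons 16 (nat_lit 0xffc00000ce8b0000c16800005be0)
 (.cons 8 (nat_lit 0x5c004a00f000c300d100f6004b00c4)
 (.cons 4 (nat_lit 0xf0c0400030f0905010d0a0c0b03020e)
 (.cons 2 (nat_lit 0x10101023212232103321301230010212)
 (.cons 1 (nat_lit 0x41144015541141401410510110544154)
 (.cons 2 (nat_lit 0x22202020002220200200020000000002)
 (.cons 4 (nat_lit 0x4040e040e0008040e0206060a0a0808)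
 (.cons 8 (nat_lit 0x28004a00e00042003600bc004800ec)
 (.cons 16 (nat_lit 0xff5000005f0a0000608200005360)
 (.cons 32 (nat_lit 0xde00000000000000ff0640f2)
 (.cons 64 (nat_lit 0xb0a90b11f1401410)
 .nil)))))))))))))
noncomputable def a36 : Net := (.cons 64 (nat_lit 0x2316759bbfe463b0)
 (.cons 32 (nat_lit 0x924c3f80000000005d000000)
 (.cons 16 (nat_lit 0xf3000000f4400000c2540000d208)
 (.cons 8 (nat_lit 0x9200f4008000a0000400f80002)
 (.cons 4 (nat_lit 0xf0c06040709040207090104000c0000)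
 (.cons 2 (nat_lit 0x1021213302100031323231032011300)
 (.cons 1 (nat_lit 0x5141105501101011511114110101110)
 (.cons 2 (nat_lit 0x222000002202022022220220202220)
 (.cons 4 (nat_lit 0xe060c0c040a08000c080800000c0000)
 (.cons 8 (nat_lit 0x40009000b000800060004000f80000)
 (.cons 16 (nat_lit 0xf0400000f440000052840000ea08)
 (.cons 32 (nat_lit 0x90669b8000000000cd000000)
 (.cons 64 (nat_lit 0x233b78cbbf6056b0)
 .nil)))))))))))))
noncomputable def a37 : Net := (.cons 64 (nat_lit 0xe0e4e5198a7a22f8)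
 (.cons 32 (nat_lit 0xfd00000600000000ff871590)
 (.cons 16 (nat_lit 0xfe160000f6240000ff50000064ce)
 (.cons 8 (nat_lit 0xb600fd00f000e0008b00b6002c0026)
 (.cons 4 (nat_lit 0x205000f0007000f020004060d0c0f02)
 (.cons 2 (nat_lit 0x2132322220220022103221021123020)
 (.cons 1 (nat_lit 0x41451151141141011144140110400110)
 (.cons 2 (nat_lit 0x2002202022202022000220220000000)
 (.cons 4 (nat_lit 0x4060000060200000004040e0c0a0c02)
 (.cons 8 (nat_lit 0x9000f000f0006000dc00bc00640024)
 (.cons 16 (nat_lit 0x97800000b6c00000ffc0000064cc)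
 (.cons 32 (nat_lit 0x9d00000000000000ff153a90)
 (.cons 64 (nat_lit 0xe0616081826220b0)
 .nil)))))))))))))
noncomputable def a38 : Net := (.cons 16 (nat_lit 0xc00000000000)
 (.cons 8 (nat_lit 0xc0000000c00000)
 (.cons 4 (nat_lit 0xf00000c000c00)
 (.cons 2 (nat_lit 0x33030303003000)
 (.cons 1 (nat_lit 0x144141144114140155450505005000)
 (.cons 4 (nat_lit 0xc000c00)
 (.cons 8 (nat_lit 0xc0000000c00000)
 (.cons 16 (nat_lit 0xc00000000000)
 .nil))))))))
noncomputable def a39 : Net := (.cons 64 (nat_lit 0xf875c3c233add4e0)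
 (.cons 32 (nat_lit 0xfc00000000000000ff000000)
 (.cons 16 (nat_lit 0xa3c30000b3100000df000000f340)
 (.cons 8 (nat_lit 0x8500a400e500bb0004002500f100c8)
 (.cons 4 (nat_lit 0x30f080f03000d0f040a0800050b0808)
 (.cons 2 (nat_lit 0x31020031300232330122230221030200)
 (.cons 1 (nat_lit 0x41514041110110414114114110140510)
 (.cons 2 (nat_lit 0x20002020020022220202220200020)
 (.cons 4 (nat_lit 0x60c00000602080a0a02080a04040408)
 (.cons 8 (nat_lit 0x2a00e800940082000400ea007000c0)
 (.cons 16 (nat_lit 0x27580000fb400000f7100000f080)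
 (.cons 32 (nat_lit 0xfc00000000000000ff000002)
 (.cons 64 (nat_lit 0xf86b65cc176abcf8)
 .nil)))))))))))))
noncomputable def a40 : Net := (.cons 64 (nat_lit 0x2a76ce65a62bcf70)
 (.cons 32 (nat_lit 0xfd1681ac00000000cdc00002)
 (.cons 16 (nat_lit 0xf7420000710200009c8c00001d88)
 (.cons 8 (nat_lit 0xf20054009300be00680074005600d8)
 (.cons 4 (nat_lit 0x4070606070406080507050800000300)
 (.cons 2 (nat_lit 0x12031333231112200113321333112320)
 (.cons 1 (nat_lit 0x41145100051110011441141451440410)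
 (.cons 2 (nat_lit 0x20000200000000020022000000200000)
 (.cons 4 (nat_lit 0x40402000e000c00000e000200000802)
 (.cons 8 (nat_lit 0xb000120080003a00b000f2000000aa)
 (.cons 16 (nat_lit 0xf68000005900000048400000af72)
 (.cons 32 (nat_lit 0xfda4823a000000009d202000)
 (.cons 64 (nat_lit 0x2a2bad9de2bfafd0)
 .nil)))))))))))))
noncomputable def a41 : Net := (.cons 64 (nat_lit 0xf77fa5a2e609ff32)
 (.cons 32 (nat_lit 0x7d00000200000000e8000002)
 (.cons 16 (nat_lit 0xd6b9000046c30000de5100005922)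
 (.cons 8 (nat_lit 0xc50041001100b80074001400300002)
 (.cons 4 (nat_lit 0x50202090500020e020a0100000a0900)
 (.cons 2 (nat_lit 0x23313031303322313223300233022102)
 (.cons 1 (nat_lit 0x11515110110451410410444141111110)
 (.cons 2 (nat_lit 0x22020220000202000200000020222220)
 (.cons 4 (nat_lit 0x80804000400000e0c04080200020200)
 (.cons 8 (nat_lit 0xca00a0002600da00b2005c00360018)
 (.cons 16 (nat_lit 0xd45c000003740000fe4800004702)
 (.cons 32 (nat_lit 0xeb00000000000000e0000000)
 (.cons 64 (nat_lit 0xf70f4450acdebfa0)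
 .nil)))))))))))))
noncomputable def a42 : Net := (.cons 64 (nat_lit 0x3ce18fc3755eed3a)
 (.cons 32 (nat_lit 0xff405d0100000000d704022a)
 (.cons 16 (nat_lit 0xb28c00007e080000fd220000bfa2)
 (.cons 8 (nat_lit 0xde00cd0000003d00ff003c00ec000a)
 (.cons 4 (nat_lit 0x30a090f080a01000b08040803000c08)
 (.cons 2 (nat_lit 0x23322313221301332313101113112102)
 (.cons 1 (nat_lit 0x41141445144510551150410441440410)
 (.cons 2 (nat_lit 0x20202220020000002000220202020220)
 (.cons 4 (nat_lit 0x400080e080400000c0a000808000600)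
 (.cons 8 (nat_lit 0x3800d60064003c005000bc00880022)
 (.cons 16 (nat_lit 0xe4800000760800007f000000b710)
 (.cons 32 (nat_lit 0xfb701a200000000054802202)
 (.cons 64 (nat_lit 0x3cee0a5938099b18)
 .nil)))))))))))))
noncomputable def a43 : Net := (.cons 64 (nat_lit 0x3ec73a8515c23838)
 (.cons 32 (nat_lit 0xff20004000000000df000000)
 (.cons 16 (nat_lit 0xeee10000d68900003fb50000fe00)
 (.cons 8 (nat_lit 0xd5006c00e800eb000b0015003c00a8)
 (.cons 4 (nat_lit 0x7090203000004060705000000020000)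
 (.cons 2 (nat_lit 0x21312212223113322213010100332220)
 (.cons 1 (nat_lit 0x11115111545545411451451511514110)
 (.cons 2 (nat_lit 0x20000200000000222002002000020220)
 (.cons 4 (nat_lit 0x6080404000002040a02080000040000)
 (.cons 8 (nat_lit 0x54001c000e00c000420010002800a8)
 (.cons 16 (nat_lit 0x5b880000e648000025300000bf00)
 (.cons 32 (nat_lit 0xdf00400000000000df000002)
 (.cons 64 (nat_lit 0x3ec53a8a1ac13438)
 .nil)))))))))))))
noncomputable def a44 : Net := (.cons 64 (nat_lit 0x3300000000000000)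
 (.cons 32 (nat_lit 0x330000cc0000000000000000)
 (.cons 16 (nat_lit 0x33cc000033cc00000f0000000000)
 (.cons 8 (nat_lit 0xcc00cc00cc00cc000c003000000030)
 (.cons 4 (nat_lit 0xc00000c030300)
 (.cons 2 (nat_lit 0x33003300330033000330000000000000)
 (.cons 1 (nat_lit 0x550101044111100)
 (.cons 4 (nat_lit 0xc000000000000)
 (.cons 8 (nat_lit 0xcc00cc00cc00cc000c000000000030)
 (.cons 16 (nat_lit 0xf0000000000)
 (.cons 64 (nat_lit 0x3300000000000000)
 .nil)))))))))))
noncomputable def a45 : Net := (.cons 64 (nat_lit 0xd9148531c12a80)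
 (.cons 32 (nat_lit 0xc00000000000000089000002)
 (.cons 16 (nat_lit 0xe8800000c00000001aa000006908)
 (.cons 8 (nat_lit 0xe800c00040002c00d0008000240010)
 (.cons 4 (nat_lit 0x204090000030c0c0c0000010100)
 (.cons 2 (nat_lit 0x20020001220002200230000000022000)
 (.cons 1 (nat_lit 0x111040110004110400000144114000)
 (.cons 2 (nat_lit 0x20000220002020200000000202000)
 (.cons 4 (nat_lit 0x20400000008040c0000000a0000)
 (.cons 8 (nat_lit 0xa800c00000002c00d0008000240010)
 (.cons 16 (nat_lit 0xe8800000c0000000122000006908)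
 (.cons 32 (nat_lit 0xc00000000000000089000002)
 (.cons 64 (nat_lit 0xd9148531c12a80)
 .nil)))))))))))))
noncomputable def a46 : Net := (.cons 64 (nat_lit 0x704b34a4d2b81112)
 (.cons 32 (nat_lit 0xe750808000000000dd100204)
 (.cons 16 (nat_lit 0xdf200000e2e20000df1200001a68)
 (.cons 8 (nat_lit 0xf2004e007400fc0058005c0032006e)
 (.cons 4 (nat_lit 0xa0e060600020901080c090f030e000a)
 (.cons 2 (nat_lit 0x30123230320031222002002100022320)
 (.cons 1 (nat_lit 0x1004110545014441444005515514544)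
 (.cons 2 (nat_lit 0x200020020222002000000022002)
 (.cons 4 (nat_lit 0xa0c040600020400080c0000000e0004)
 (.cons 8 (nat_lit 0xf200980014009c0058005c00200068)
 (.cons 16 (nat_lit 0x7d200000820200009d1000001a68)
 (.cons 32 (nat_lit 0xe750808000000000dd100204)
 (.cons 64 (nat_lit 0x704a34a4d2b81112)
 .nil)))))))))))))
noncomputable def a47 : Net := (.cons 64 (nat_lit 0xff00000000000000)
 (.cons 32 (nat_lit 0xff0000ff0000000000000000)
 (.cons 16 (nat_lit 0xffff0000ffff0000000000000000)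
 (.cons 8 (nat_lit 0xff00ff00ff00ff0000000000000000)
 (.cons 2 (nat_lit 0x33333333333333330000000000000000)
 (.cons 1 (nat_lit 0x55555555555555550001501545511510)
 (.cons 64 (nat_lit 0xff00000000000000)
 .nil)))))))
noncomputable def a48 : Net := (.cons 64 (nat_lit 0x407d38cf85a85420)
 (.cons 32 (nat_lit 0xd000000000000000bd000012)
 (.cons 16 (nat_lit 0xbf400000d92500003a4a0000a710)
 (.cons 8 (nat_lit 0xe100f000fc007600c800aa00040078)
 (.cons 4 (nat_lit 0xd0b000a0e010b0a0c0e010a050c020a)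
 (.cons 2 (nat_lit 0x3010020221310013030210102230332)
 (.cons 1 (nat_lit 0x51144014040541404411015014041040)
 (.cons 2 (nat_lit 0x2000020000202002020002022020)
 (.cons 4 (nat_lit 0x200020c040e0a000c080a04040c02)
 (.cons 8 (nat_lit 0xc000f0007600780064000a000200c8)
 (.cons 16 (nat_lit 0xbf400000d54c0000260a0000e712)
 (.cons 32 (nat_lit 0xd000000000000000bd000010)
 (.cons 64 (nat_lit 0x4012286445c31620)
 .nil)))))))))))))
noncomputable def a49 : Net := (.cons 64 (nat_lit 0xfa8f1f1af287563a)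
 (.cons 32 (nat_lit 0x5bc86aca00000000f444c072)
 (.cons 16 (nat_lit 0xdf280000e9070000d38000003690)
 (.cons 8 (nat_lit 0x7200f00032009600b000d000b40022)
 (.cons 4 (nat_lit 0x3000e00030d0a01060007090e000002)
 (.cons 2 (nat_lit 0x21132101312322301311310012132310)
 (.cons 1 (nat_lit 0x11110111115004405411111411110110)
 (.cons 2 (nat_lit 0x2220222220000000202202000000220)
 (.cons 4 (nat_lit 0x6000400000e080a04000a060c000802)
 (.cons 8 (nat_lit 0xb40070005200b0009000e000b000ea)
 (.cons 16 (nat_lit 0x6e02000097880000c60000003028)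
 (.cons 32 (nat_lit 0x4127b00200000000f128a070)
 (.cons 64 (nat_lit 0xfa3f64121c1c42c0)
 .nil)))))))))))))
noncomputable def a50 : Net := (.cons 64 (nat_lit 0x7cefd3895062a9c0)
 (.cons 32 (nat_lit 0xdf8d592100000000bf010402)
 (.cons 16 (nat_lit 0xdb0100005e100000b5b4000020ea)
 (.cons 8 (nat_lit 0xc800f9002c00e4009400d40063008c)
 (.cons 4 (nat_lit 0xe050608060c020b0c080c080a06000e)
 (.cons 2 (nat_lit 0x33102220303012210213123120230022)
 (.cons 1 (nat_lit 0x51044451405544514145415141554154)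
 (.cons 2 (nat_lit 0x2020202200002000220220222000002)
 (.cons 4 (nat_lit 0x8000004020c0a0a040c0c0a0a080000)
 (.cons 8 (nat_lit 0xec00e8004800d80010007000000006)
 (.cons 16 (nat_lit 0xff2400007604000038320000a0d2)
 (.cons 32 (nat_lit 0xfb1a570600000000bf808002)
 (.cons 64 (nat_lit 0x7c8b818bf995cec2)
 .nil)))))))))))))
noncomputable def a51 : Net := (.cons 64 (nat_lit 0x8c7a7d883483e8c4)
 (.cons 32 (nat_lit 0xff00000000000000f8000012)
 (.cons 16 (nat_lit 0xe880000083400000fa1100008830)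
 (.cons 8 (nat_lit 0x7d00c0004100f8003900f80085003c)
 (.cons 4 (nat_lit 0xc0e080d0c0c00000b0f0c080a080d00)
 (.cons 2 (nat_lit 0x20132312001220220203102111220310)
 (.cons 1 (nat_lit 0x41511011415010411045504141414410)
 (.cons 2 (nat_lit 0x22020000020022020002022022220)
 (.cons 4 (nat_lit 0xc0a0802080c000a0000040004000a04)
 (.cons 8 (nat_lit 0x2e00e0004000f8004200740086004c)
 (.cons 16 (nat_lit 0xf0800000834000007a300000d958)
 (.cons 32 (nat_lit 0xff00000000000000f8000012)
 (.cons 64 (nat_lit 0x8c292e8eb429e8c4)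
 .nil)))))))))))))
noncomputable def a52 : Net := (.cons 16 (nat_lit 0xc00000000000)
 (.cons 8 (nat_lit 0xc0000000c00000)
 (.cons 4 (nat_lit 0xf00000c000c00)
 (.cons 2 (nat_lit 0x33030303003000)
 (.cons 1 (nat_lit 0x411414411441411400000000000000)
 (.cons 4 (nat_lit 0xc000c00)
 (.cons 8 (nat_lit 0xc0000000c00000)
 (.cons 16 (nat_lit 0xc00000000000)
 .nil))))))))
noncomputable def a53 : Net := (.cons 64 (nat_lit 0xff00000000000000)
 (.cons 32 (nat_lit 0xff0000ff0000000000000000)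
 (.cons 16 (nat_lit 0xffff0000ffff0000c00000000000)
 (.cons 8 (nat_lit 0xff00ff00ff00ff00c0000000c00000)
 (.cons 4 (nat_lit 0xf0f0f0f0f0f0f0f000f00000c000c00)
 (.cons 2 (nat_lit 0x33333333333333330033030303003000)
 (.cons 1 (nat_lit 0x14411414411441414011040154554150)
 (.cons 4 (nat_lit 0xc000c00)
 (.cons 8 (nat_lit 0xc0000000c00000)
 (.cons 16 (nat_lit 0xc00000000000)
 (.cons 64 (nat_lit 0xff00000000000000)
 .nil)))))))))))
noncomputable def a54 : Net := (.cons 64 (nat_lit 0xff00000000000000)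
 (.cons 32 (nat_lit 0xff0000ff0000000000000000)
 (.cons 16 (nat_lit 0xffff0000ffff0000000000000000)
 (.cons 8 (nat_lit 0xff00ff00ff00ff0000000000000000)
 (.cons 4 (nat_lit 0xf0f0f0f0f0f0f0f0000000000000000)
 (.cons 2 (nat_lit 0x33333333333333330000000000000000)
 (.cons 1 (nat_lit 0x44410455151150)
 (.cons 64 (nat_lit 0xff00000000000000)
 .nil))))))))
noncomputable def a55 : Net := (.cons 64 (nat_lit 0xff00000000000000)
 (.cons 32 (nat_lit 0xff00000000000000fc000000)
 (.cons 16 (nat_lit 0x33330000cccc000030f300003c3c)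
 (.cons 8 (nat_lit 0xff00ff0000000000c000c000c000fc)
 (.cons 4 (nat_lit 0x30c0c03030c0c030c00000300030300)
 (.cons 2 (nat_lit 0x3303003300303303030033033003300)
 (.cons 1 (nat_lit 0x44441111444411114040511544001100)
 (.cons 4 (nat_lit 0xc0c0c0c0c0c0c0c0000000c00000000)
 (.cons 8 (nat_lit 0x3000c000c0003c)
 (.cons 16 (nat_lit 0xf0f00000f0f0000000fc00003c30)
 (.cons 32 (nat_lit 0xff00000000000000fc000000)
 (.cons 64 (nat_lit 0xff00000000000000)
 .nil))))))))))))
noncomputable def a56 : Net := (.cons 64 (nat_lit 0xfe00000000000000)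
 (.cons 32 (nat_lit 0xff00000000000000fc000000)
 (.cons 16 (nat_lit 0xc33c00003cc30000000f0000cffc)
 (.cons 8 (nat_lit 0xcc00cc00cc00cc003c00cc003f0000)
 (.cons 4 (nat_lit 0x9090606060609090c0f0f030c000300)
 (.cons 2 (nat_lit 0x12211221122112213003333033000000)
 (.cons 1 (nat_lit 0x41414141141414140000000000000000)
 (.cons 2 (nat_lit 0x22222222222222220000000000000000)
 (.cons 4 (nat_lit 0xc0c0c0c0c0c0c0c0c0c000c00000000)
 (.cons 8 (nat_lit 0xaa00aa00aa00aa00f0003000f00000)
 (.cons 16 (nat_lit 0xcccc0000cccc00003cc00000cf00)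
 (.cons 32 (nat_lit 0xff00000000000000fc000000)
 (.cons 64 (nat_lit 0xfe00000000000000)
 .nil)))))))))))))
noncomputable def a57 : Net := (.cons 64 (nat_lit 0x9600000000000000)
 (.cons 32 (nat_lit 0xff000000000000000c000000)
 (.cons 16 (nat_lit 0xff000000ff0000000f3000000000)
 (.cons 8 (nat_lit 0x9600690069009600c0000c00030030)
 (.cons 4 (nat_lit 0xc03000000000000)
 (.cons 2 (nat_lit 0x300003000000000)
 (.cons 4 (nat_lit 0xc00000000000000)
 (.cons 8 (nat_lit 0xc0000000000000)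
 (.cons 16 (nat_lit 0xff000000ff0000000f3000000000)
 (.cons 32 (nat_lit 0xff000000000000000c000000)
 (.cons 64 (nat_lit 0x9600000000000000)
 .nil)))))))))))
noncomputable def a58 : Net := (.cons 64 (nat_lit 0xf000000000000000)
 (.cons 32 (nat_lit 0xf0000f0000000000fe800000)
 (.cons 16 (nat_lit 0xf0f00000f0f0000013330000c000)
 (.cons 8 (nat_lit 0xff000000ff0088000a00e10000)
 (.cons 4 (nat_lit 0xf000f000f000f0d080e0f06010f00)
 (.cons 2 (nat_lit 0x10112212212211211230201323033030)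
 (.cons 1 (nat_lit 0x10114414414411410000000040000000)
 (.cons 4 (nat_lit 0x40c00000c0c0c0c)
 (.cons 8 (nat_lit 0xf000f000f000f000ac009000a00000)
 (.cons 16 (nat_lit 0xf0f00000f0f00000c12c0000c000)
 (.cons 32 (nat_lit 0xfe200000)
 (.cons 64 (nat_lit 0xf000000000000000)
 .nil))))))))))))
noncomputable def a59 : Net := (.cons 64 (nat_lit 0xfe00000000000000)
 (.cons 32 (nat_lit 0xff00000000000000fc000000)
 (.cons 16 (nat_lit 0xa5a500005a5a0000c30f0000fffc)
 (.cons 8 (nat_lit 0x69006900960096003f00cc003f003c)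
 (.cons 4 (nat_lit 0xa0a0a0a0a0a0a0a03000c0c0f030300)
 (.cons 2 (nat_lit 0x12212112122121123330300300300300)
 (.cons 1 (nat_lit 0x41414141141414140000000000000000)
 (.cons 2 (nat_lit 0x22222222222222220000000000000000)
 (.cons 4 (nat_lit 0xc0c0c0c0c0c0c0c000c000c00000000)
 (.cons 8 (nat_lit 0xaa00aa00aa00aa0000000c00c0003c)
 (.cons 16 (nat_lit 0xf3300000fc00)
 (.cons 32 (nat_lit 0xff00000000000000fc000000)
 (.cons 64 (nat_lit 0xfe00000000000000)
 .nil)))))))))))))
noncomputable def a60 : Net := (.cons 64 (nat_lit 0xf000000000000000)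
 (.cons 32 (nat_lit 0xf0000f0000000000fe000000)
 (.cons 16 (nat_lit 0xf0f00000f0f00000ff3f0000c000)
 (.cons 8 (nat_lit 0xff000000ff0003000c00f00000)
 (.cons 4 (nat_lit 0xf000f000f000f0303000c00000000)
 (.cons 2 (nat_lit 0x20222222222222220033003332030330)
 (.cons 1 (nat_lit 0x40444444444444440000000004000000)
 (.cons 2 (nat_lit 0x20222222222222220000000002000000)
 (.cons 4 (nat_lit 0xc000c)
 (.cons 8 (nat_lit 0xf000f000f000f000cc003c00f00000)
 (.cons 16 (nat_lit 0xf0f00000f0f0000033cc0000c000)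
 (.cons 32 (nat_lit 0xfe000000)
 (.cons 64 (nat_lit 0xf000000000000000)
 .nil)))))))))))))
noncomputable def a61 : Net := (.cons 16 (nat_lit 0xc00000000000)
 (.cons 8 (nat_lit 0xc0000000c00000)
 (.cons 4 (nat_lit 0xf00000c000c00)
 (.cons 2 (nat_lit 0x33030303003000)
 (.cons 1 (nat_lit 0x411414411441411400000000000000)
 (.cons 4 (nat_lit 0xc000c00)
 (.cons 8 (nat_lit 0xc0000000c00000)
 (.cons 16 (nat_lit 0xc00000000000)
 .nil))))))))
noncomputable def a62 : Net := (.cons 64 (nat_lit 0xfe00000000000000)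
 (.cons 32 (nat_lit 0xff000000000000003c000000)
 (.cons 16 (nat_lit 0xa5a500005a5a0000ff3000003cf0)
 (.cons 8 (nat_lit 0x6900690096009600f3000000ff0000)
 (.cons 4 (nat_lit 0x30c030c0c030c03000f000f0c030c0c)
 (.cons 2 (nat_lit 0x33000033003333003333000333000330)
 (.cons 1 (nat_lit 0x5050505505050500000000000000000)
 (.cons 4 (nat_lit 0xa0a0a0a0a0a0a0a0000000000000c0c)
 (.cons 8 (nat_lit 0xcc00cc00cc00cc00f0003c00c00000)
 (.cons 16 (nat_lit 0xcf3c00003c30)
 (.cons 32 (nat_lit 0xff000000000000003c000000)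
 (.cons 64 (nat_lit 0xfe00000000000000)
 .nil))))))))))))
noncomputable def a63 : Net := (.cons 64 (nat_lit 0x1c520f8e94138bca)
 (.cons 32 (nat_lit 0x2bbeac53000000007962e12b)
 (.cons 16 (nat_lit 0x341f0000bc970000286f00009393)
 (.cons 8 (nat_lit 0x6700ec00f20041004d00bf00950066)
 (.cons 4 (nat_lit 0x40b0b0f0e0908060802050305010208)
 (.cons 2 (nat_lit 0x1202230223032300102123202130021)
 (.cons 1 (nat_lit 0x10404541410540110440014104410)
 (.cons 2 (nat_lit 0x200000020000200220002200200)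
 (.cons 4 (nat_lit 0x40a000004000c02080404000800)
 (.cons 8 (nat_lit 0x74008000ea00d00054007400000040)
 (.cons 16 (nat_lit 0xc26000074a4000022e80000d318)
 (.cons 32 (nat_lit 0x2b1097d6000000007b12f4d8)
 (.cons 64 (nat_lit 0x1c322e740fa0c31c)
 .nil)))))))))))))
noncomputable def a64 : Net := (.cons 64 (nat_lit 0xba45cc8fc3f0bb6d)
 (.cons 32 (nat_lit 0x8440aab00000000101aafae)
 (.cons 16 (nat_lit 0x1d560000316000007a2000001fab)
 (.cons 8 (nat_lit 0x2c00080023002e00a4004d00cf00b2)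
 (.cons 4 (nat_lit 0x10f020c0f080801040d08030e020e0e)
 (.cons 2 (nat_lit 0x21003000013303320223001103003222)
 (.cons 1 (nat_lit 0x5140010400040104004400011444041)
 (.cons 2 (nat_lit 0x20020200020002002000022020020)
 (.cons 4 (nat_lit 0x808000206000402040c00000008000a)
 (.cons 8 (nat_lit 0x3400200030000000ae009c00020090)
 (.cons 16 (nat_lit 0x5020000811000007a60000094a0)
 (.cons 32 (nat_lit 0x2e9e04000000005423d95c)
 (.cons 64 (nat_lit 0xba3cf9ade4c6d240)
 .nil)))))))))))))
noncomputable def a65 : Net := (.cons 64 (nat_lit 0xa0eedefffc0c3840)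
 (.cons 32 (nat_lit 0x3161fe070000000067275308)
 (.cons 16 (nat_lit 0x59b7000056640000465c0000f238)
 (.cons 8 (nat_lit 0x29005300b8008a00b000ed002e00fa)
 (.cons 4 (nat_lit 0x90d0500040a0a080b05060f08030f0f)
 (.cons 2 (nat_lit 0x20311303120301102203311300000101)
 (.cons 1 (nat_lit 0x40511404401400040101144150040110)
 (.cons 2 (nat_lit 0x20200002000020000002000020220)
 (.cons 4 (nat_lit 0xe04080400000c02000a040a0c020e)
 (.cons 8 (nat_lit 0x2000540004000a00c40002000a00aa)
 (.cons 16 (nat_lit 0x68f20000362800007a7800003ce4)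
 (.cons 32 (nat_lit 0x1144e8a2000000003b921ed0)
 (.cons 64 (nat_lit 0xa027fd6dfd000208)
 .nil)))))))))))))
noncomputable def a66 : Net := (.cons 64 (nat_lit 0x2407f7c0db52b6cf)
 (.cons 32 (nat_lit 0x93c9ccba00000000286c34d7)
 (.cons 16 (nat_lit 0x438e00004e8e0000fcda0000fe00)
 (.cons 8 (nat_lit 0xe200c500ba00cc005e0072003400ac)
 (.cons 4 (nat_lit 0xf070c0202060c060c0b0007090f0e06)
 (.cons 2 (nat_lit 0x10233103100311323001001221131023)
 (.cons 1 (nat_lit 0x5451400400410400410401005041001)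
 (.cons 2 (nat_lit 0x202200000220000000200000002002)
 (.cons 4 (nat_lit 0xa000000000400000404080a08080c02)
 (.cons 8 (nat_lit 0x5600f000d200fc00d000f8000e00f2)
 (.cons 16 (nat_lit 0xd2b600000e2c0000c4080000ed00)
 (.cons 32 (nat_lit 0x93be409200000000e8330cce)
 (.cons 64 (nat_lit 0x245637ca150d996e)
 .nil)))))))))))))
noncomputable def a67 : Net := (.cons 64 (nat_lit 0xfe00000000000000)
 (.cons 32 (nat_lit 0xff00000000000000fc000000)
 (.cons 16 (nat_lit 0xcccc0000cccc000030cf0000fccc)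
 (.cons 8 (nat_lit 0x3c00c3003c00c300cc003300330000)
 (.cons 4 (nat_lit 0xa0a05050a0a05050c030f000c0f000c)
 (.cons 2 (nat_lit 0x3333000033333030003003330030)
 (.cons 1 (nat_lit 0x41141441144141140000000000000000)
 (.cons 2 (nat_lit 0x22222222222222220000000000000000)
 (.cons 4 (nat_lit 0xc00000000000000)
 (.cons 8 (nat_lit 0xcc00cc00cc00cc00c0003000000000)
 (.cons 16 (nat_lit 0xf0f00000f0f000003c000000ffc0)
 (.cons 32 (nat_lit 0xff00000000000000fc000000)
 (.cons 64 (nat_lit 0xfe00000000000000)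
 .nil)))))))))))))
noncomputable def a68 : Net := (.cons 64 (nat_lit 0xfe00000000000000)
 (.cons 32 (nat_lit 0xff00000000000000fc000000)
 (.cons 16 (nat_lit 0x69960000966900003c03000003fc)
 (.cons 8 (nat_lit 0xff00ff0000000000fc00fc000000c0)
 (.cons 4 (nat_lit 0x6060909060609090c0f0f0c00030c00)
 (.cons 2 (nat_lit 0x30300303303003033003303000003300)
 (.cons 1 (nat_lit 0x11111111444444440000000000000000)
 (.cons 2 (nat_lit 0x22222222222222220000000000000000)
 (.cons 4 (nat_lit 0xc0c000000000000)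
 (.cons 8 (nat_lit 0x3c00c00000003c)
 (.cons 16 (nat_lit 0x300c00000030)
 (.cons 32 (nat_lit 0xff00000000000000fc000000)
 (.cons 64 (nat_lit 0xfe00000000000000)
 .nil)))))))))))))
noncomputable def a69 : Net := (.cons 64 (nat_lit 0xfe00000000000000)
 (.cons 32 (nat_lit 0xff00000000000000fc000000)
 (.cons 16 (nat_lit 0xf0f00000f0f000003c0f0000fffc)
 (.cons 8 (nat_lit 0xcc00cc00cc00cc003000f3003f00cc)
 (.cons 4 (nat_lit 0x9090606060609090c000f0000000000)
 (.cons 2 (nat_lit 0x12122121121221210033030033300300)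
 (.cons 1 (nat_lit 0x41141441144141140000000000000000)
 (.cons 4 (nat_lit 0xc0c0c0c0c0c0c0c00000000000c0c00)
 (.cons 8 (nat_lit 0xaa00aa00aa00aa003000cc00c000cc)
 (.cons 16 (nat_lit 0xf0f00000f0f00000ccfc0000fc00)
 (.cons 32 (nat_lit 0xff00000000000000fc000000)
 (.cons 64 (nat_lit 0xfe00000000000000)
 .nil))))))))))))
noncomputable def a70 : Net := (.cons 64 (nat_lit 0xfe00000000000000)
 (.cons 32 (nat_lit 0xff00000000000000fc000000)
 (.cons 16 (nat_lit 0xc3c300003c3c0000fffc00003000)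
 (.cons 8 (nat_lit 0xaa005500aa0055003c00cc00ff00c0)
 (.cons 4 (nat_lit 0x50a050a0a050a0500030c000c030c0c)
 (.cons 2 (nat_lit 0x12212112122121120330300030000300)
 (.cons 1 (nat_lit 0x11444411441111440000000000000000)
 (.cons 2 (nat_lit 0x22222222222222220000000000000000)
 (.cons 4 (nat_lit 0xa0a0a0a0a0a0a0a0c0c000000000000)
 (.cons 8 (nat_lit 0xcc00cc00cc00cc003c00c000cc000c)
 (.cons 16 (nat_lit 0x3fcc000033fc)
 (.cons 32 (nat_lit 0xff00000000000000fc000000)
 (.cons 64 (nat_lit 0xfe00000000000000)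
 .nil)))))))))))))
noncomputable def a71 : Net := (.cons 16 (nat_lit 0xc00000000000)
 (.cons 8 (nat_lit 0xc0000000c00000)
 (.cons 4 (nat_lit 0xf00000c000c00)
 (.cons 2 (nat_lit 0x33030303003000)
 (.cons 1 (nat_lit 0x411414411441411400000000000000)
 (.cons 4 (nat_lit 0xc000c00)
 (.cons 8 (nat_lit 0xc0000000c00000)
 (.cons 16 (nat_lit 0xc00000000000)
 .nil))))))))
noncomputable def a72 : Net := (.cons 64 (nat_lit 0xde00000000000000)
 (.cons 32 (nat_lit 0xff000000000000003c000000)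
 (.cons 16 (nat_lit 0xa5a500005a5a00000f3000003cf0)
 (.cons 8 (nat_lit 0x6900690096009600f30030003f0000)
 (.cons 4 (nat_lit 0xa0a0a0a0a0a0a0a000c0c0f03030c0c)
 (.cons 2 (nat_lit 0x33000033003333003030300000000330)
 (.cons 1 (nat_lit 0x5050505505050500000000000000000)
 (.cons 4 (nat_lit 0xa0a0a0a0a0a0a0a000c0c0000000c0c)
 (.cons 8 (nat_lit 0xcc00cc00cc00cc00f0003000000000)
 (.cons 16 (nat_lit 0xf3000003c30)
 (.cons 32 (nat_lit 0xff000000000000003c000000)
 (.cons 64 (nat_lit 0xde00000000000000)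
 .nil))))))))))))
noncomputable def a73 : Net := (.cons 64 (nat_lit 0xff00000000000000)
 (.cons 32 (nat_lit 0xffff00000000000000000000)
 (.cons 16 (nat_lit 0xc00000000000)
 (.cons 8 (nat_lit 0xff00ff00ff00ff00c0000000fc00c0)
 (.cons 4 (nat_lit 0xc0c0c0c0c0c0c0c000000000f000f00)
 (.cons 2 (nat_lit 0x30303030303030300033033333303300)
 (.cons 1 (nat_lit 0x50055050055005050000055500510054)
 (.cons 4 (nat_lit 0xc0c0c0c0c0c0c0c0000000000000000)
 (.cons 8 (nat_lit 0xc0000000fc00c0)
 (.cons 16 (nat_lit 0xc00000000000)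
 (.cons 64 (nat_lit 0xff00000000000000)
 .nil)))))))))))
noncomputable def a74 : Net := (.cons 64 (nat_lit 0xff00000000000000)
 (.cons 32 (nat_lit 0xff00000000000000f0000000)
 (.cons 16 (nat_lit 0xf000000033cc)
 (.cons 8 (nat_lit 0xff00ff000000c00000003000cc)
 (.cons 4 (nat_lit 0x3030c0c0c0c030300000f0f00000000)
 (.cons 2 (nat_lit 0x22221111111122223003000000030030)
 (.cons 1 (nat_lit 0x41414141141414140055505011450450)
 (.cons 2 (nat_lit 0x22222222222222220000000000000000)
 (.cons 4 (nat_lit 0xc0c0c0c0c0c0c0c0000000000000000)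
 (.cons 8 (nat_lit 0xc00000000000c0)
 (.cons 16 (nat_lit 0xf0000000300c)
 (.cons 32 (nat_lit 0xff00000000000000f0000000)
 (.cons 64 (nat_lit 0xff00000000000000)
 .nil)))))))))))))
noncomputable def a75 : Net := (.cons 32 (nat_lit 0xf9080000)
 (.cons 16 (nat_lit 0xf00000000000)
 (.cons 8 (nat_lit 0xf800ff000400c0)
 (.cons 4 (nat_lit 0x609090609060600000f0f09000000)
 (.cons 2 (nat_lit 0x222222222222223330333322303300)
 (.cons 1 (nat_lit 0x444444444444445550141444005000)
 (.cons 2 (nat_lit 0x222222222222220000000022000000)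
 (.cons 8 (nat_lit 0x80000000400c0)
 (.cons 16 (nat_lit 0xf00000000000)
 (.cons 32 (nat_lit 0xf9080000)
 .nil))))))))))
noncomputable def a76 : Net := (.cons 4 (nat_lit 0xf0f0f0f0f0f0f0f00000000000000)
 (.cons 1 (nat_lit 0x555555555555555545111110440440)
 .nil))
noncomputable def a77 : Net := (.cons 64 (nat_lit 0xff00000000000000)
 (.cons 32 (nat_lit 0xff00000000000000f0000000)
 (.cons 16 (nat_lit 0xf03000000ccc)
 (.cons 8 (nat_lit 0xff00ff000000c000ff000000fc)
 (.cons 4 (nat_lit 0x3030303030303030000000000000000)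
 (.cons 2 (nat_lit 0x30303030030303030033333303333330)
 (.cons 1 (nat_lit 0x5055050050550505050414101455410)
 (.cons 4 (nat_lit 0xc0c0c0c0c0c0c0c0000000000000000)
 (.cons 8 (nat_lit 0xc000000000000c)
 (.cons 16 (nat_lit 0x300000000ccc)
 (.cons 32 (nat_lit 0xff00000000000000f0000000)
 (.cons 64 (nat_lit 0xff00000000000000)
 .nil))))))))))))
noncomputable def a78 : Net := (.cons 64 (nat_lit 0xff00000000000000)
 (.cons 32 (nat_lit 0xff00000000000000f0000000)
 (.cons 16 (nat_lit 0xf00000000f0c)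
 (.cons 8 (nat_lit 0xff00ff0000000000ff00f000cc)
 (.cons 4 (nat_lit 0xf0f0f0f000000000f000f00)
 (.cons 2 (nat_lit 0x333333330000000000030030)
 (.cons 1 (nat_lit 0x55555555000000004015050511054450)
 (.cons 8 (nat_lit 0xf000cc)
 (.cons 16 (nat_lit 0xf00000000f0c)
 (.cons 32 (nat_lit 0xff00000000000000f0000000)
 (.cons 64 (nat_lit 0xff00000000000000)
 .nil)))))))))))
noncomputable def a79 : Net := (.cons 16 (nat_lit 0xf30000000000)
 (.cons 8 (nat_lit 0xc0000000fc00c0)
 (.cons 4 (nat_lit 0x3030303030303000003000f000f00)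
 (.cons 2 (nat_lit 0x30303030303030333033333303300)
 (.cons 1 (nat_lit 0x55050055005055005511144104400)
 (.cons 4 (nat_lit 0xc0c0c0c0c0c0c00000c0000000000)
 (.cons 8 (nat_lit 0xc0000000fc00c0)
 (.cons 16 (nat_lit 0xfc0000000000)
 .nil))))))))
noncomputable def a80 : Net := (.cons 32 (nat_lit 0xff0c0000)
 (.cons 16 (nat_lit 0xf00000000000)
 (.cons 8 (nat_lit 0xfc00ff000000c0)
 (.cons 4 (nat_lit 0x906060906090900000f0f06000000)
 (.cons 2 (nat_lit 0x111111111111113330333311303300)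
 (.cons 1 (nat_lit 0x111111111111111141444411141100)
 (.cons 2 (nat_lit 0x222222222222220000000022000000)
 (.cons 8 (nat_lit 0xc0000000000c0)
 (.cons 16 (nat_lit 0xf00000000000)
 (.cons 32 (nat_lit 0xff0c0000)
 .nil))))))))))
noncomputable def a81 : Net := (.cons 16 (nat_lit 0xfc0000000000)
 (.cons 8 (nat_lit 0xc0000000fc00c0)
 (.cons 4 (nat_lit 0x3030303030303000003000f000f00)
 (.cons 2 (nat_lit 0x303030303030300333303333303300)
 (.cons 1 (nat_lit 0x55050055005055550104150400500)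
 (.cons 4 (nat_lit 0xc0c0c0c0c0c0c00000c0000000000)
 (.cons 8 (nat_lit 0xc0000000fc00c0)
 (.cons 16 (nat_lit 0xf30000000000)
 .nil))))))))
noncomputable def a82 : Net := (.cons 32 (nat_lit 0xf9080000)
 (.cons 16 (nat_lit 0xf00000000000)
 (.cons 8 (nat_lit 0xf800ff000400c0)
 (.cons 4 (nat_lit 0x609090609060600000f0f09000000)
 (.cons 2 (nat_lit 0x222222222222223230333323303300)
 (.cons 1 (nat_lit 0x111111111111110100555515505500)
 (.cons 2 (nat_lit 0x222222222222220200000020000000)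
 (.cons 8 (nat_lit 0x80000000400c0)
 (.cons 16 (nat_lit 0xf00000000000)
 (.cons 32 (nat_lit 0xf9080000)
 .nil))))))))))
noncomputable def a83 : Net := (.cons 16 (nat_lit 0xcf0000000000)
 (.cons 8 (nat_lit 0xc0000000fc00c0)
 (.cons 4 (nat_lit 0xc0c0c0c0c0c0c00000c000f000f00)
 (.cons 2 (nat_lit 0x30303030303030333033333303300)
 (.cons 1 (nat_lit 0x500505500550500500055555505500)
 (.cons 4 (nat_lit 0xc0c0c0c0c0c0c00000c0000000000)
 (.cons 8 (nat_lit 0xc0000000fc00c0)
 (.cons 16 (nat_lit 0xcf0000000000)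
 .nil))))))))
noncomputable def a84 : Net := (.cons 16 (nat_lit 0xc00000000000)
 (.cons 8 (nat_lit 0xc0000000fc00c0)
 (.cons 4 (nat_lit 0xc0c0c0c0c0c0c0c0000000f000f00)
 (.cons 2 (nat_lit 0x303030303030303033033333303300)
 (.cons 1 (nat_lit 0x55050055005055000000000000000)
 (.cons 4 (nat_lit 0xc0c0c0c0c0c0c0c00000000000000)
 (.cons 8 (nat_lit 0xc0000000fc00c0)
 (.cons 16 (nat_lit 0xc00000000000)
 .nil))))))))
noncomputable def a85 : Net := (.cons 16 (nat_lit 0xcf0000000000)
 (.cons 8 (nat_lit 0xc0000000fc00c0)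
 (.cons 4 (nat_lit 0xc0c0c0c0c0c0c00000c000f000f00)
 (.cons 2 (nat_lit 0x30303030303030333033333303300)
 (.cons 1 (nat_lit 0x55050055005051055405014504100)
 (.cons 4 (nat_lit 0xc0c0c0c0c0c0c00000c0000000000)
 (.cons 8 (nat_lit 0xc0000000fc00c0)
 (.cons 16 (nat_lit 0xcf0000000000)
 .nil))))))))
noncomputable def a86 : Net := (.cons 1 (nat_lit 0x555555555555555515450501401400)
 .nil)
noncomputable def a87 : Net := (.cons 32 (nat_lit 0xff300000)
 (.cons 16 (nat_lit 0xf00000000000)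
 (.cons 8 (nat_lit 0x3000ff000000c0)
 (.cons 4 (nat_lit 0x30c0c030c030303000f0f0c0c0f00)
 (.cons 2 (nat_lit 0x221111221122220033000011000000)
 (.cons 1 (nat_lit 0x414141414141415005505041144100)
 (.cons 2 (nat_lit 0x222222222222220000000022000000)
 (.cons 4 (nat_lit 0xc0c0c0c0c0c0c000000000c000000)
 (.cons 8 (nat_lit 0x300000000000c0)
 (.cons 16 (nat_lit 0xf00000000000)
 (.cons 32 (nat_lit 0xff300000)
 .nil)))))))))))
noncomputable def a88 : Net := (.cons 32 (nat_lit 0xff300000)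
 (.cons 16 (nat_lit 0xf00000000000)
 (.cons 8 (nat_lit 0x3000ff000000c0)
 (.cons 4 (nat_lit 0xc03030c030c0c03000f0f030c0f00)
 (.cons 2 (nat_lit 0x112222112211110033000022000000)
 (.cons 1 (nat_lit 0x141414141414145050414114500500)
 (.cons 2 (nat_lit 0x222222222222220000000022000000)
 (.cons 4 (nat_lit 0xc0c0c0c0c0c0c000000000c000000)
 (.cons 8 (nat_lit 0x300000000000c0)
 (.cons 16 (nat_lit 0xf00000000000)
 (.cons 32 (nat_lit 0xff300000)
 .nil)))))))))))
noncomputable def a89 : Net := (.cons 16 (nat_lit 0xf30000000000)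
 (.cons 8 (nat_lit 0xc0000000fc00c0)
 (.cons 4 (nat_lit 0x3030303030303000003000f000f00)
 (.cons 2 (nat_lit 0x30303030303030333033333303300)
 (.cons 1 (nat_lit 0x500505500550505550041405105000)
 (.cons 4 (nat_lit 0xc0c0c0c0c0c0c00000c0000000000)
 (.cons 8 (nat_lit 0xc0000000fc00c0)
 (.cons 16 (nat_lit 0xfc0000000000)
 .nil))))))))
noncomputable def a90 : Net := (.cons 16 (nat_lit 0xfc0000000000)
 (.cons 8 (nat_lit 0xc0000000fc00c0)
 (.cons 4 (nat_lit 0x3030303030303000003000f000f00)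
 (.cons 2 (nat_lit 0x303030303030300333303333303300)
 (.cons 1 (nat_lit 0x500505500550505005454411401100)
 (.cons 4 (nat_lit 0xc0c0c0c0c0c0c00000c0000000000)
 (.cons 8 (nat_lit 0xc0000000fc00c0)
 (.cons 16 (nat_lit 0xf30000000000)
 .nil))))))))
noncomputable def a91 : Net := (.cons 64 (nat_lit 0xff00000000000000)
 (.cons 32 (nat_lit 0xffffff00000000f0000000)
 (.cons 16 (nat_lit 0xffff0000ffff0000f00000000f0c)
 (.cons 8 (nat_lit 0xff0000000000ff000000ff00f000cc)
 (.cons 4 (nat_lit 0xf0f0f0f00000000000000000f000f00)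
 (.cons 2 (nat_lit 0x33333333000000000000000000030030)
 (.cons 1 (nat_lit 0x55555555000000000000055005055005)
 (.cons 8 (nat_lit 0xf000cc)
 (.cons 16 (nat_lit 0xf00000000f0c)
 (.cons 32 (nat_lit 0xff00000000000000f0000000)
 (.cons 64 (nat_lit 0xff00000000000000)
 .nil)))))))))))
noncomputable def a92 : Net := (.cons 4 (nat_lit 0xf0f0f0f0f0f0f0f00000000000000)
 (.cons 2 (nat_lit 0x333333333333333300000000000000)
 (.cons 1 (nat_lit 0x555555555555555500055551541540)
 .nil)))
noncomputable def a93 : Net := (.cons 32 (nat_lit 0xff00000000000003c00fc0)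
 (.cons 16 (nat_lit 0xffff000003f00000cc0c)
 (.cons 8 (nat_lit 0x3300330030000c)
 (.cons 4 (nat_lit 0xc0c0c0c0c0c0c0f03000c00000f00)
 (.cons 2 (nat_lit 0x33003300330033003300000030003)
 (.cons 1 (nat_lit 0x500550500550054401554505001100)
 (.cons 4 (nat_lit 0xc0c0c0c0c0c0c0c00000000000000)
 (.cons 8 (nat_lit 0xc00300000000c)
 (.cons 16 (nat_lit 0x3f00000cc0c)
 (.cons 32 (nat_lit 0xff00000000000003c00300)
 .nil))))))))))
noncomputable def a94 : Net := (.cons 64 (nat_lit 0xff00000000000000)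
 (.cons 32 (nat_lit 0xffffffff0000000030303fc0)
 (.cons 16 (nat_lit 0xff000000ff000000f03000003ccf)
 (.cons 8 (nat_lit 0xf000f000f0000c)
 (.cons 4 (nat_lit 0x9090906060606090000000c0c000000)
 (.cons 2 (nat_lit 0x330033003300330000033003000300)
 (.cons 1 (nat_lit 0x550055005500551041401100544104)
 (.cons 4 (nat_lit 0xc0c00000000)
 (.cons 8 (nat_lit 0xf000cc0000)
 (.cons 16 (nat_lit 0xf030000033c0)
 (.cons 32 (nat_lit 0x30303000)
 (.cons 64 (nat_lit 0xff00000000000000)
 .nil))))))))))))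
noncomputable def a95 : Net := (.cons 64 (nat_lit 0xff00000000000000)
 (.cons 32 (nat_lit 0xff00ffff00000000000f0ccc)
 (.cons 16 (nat_lit 0xffff0000300f0000cf30)
 (.cons 8 (nat_lit 0xc000f000c0000f)
 (.cons 4 (nat_lit 0x30303030c0c0c0c00000f0000000c03)
 (.cons 2 (nat_lit 0x11111111222222223003330333033333)
 (.cons 1 (nat_lit 0x14411441144114414010000514410550)
 (.cons 2 (nat_lit 0x22222222222222220000000000000000)
 (.cons 4 (nat_lit 0xc0c0c0c0c0c0c0c0000000000000000)
 (.cons 8 (nat_lit 0xc000f000c000f0)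
 (.cons 16 (nat_lit 0x30000000cf30)
 (.cons 32 (nat_lit 0xff000000000000000f0ccc)
 (.cons 64 (nat_lit 0xff00000000000000)
 .nil)))))))))))))
noncomputable def a96 : Net := (.cons 64 (nat_lit 0xff00000000000000)
 (.cons 32 (nat_lit 0xff00000000000003c00cc0)
 (.cons 16 (nat_lit 0xffff0000000000000ff000000c0f)
 (.cons 8 (nat_lit 0xc00c000cc)
 (.cons 4 (nat_lit 0xf000f000f000f0000000c0c000f00)
 (.cons 2 (nat_lit 0x33003300330033000330030330333303)
 (.cons 1 (nat_lit 0x550055005500550005100554055505)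
 (.cons 4 (nat_lit 0xc0c000000)
 (.cons 8 (nat_lit 0xc00cc00c0)
 (.cons 16 (nat_lit 0xff000003000)
 (.cons 32 (nat_lit 0xff00000000000003c00cc0)
 (.cons 64 (nat_lit 0xff00000000000000)
 .nil))))))))))))
noncomputable def a97 : Net := (.cons 32 (nat_lit 0xf6080000)
 (.cons 16 (nat_lit 0xf00000000000)
 (.cons 8 (nat_lit 0xf2003c00f600c0)
 (.cons 4 (nat_lit 0x906060906090900000c0c00060000)
 (.cons 2 (nat_lit 0x333333333333330202303001323000)
 (.cons 1 (nat_lit 0x555555555555555150050550540500)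
 (.cons 2 (nat_lit 0x200000000020000)
 (.cons 4 (nat_lit 0xc0c00000000)
 (.cons 8 (nat_lit 0x2000000f600c0)
 (.cons 16 (nat_lit 0xf00000000000)
 (.cons 32 (nat_lit 0xf6080000)
 .nil)))))))))))
noncomputable def a98 : Net := (.cons 32 (nat_lit 0xfa100000)
 (.cons 16 (nat_lit 0xf00000000000)
 (.cons 8 (nat_lit 0x5000ff00ec00c0)
 (.cons 4 (nat_lit 0xc03030c030c0c03000f0f0f040f00)
 (.cons 2 (nat_lit 0x221111221122221323000000200000)
 (.cons 1 (nat_lit 0x141414141414141415444411041100)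
 (.cons 2 (nat_lit 0x222222222222220220000000000000)
 (.cons 4 (nat_lit 0xc0c0c0c0c0c0c0400000000040000)
 (.cons 8 (nat_lit 0x50000000ec00c0)
 (.cons 16 (nat_lit 0xf00000000000)
 (.cons 32 (nat_lit 0xfa100000)
 .nil)))))))))))
noncomputable def a99 : Net := (.cons 32 (nat_lit 0xff000000000000000f0ccc)
 (.cons 16 (nat_lit 0xffff0000918f0000cf30)
 (.cons 8 (nat_lit 0xc0007000c0000f)
 (.cons 4 (nat_lit 0xc0c0c030303030a000f0000000c03)
 (.cons 2 (nat_lit 0x222222111111111303332333033333)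
 (.cons 1 (nat_lit 0x144114411441140504550155005154)
 (.cons 2 (nat_lit 0x222222222222220000000000000000)
 (.cons 4 (nat_lit 0xc0c0c0c0c0c0c0a00000000000000)
 (.cons 8 (nat_lit 0xc0007000c000f0)
 (.cons 16 (nat_lit 0x91800000cf30)
 (.cons 32 (nat_lit 0xff000000000000000f0ccc)
 .nil)))))))))))
noncomputable def a100 : Net := (.cons 64 (nat_lit 0xff00000000000000)
 (.cons 32 (nat_lit 0xff00ff0000000000000000)
 (.cons 16 (nat_lit 0xffff0000ffff0000c00000000000)
 (.cons 8 (nat_lit 0xc0000000fc00c0)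
 (.cons 4 (nat_lit 0x303030303030303000000000f000f00)
 (.cons 2 (nat_lit 0x30303030303030300033033333303300)
 (.cons 1 (nat_lit 0x50055050055005054050114405150505)
 (.cons 4 (nat_lit 0xc0c0c0c0c0c0c0c0000000000000000)
 (.cons 8 (nat_lit 0xc0000000fc00c0)
 (.cons 16 (nat_lit 0xc00000000000)
 (.cons 64 (nat_lit 0xff00000000000000)
 .nil)))))))))))
noncomputable def a101 : Net := (.cons 64 (nat_lit 0xff00000000000000)
 (.cons 32 (nat_lit 0xff000000000000cf3f0000)
 (.cons 16 (nat_lit 0xff00000000ff000003f300000000)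
 (.cons 8 (nat_lit 0xf00c300f000c0)
 (.cons 4 (nat_lit 0xa0a0a0a0a0a0a0a0c03000000000f00)
 (.cons 2 (nat_lit 0x11111111222222220303033030030303)
 (.cons 1 (nat_lit 0x41414141414141410115544500054105)
 (.cons 2 (nat_lit 0x22222222222222220000000000000000)
 (.cons 4 (nat_lit 0xc0c0c0c0c0c0c0c000c000c00000000)
 (.cons 8 (nat_lit 0xc003000c000c0)
 (.cons 16 (nat_lit 0xcf000000000)
 (.cons 32 (nat_lit 0xff000000000000cfcf0000)
 (.cons 64 (nat_lit 0xff00000000000000)
 .nil)))))))))))))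
noncomputable def a102 : Net := (.cons 64 (nat_lit 0xff00000000000000)
 (.cons 32 (nat_lit 0xfc0)
 (.cons 16 (nat_lit 0xff000000ff000000c00000000c03)
 (.cons 8 (nat_lit 0xc0003000fc000c)
 (.cons 4 (nat_lit 0xc0c0c0c0c0c0c0c000003000f000300)
 (.cons 2 (nat_lit 0x3300330033003300033000333300000)
 (.cons 1 (nat_lit 0x50505005050505500055114541010445)
 (.cons 4 (nat_lit 0xc0c0c0c0c0c0c0c0000000000000000)
 (.cons 8 (nat_lit 0xc0003000fc0000)
 (.cons 16 (nat_lit 0xc00000000c00)
 (.cons 32 (nat_lit 0x300)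
 (.cons 64 (nat_lit 0xff00000000000000)
 .nil))))))))))))
noncomputable def a103 : Net := (.cons 32 (nat_lit 0xff00ff000000003140030c)
 (.cons 16 (nat_lit 0xff000000ff00007870000034ef)
 (.cons 8 (nat_lit 0x11007300e80084)
 (.cons 4 (nat_lit 0xa05050a050a0a04030d030a0a0b08)
 (.cons 2 (nat_lit 0x33003300330033323110012120200)
 (.cons 1 (nat_lit 0x505005050505505114140151040440)
 (.cons 2 (nat_lit 0x200020002000020)
 (.cons 4 (nat_lit 0xc0c0c0c0c0c0c08080600020e0808)
 (.cons 8 (nat_lit 0x84004c00b00080)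
 (.cons 16 (nat_lit 0xcd40000007e8)
 (.cons 32 (nat_lit 0xd200fc0)
 .nil)))))))))))
noncomputable def a104 : Net := (.cons 32 (nat_lit 0xff0000000000000fc30000)
 (.cons 16 (nat_lit 0xff0000ff00000003c000000000)
 (.cons 8 (nat_lit 0xc000c00300000)
 (.cons 4 (nat_lit 0xc000c0000)
 (.cons 2 (nat_lit 0x333333333333333003030333300003)
 (.cons 1 (nat_lit 0x555555555555555150500555040500)
 (.cons 4 (nat_lit 0xc000c0000)
 (.cons 8 (nat_lit 0xc000c00300000)
 (.cons 16 (nat_lit 0x3c000000000)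
 (.cons 32 (nat_lit 0xff0000000000000fc30000)
 .nil))))))))))
noncomputable def a105 : Net := (.cons 32 (nat_lit 0xff00ff0000000000000cc0)
 (.cons 16 (nat_lit 0xff000000ff0000000000003c03)
 (.cons 8 (nat_lit 0xcc)
 (.cons 4 (nat_lit 0xf000f000f000f000000000c000c00)
 (.cons 2 (nat_lit 0x3300330033003300033030000300)
 (.cons 1 (nat_lit 0x5500550055005550550104500500)
 (.cons 4 (nat_lit 0xc000c00)
 (.cons 8 (nat_lit 0xc0)
 (.cons 16 (nat_lit 0x3c00)
 (.cons 32 (nat_lit 0xcc0)
 .nil))))))))))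
noncomputable def a106 : Net := (.cons 32 (nat_lit 0xf9080000)
 (.cons 16 (nat_lit 0xf00000000000)
 (.cons 8 (nat_lit 0xf8003c000400c0)
 (.cons 4 (nat_lit 0x609090609060600000c0c09000000)
 (.cons 2 (nat_lit 0x333333333333330300303033003000)
 (.cons 1 (nat_lit 0x555555555555550500555555505500)
 (.cons 4 (nat_lit 0xc0c00000000)
 (.cons 8 (nat_lit 0x80000000400c0)
 (.cons 16 (nat_lit 0xf00000000000)
 (.cons 32 (nat_lit 0xf9080000)
 .nil))))))))))
noncomputable def a107 : Net := (.cons 32 (nat_lit 0xff000000000000dbf60000)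
 (.cons 16 (nat_lit 0xff0000ff00000061b800000000)
 (.cons 8 (nat_lit 0x9a004400640000)
 (.cons 4 (nat_lit 0xe0e020300020000)
 (.cons 2 (nat_lit 0x222222222222222330310032230303)
 (.cons 1 (nat_lit 0x111111111111110504505151100500)
 (.cons 2 (nat_lit 0x222222222222220000000002200000)
 (.cons 4 (nat_lit 0xe0e020000020000)
 (.cons 8 (nat_lit 0x90004400640000)
 (.cons 16 (nat_lit 0x61b800000000)
 (.cons 32 (nat_lit 0xff000000000000dbf60000)
 .nil)))))))))))
noncomputable def a108 : Net := (.cons 64 (nat_lit 0xff00000000000000)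
 (.cons 32 (nat_lit 0xff000000000000003cc000)
 (.cons 16 (nat_lit 0xff00000000ff00003c3c00000030)
 (.cons 8 (nat_lit 0x3000c000cc00f0)
 (.cons 4 (nat_lit 0x9090909060606060c000c0303000000)
 (.cons 2 (nat_lit 0x22222222222222223030030000033333)
 (.cons 1 (nat_lit 0x11111111111111115000050000051545)
 (.cons 2 (nat_lit 0x22222222222222220000000000000000)
 (.cons 4 (nat_lit 0xc000c0000000000)
 (.cons 8 (nat_lit 0x3000c0000c0000)
 (.cons 16 (nat_lit 0x3c3000000030)
 (.cons 32 (nat_lit 0xff000000000000003cc000)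
 (.cons 64 (nat_lit 0xff00000000000000)
 .nil)))))))))))))
noncomputable def a109 : Net := (.cons 64 (nat_lit 0xff00000000000000)
 (.cons 32 (nat_lit 0xff000000000000c3f00000)
 (.cons 16 (nat_lit 0xff00000000ff0000f3f000000000)
 (.cons 8 (nat_lit 0xf000cc000c0000)
 (.cons 4 (nat_lit 0xc0000030c000000)
 (.cons 2 (nat_lit 0x22222222222222220330030030330303)
 (.cons 1 (nat_lit 0x11111111111111110550050050550505)
 (.cons 2 (nat_lit 0x22222222222222220000000000000000)
 (.cons 4 (nat_lit 0xc0000000c000000)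
 (.cons 8 (nat_lit 0xf0000c000c0000)
 (.cons 16 (nat_lit 0xf3f000000000)
 (.cons 32 (nat_lit 0xff000000000000c3f00000)
 (.cons 64 (nat_lit 0xff00000000000000)
 .nil)))))))))))))
noncomputable def a110 : Net := (.cons 32 (nat_lit 0xff000000000000003cc000)
 (.cons 16 (nat_lit 0xff0000ff0000003c3c00000030)
 (.cons 8 (nat_lit 0x3000c000cc00f0)
 (.cons 4 (nat_lit 0x60606090909090c000c0303000000)
 (.cons 2 (nat_lit 0x222222222222223230230000033333)
 (.cons 1 (nat_lit 0x444444444444440400400000000000)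
 (.cons 2 (nat_lit 0x222222222222220200200000000000)
 (.cons 4 (nat_lit 0xc000c0000000000)
 (.cons 8 (nat_lit 0x3000c0000c0000)
 (.cons 16 (nat_lit 0x3c3000000030)
 (.cons 32 (nat_lit 0xff000000000000003cc000)
 .nil)))))))))))
noncomputable def a111 : Net := (.cons 32 (nat_lit 0xf9080000)
 (.cons 16 (nat_lit 0xf00000000000)
 (.cons 8 (nat_lit 0xf800ff000400c0)
 (.cons 4 (nat_lit 0x609090609060600000f0f09000000)
 (.cons 2 (nat_lit 0x222222222222223230333323303300)
 (.cons 1 (nat_lit 0x111111111111110100555515505500)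
 (.cons 2 (nat_lit 0x222222222222220200000020000000)
 (.cons 8 (nat_lit 0x80000000400c0)
 (.cons 16 (nat_lit 0xf00000000000)
 (.cons 32 (nat_lit 0xf9080000)
 .nil))))))))))
noncomputable def a112 : Net := (.cons 32 (nat_lit 0xd0000000)
 (.cons 16 (nat_lit 0xf00000000000)
 (.cons 8 (nat_lit 0xc300000000)
 (.cons 4 (nat_lit 0xc0c00000000)
 (.cons 2 (nat_lit 0x222222222222223230030320300300)
 (.cons 1 (nat_lit 0x111111111111115150050510500500)
 (.cons 2 (nat_lit 0x222222222222220200000020000000)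
 (.cons 4 (nat_lit 0xc0c00000000)
 (.cons 16 (nat_lit 0xf00000000000)
 (.cons 32 (nat_lit 0xd0000000)
 .nil))))))))))
noncomputable def a113 : Net := (.cons 4 (nat_lit 0xf0f0f0f0f0f0f0f00000000000000)
 (.cons 2 (nat_lit 0x333333333333333300000000000000)
 (.cons 1 (nat_lit 0x555555555555555500055551541540)
 .nil)))
noncomputable def a114 : Net := (.cons 4 (nat_lit 0xf0f0f0f0f0f0f0f00000000000000)
 (.cons 1 (nat_lit 0x50541411041040)
 .nil))
noncomputable def a115 : Net := (.cons 32 (nat_lit 0xd0000000)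
 (.cons 16 (nat_lit 0xf00000000000)
 (.cons 8 (nat_lit 0xc300000000)
 (.cons 4 (nat_lit 0xc0c00000000)
 (.cons 2 (nat_lit 0x222222222222223230030320300300)
 (.cons 1 (nat_lit 0x111111111111115150050510500500)
 (.cons 2 (nat_lit 0x222222222222220200000020000000)
 (.cons 4 (nat_lit 0xc0c00000000)
 (.cons 16 (nat_lit 0xf00000000000)
 (.cons 32 (nat_lit 0xd0000000)
 .nil))))))))))
noncomputable def a116 : Net := (.cons 2 (nat_lit 0x333333333333333300000000000000)
 (.cons 1 (nat_lit 0x555555555555555550514140500500)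
 .nil))
noncomputable def a117 : Net := (.cons 32 (nat_lit 0xe0000000)
 (.cons 16 (nat_lit 0xf00000000000)
 (.cons 8 (nat_lit 0xc300000000)
 (.cons 4 (nat_lit 0xc0c00000000)
 (.cons 2 (nat_lit 0x222222222222223230030320300300)
 (.cons 1 (nat_lit 0x444444444444440400000040000000)
 (.cons 2 (nat_lit 0x222222222222220200000020000000)
 (.cons 4 (nat_lit 0xc0c00000000)
 (.cons 16 (nat_lit 0xf00000000000)
 (.cons 32 (nat_lit 0xe0000000)
 .nil))))))))))
noncomputable def a118 : Net := (.cons 32 (nat_lit 0xff00000000000003c00000)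
 (.cons 16 (nat_lit 0xff0000ff00000003c000000000)
 (.cons 8 (nat_lit 0xc00cc0000)
 (.cons 4 (nat_lit 0xc0c000000)
 (.cons 2 (nat_lit 0x30330330003)
 (.cons 4 (nat_lit 0xc0c000000)
 (.cons 8 (nat_lit 0xc00cc0000)
 (.cons 16 (nat_lit 0x3c000000000)
 (.cons 32 (nat_lit 0xff00000000000003c00000)
 .nil)))))))))
noncomputable def a119 : Net := (.cons 64 (nat_lit 0x7e00000000000000)
 (.cons 32 (nat_lit 0xff0000000000000333f000)
 (.cons 16 (nat_lit 0xaa55000055aa0000f33000000f30)
 (.cons 8 (nat_lit 0x3c00c300c3003c003c0000000c00fc)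
 (.cons 4 (nat_lit 0xc0c000f03030c0f)
 (.cons 2 (nat_lit 0x30030330300303300003000000003033)
 (.cons 1 (nat_lit 0x14144141414114140000000000000000)
 (.cons 2 (nat_lit 0x22222222222222220000000000000000)
 (.cons 4 (nat_lit 0xc000000000c00)
 (.cons 8 (nat_lit 0xaa00aa00aa00aa000c0000000000c0)
 (.cons 16 (nat_lit 0xcccc0000cccc0000f03000000f30)
 (.cons 32 (nat_lit 0xff0000000000000333f000)
 (.cons 64 (nat_lit 0x7e00000000000000)
 .nil)))))))))))))
noncomputable def a120 : Net := (.cons 32 (nat_lit 0xff300000)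
 (.cons 16 (nat_lit 0xf00000000000)
 (.cons 8 (nat_lit 0x3000ff000000c0)
 (.cons 4 (nat_lit 0x30c0c030c030303000f0f0c0c0f00)
 (.cons 2 (nat_lit 0x221111221122220033000011000000)
 (.cons 1 (nat_lit 0x141414141414144105050514501400)
 (.cons 2 (nat_lit 0x222222222222220000000022000000)
 (.cons 4 (nat_lit 0xc0c0c0c0c0c0c000000000c000000)
 (.cons 8 (nat_lit 0x300000000000c0)
 (.cons 16 (nat_lit 0xf00000000000)
 (.cons 32 (nat_lit 0xff300000)
 .nil)))))))))))
noncomputable def a121 : Net := (.cons 32 (nat_lit 0xff300000)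
 (.cons 16 (nat_lit 0xf00000000000)
 (.cons 8 (nat_lit 0x3000ff000000c0)
 (.cons 4 (nat_lit 0xc03030c030c0c03000f0f030c0f00)
 (.cons 2 (nat_lit 0x112222112211110033000022000000)
 (.cons 1 (nat_lit 0x414141414141414150141441145000)
 (.cons 2 (nat_lit 0x222222222222220000000022000000)
 (.cons 4 (nat_lit 0xc0c0c0c0c0c0c000000000c000000)
 (.cons 8 (nat_lit 0x300000000000c0)
 (.cons 16 (nat_lit 0xf00000000000)
 (.cons 32 (nat_lit 0xff300000)
 .nil)))))))))))
noncomputable def a122 : Net := (.cons 16 (nat_lit 0xf30000000000)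
 (.cons 8 (nat_lit 0xc0000000fc00c0)
 (.cons 4 (nat_lit 0x3030303030303000003000f000f00)
 (.cons 2 (nat_lit 0x30303030303030333033333303300)
 (.cons 1 (nat_lit 0x500505500550505550041405105000)
 (.cons 4 (nat_lit 0xc0c0c0c0c0c0c00000c0000000000)
 (.cons 8 (nat_lit 0xc0000000fc00c0)
 (.cons 16 (nat_lit 0xfc0000000000)
 .nil))))))))
noncomputable def a123 : Net := (.cons 64 (nat_lit 0xff00000000000000)
 (.cons 32 (nat_lit 0xff00000000000000fc3c00)
 (.cons 16 (nat_lit 0xffff000003300000fc30)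
 (.cons 8 (nat_lit 0xff00ff0000000000c0000c00c0003c)
 (.cons 4 (nat_lit 0xf00000f0f00000f0c0c0c0000000c00)
 (.cons 2 (nat_lit 0x33000033330000330330303303300333)
 (.cons 1 (nat_lit 0x55000055550000550110404104514410)
 (.cons 4 (nat_lit 0xc0c0c0000000c00)
 (.cons 8 (nat_lit 0xc0000c00c0003c)
 (.cons 16 (nat_lit 0x3300000fc30)
 (.cons 32 (nat_lit 0xff00000000000000fc3c00)
 (.cons 64 (nat_lit 0xff00000000000000)
 .nil))))))))))))
noncomputable def a124 : Net := (.cons 64 (nat_lit 0xff00000000000000)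
 (.cons 32 (nat_lit 0xff00000000000000fc3c00)
 (.cons 16 (nat_lit 0xffff00000000000003300000fc30)
 (.cons 8 (nat_lit 0xff00ff00c0000c00c0003c)
 (.cons 4 (nat_lit 0xf0f00000f0f000c0c0c0000000c00)
 (.cons 2 (nat_lit 0x333300003333000330303303300333)
 (.cons 1 (nat_lit 0x555500005555000110104404014145)
 (.cons 4 (nat_lit 0xc0c0c0000000c00)
 (.cons 8 (nat_lit 0xc0000c00c0003c)
 (.cons 16 (nat_lit 0x3300000fc30)
 (.cons 32 (nat_lit 0xff00000000000000fc3c00)
 (.cons 64 (nat_lit 0xff00000000000000)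
 .nil))))))))))))
noncomputable def a125 : Net := (.cons 16 (nat_lit 0xfc0000000000)
 (.cons 8 (nat_lit 0xc0000000fc00c0)
 (.cons 4 (nat_lit 0x3030303030303000003000f000f00)
 (.cons 2 (nat_lit 0x303030303030300333303333303300)
 (.cons 1 (nat_lit 0x500505500550505005454411401100)
 (.cons 4 (nat_lit 0xc0c0c0c0c0c0c00000c0000000000)
 (.cons 8 (nat_lit 0xc0000000fc00c0)
 (.cons 16 (nat_lit 0xf30000000000)
 .nil))))))))
noncomputable def a126 : Net := (.cons 64 (nat_lit 0xf79f82fe7082980)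
 (.cons 32 (nat_lit 0xc105cc1a00000000ce605f72)
 (.cons 16 (nat_lit 0x1a18000019b60000eb290000f5fc)
 (.cons 8 (nat_lit 0xa8002800d200000002007c00400034)
 (.cons 4 (nat_lit 0x50d0e0a070d0e010d020c0605000808)
 (.cons 2 (nat_lit 0x33112101132011323212023220111200)
 (.cons 1 (nat_lit 0x45044004154141041445404040141010)
 (.cons 2 (nat_lit 0x20000200002020000000000000000)
 (.cons 4 (nat_lit 0x20804040e0e0e0a0c0c0c0400000402)
 (.cons 8 (nat_lit 0xaa008000f00020006000bc00600044)
 (.cons 16 (nat_lit 0x5076000031700000d5280000d46c)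
 (.cons 32 (nat_lit 0xc7a09dd0000000000e30dd12)
 (.cons 64 (nat_lit 0xf3bfc02ab7c2b80)
 .nil)))))))))))))
noncomputable def a127 : Net := (.cons 64 (nat_lit 0xf6efff6026a03d68)
 (.cons 32 (nat_lit 0x7f00800000000000394a8a12)
 (.cons 16 (nat_lit 0x7150000090e90000ad5000000eee)
 (.cons 8 (nat_lit 0xc00060006e00df00a0009d005000f2)
 (.cons 4 (nat_lit 0xf090d00060902080f0d0b0d0c0706)
 (.cons 2 (nat_lit 0x22213220203021120112132002213132)
 (.cons 1 (nat_lit 0x51501540441101101451010144444114)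
 (.cons 2 (nat_lit 0x2000202002000000000002202200)
 (.cons 4 (nat_lit 0x4040c06080c000c080a0c080a00)
 (.cons 8 (nat_lit 0x300000003c008800a400fc00980030)
 (.cons 16 (nat_lit 0x79040000703400008d5c0000cf64)
 (.cons 32 (nat_lit 0xff0808000000000039835492)
 (.cons 64 (nat_lit 0xf6fbff4105307584)
 .nil)))))))))))))
noncomputable def a128 : Net := (.cons 64 (nat_lit 0xb191d56f43d5635e)
 (.cons 32 (nat_lit 0xdb00100600000000fb000000)
 (.cons 16 (nat_lit 0xd972000026f30000afd80000c67e)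
 (.cons 8 (nat_lit 0x1d003f008f00750001005200b400d6)
 (.cons 4 (nat_lit 0x708020b0207010c0d0803020a040708)
 (.cons 2 (nat_lit 0x33121202231232230310013220021202)
 (.cons 1 (nat_lit 0x51400410155411151101045414414554)
 (.cons 2 (nat_lit 0x2000000000222202000000022020002)
 (.cons 4 (nat_lit 0xc020a00000000040c00080002040808)
 (.cons 8 (nat_lit 0x8c0048003a008800b2001000b800a0)
 (.cons 16 (nat_lit 0x31440000170200002f0200008c0c)
 (.cons 32 (nat_lit 0x7b00802400000000ff000000)
 (.cons 64 (nat_lit 0xb1e898524ae3e150)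
 .nil)))))))))))))
noncomputable def a129 : Net := (.cons 64 (nat_lit 0xff00000000000000)
 (.cons 32 (nat_lit 0xff0000ff0000000000000000)
 (.cons 16 (nat_lit 0xffff0000ffff0000000000000000)
 (.cons 8 (nat_lit 0xff00ff00ff00ff0000000000000000)
 (.cons 4 (nat_lit 0xf0f0f0f0f0f0f0f0000000000000000)
 (.cons 2 (nat_lit 0x33333333333333330000000000000000)
 (.cons 1 (nat_lit 0x55555555555555550051040154550550)
 (.cons 64 (nat_lit 0xff00000000000000)
 .nil))))))))
noncomputable def a130 : Net := (.cons 64 (nat_lit 0xff00000000000000)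
 (.cons 32 (nat_lit 0xff0000ff00000000c0000000)
 (.cons 16 (nat_lit 0xffff0000ffff0000f00000000000)
 (.cons 8 (nat_lit 0xff00ff00ff00ff003000cc00300000)
 (.cons 4 (nat_lit 0xf0f0f0f0f0f0f0f000f0c0c03000300)
 (.cons 2 (nat_lit 0x21122121122112120000000000000000)
 (.cons 1 (nat_lit 0x55555555555555551041440114550550)
 (.cons 8 (nat_lit 0x30000000300000)
 (.cons 16 (nat_lit 0xf00000000000)
 (.cons 32 (nat_lit 0xc0000000)
 (.cons 64 (nat_lit 0xff00000000000000)
 .nil)))))))))))
noncomputable def a131 : Net := (.cons 64 (nat_lit 0xff00000000000000)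
 (.cons 32 (nat_lit 0xff00000000000000f0000000)
 (.cons 16 (nat_lit 0xffff0000ffff0000f03000000ccc)
 (.cons 8 (nat_lit 0xff0000000000ff00c000ff000000fc)
 (.cons 4 (nat_lit 0x3030303030303030000000000000000)
 (.cons 2 (nat_lit 0x3030303303030300033333303333330)
 (.cons 1 (nat_lit 0x50500505505005051054051000110114)
 (.cons 4 (nat_lit 0xc0c0c0c0c0c0c0c0000000000000000)
 (.cons 8 (nat_lit 0xc000000000000c)
 (.cons 16 (nat_lit 0x300000000ccc)
 (.cons 32 (nat_lit 0xff00000000000000f0000000)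
 (.cons 64 (nat_lit 0xff00000000000000)
 .nil))))))))))))
noncomputable def a132 : Net := (.cons 64 (nat_lit 0xff00000000000000)
 (.cons 32 (nat_lit 0xffff000000000000f0000000)
 (.cons 16 (nat_lit 0xf0000000c000)
 (.cons 8 (nat_lit 0xff000000ff000000c0003300fc00c0)
 (.cons 4 (nat_lit 0x609060609060909000f0c0c0f0c0f0c)
 (.cons 2 (nat_lit 0x21122121122112120000303030030330)
 (.cons 1 (nat_lit 0x55555555555555555050141414054150)
 (.cons 4 (nat_lit 0xc0c0c0c)
 (.cons 8 (nat_lit 0x30000000fc00c0)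
 (.cons 16 (nat_lit 0xf0000000c000)
 (.cons 32 (nat_lit 0xf0000000)
 (.cons 64 (nat_lit 0xff00000000000000)
 .nil))))))))))))
noncomputable def a133 : Net := (.cons 64 (nat_lit 0xff00000000000000)
 (.cons 32 (nat_lit 0xff00000000000000f0000000)
 (.cons 16 (nat_lit 0xf0000000f03c)
 (.cons 8 (nat_lit 0xff00ff003000c300c000fc)
 (.cons 4 (nat_lit 0x505050505050505000f0f0f030f0300)
 (.cons 2 (nat_lit 0x12121212121212123003030300003300)
 (.cons 1 (nat_lit 0x14141414414141415005444440554404)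
 (.cons 2 (nat_lit 0x22222222222222220000000000000000)
 (.cons 4 (nat_lit 0xc0c0c0c0c0c0c0c00000c0c00000000)
 (.cons 8 (nat_lit 0xc0000000c000f0)
 (.cons 16 (nat_lit 0xf0000000f0fc)
 (.cons 32 (nat_lit 0xff00000000000000f0000000)
 (.cons 64 (nat_lit 0xff00000000000000)
 .nil)))))))))))))
noncomputable def a134 : Net := (.cons 32 (nat_lit 0xff00000000000000ff000300)
 (.cons 16 (nat_lit 0xf303000050f4)
 (.cons 8 (nat_lit 0xff00ff0000000000c000ff000400d4)
 (.cons 4 (nat_lit 0x909060600090606000f0f0f0d030e0c)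
 (.cons 2 (nat_lit 0x3033030000330303030303002002310)
 (.cons 1 (nat_lit 0x44444444001111110140155511445510)
 (.cons 2 (nat_lit 0x22222222002222220000000022000000)
 (.cons 4 (nat_lit 0x804)
 (.cons 8 (nat_lit 0xc00000000c00d4)
 (.cons 16 (nat_lit 0x300000004434)
 (.cons 32 (nat_lit 0xff00000000000000ff0000c0)
 .nil)))))))))))
noncomputable def a135 : Net := (.cons 64 (nat_lit 0xff00000000000000)
 (.cons 32 (nat_lit 0xffff000000000000f0000000)
 (.cons 16 (nat_lit 0xf0000000c000)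
 (.cons 8 (nat_lit 0xff000000ff00000000003c00f00000)
 (.cons 4 (nat_lit 0xf0f0f0f0f0f0f0f00000c0c000c000c)
 (.cons 2 (nat_lit 0x11111111111111113030030330030330)
 (.cons 1 (nat_lit 0x44444444444444441045444440450454)
 (.cons 2 (nat_lit 0x22222222222222220000000000000000)
 (.cons 4 (nat_lit 0xc0c000c000c)
 (.cons 8 (nat_lit 0xf00000)
 (.cons 16 (nat_lit 0xf0000000c000)
 (.cons 32 (nat_lit 0xf0000000)
 (.cons 64 (nat_lit 0xff00000000000000)
 .nil)))))))))))))
noncomputable def a136 : Net := (.cons 32 (nat_lit 0xff00000000000000f4000800)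
 (.cons 16 (nat_lit 0xd200000085bc)
 (.cons 8 (nat_lit 0xff0000000000ff001400c1001000fc)
 (.cons 4 (nat_lit 0x606090900060909060d040f03000308)
 (.cons 2 (nat_lit 0x33333333000000002023323021033030)
 (.cons 1 (nat_lit 0x41411414004114144115414101401404)
 (.cons 2 (nat_lit 0x2020220000202000)
 (.cons 4 (nat_lit 0x404060c0400000c)
 (.cons 8 (nat_lit 0xe4000400b000e0)
 (.cons 16 (nat_lit 0xf1040000e0ac)
 (.cons 32 (nat_lit 0xff00000000000000d5000000)
 .nil)))))))))))
noncomputable def a137 : Net := (.cons 32 (nat_lit 0xfd200000)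
 (.cons 16 (nat_lit 0xf00000000000)
 (.cons 8 (nat_lit 0x3000c3001000c0)
 (.cons 4 (nat_lit 0x505050505050506000303050c0f00)
 (.cons 2 (nat_lit 0x112222112211112103030322300300)
 (.cons 1 (nat_lit 0x414141414141411150505041445000)
 (.cons 2 (nat_lit 0x222222222222222000000020000000)
 (.cons 4 (nat_lit 0xc0c0c0c0c0c0c06000c0c0c000000)
 (.cons 8 (nat_lit 0xc00000008000c0)
 (.cons 16 (nat_lit 0xf00000000000)
 (.cons 32 (nat_lit 0xfd400000)
 .nil)))))))))))
noncomputable def a138 : Net := (.cons 32 (nat_lit 0x31000000)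
 (.cons 16 (nat_lit 0x300000000000)
 (.cons 8 (nat_lit 0x300033000000c0)
 (.cons 4 (nat_lit 0x5050505050505040f0303010c0c00)
 (.cons 2 (nat_lit 0x33000000000000)
 (.cons 1 (nat_lit 0x50505050505051550541401045000)
 (.cons 4 (nat_lit 0xa0a0a0a0a0a0a0800000002000000)
 (.cons 8 (nat_lit 0x300000000000c0)
 (.cons 16 (nat_lit 0x300000000000)
 (.cons 32 (nat_lit 0x32000000)
 .nil))))))))))
noncomputable def a139 : Net := (.cons 32 (nat_lit 0xe0000000)
 (.cons 16 (nat_lit 0xf00300000000)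
 (.cons 8 (nat_lit 0x3000c300f00000)
 (.cons 4 (nat_lit 0xf000003000300)
 (.cons 2 (nat_lit 0x300303300330303330030330000300)
 (.cons 1 (nat_lit 0x444444444444440415454141401400)
 (.cons 2 (nat_lit 0x222222222222220200000000200000)
 (.cons 4 (nat_lit 0xc0c00000000)
 (.cons 8 (nat_lit 0xc0000000f00000)
 (.cons 16 (nat_lit 0x300000000000)
 (.cons 32 (nat_lit 0xe0000000)
 .nil)))))))))))
noncomputable def a140 : Net := (.cons 32 (nat_lit 0xf0000000)
 (.cons 16 (nat_lit 0xf00000000000)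
 (.cons 8 (nat_lit 0x3000cc00b00000)
 (.cons 4 (nat_lit 0xf0c0c03000300)
 (.cons 2 (nat_lit 0x122121122112120100000000200000)
 (.cons 1 (nat_lit 0x555555555555555550414150500500)
 (.cons 8 (nat_lit 0x30000000700000)
 (.cons 16 (nat_lit 0xf00000000000)
 (.cons 32 (nat_lit 0xf0000000)
 .nil)))))))))
noncomputable def a141 : Net := (.cons 32 (nat_lit 0xf0000000)
 (.cons 16 (nat_lit 0xf00300000000)
 (.cons 8 (nat_lit 0x3000c300b00000)
 (.cons 4 (nat_lit 0xf000003000300)
 (.cons 2 (nat_lit 0x33030033003033030030330300300)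
 (.cons 1 (nat_lit 0x444444444444440400000000400000)
 (.cons 2 (nat_lit 0x222222222222220200000000200000)
 (.cons 4 (nat_lit 0xc0c00000000)
 (.cons 8 (nat_lit 0xc0000000e00000)
 (.cons 16 (nat_lit 0x300000000000)
 (.cons 32 (nat_lit 0xf0000000)
 .nil)))))))))))
noncomputable def a142 : Net := (.cons 32 (nat_lit 0xd0000000)
 (.cons 16 (nat_lit 0xf00000000000)
 (.cons 8 (nat_lit 0x3000cc00700000)
 (.cons 4 (nat_lit 0xf0c0c03000300)
 (.cons 2 (nat_lit 0x211212211221210200000000100000)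
 (.cons 8 (nat_lit 0x30000000700000)
 (.cons 16 (nat_lit 0xf00000000000)
 (.cons 32 (nat_lit 0xd0000000)
 .nil))))))))
noncomputable def a143 : Net := (.cons 16 (nat_lit 0xc00000000000)
 (.cons 8 (nat_lit 0xc0000000c00000)
 (.cons 4 (nat_lit 0xf00000c000c00)
 (.cons 2 (nat_lit 0x33030303003000)
 (.cons 1 (nat_lit 0x411414411441411400000000000000)
 (.cons 4 (nat_lit 0xc000c00)
 (.cons 8 (nat_lit 0xc0000000c00000)
 (.cons 16 (nat_lit 0xc00000000000)
 .nil))))))))
noncomputable def a144 : Net := (.cons 32 (nat_lit 0xff00000000000003c00000)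
 (.cons 16 (nat_lit 0xff0000ff00000003c000000000)
 (.cons 8 (nat_lit 0xc00cc0000)
 (.cons 4 (nat_lit 0xc0c000000)
 (.cons 2 (nat_lit 0x30330330003)
 (.cons 4 (nat_lit 0xc0c000000)
 (.cons 8 (nat_lit 0xc00cc0000)
 (.cons 16 (nat_lit 0x3c000000000)
 (.cons 32 (nat_lit 0xff00000000000003c00000)
 .nil)))))))))
noncomputable def a145 : Net := (.cons 64 (nat_lit 0xff00000000000000)
 (.cons 32 (nat_lit 0xffff0000000000000000)
 (.cons 8 (nat_lit 0xff00ff00ff00ff0000000000000000)
 (.cons 2 (nat_lit 0x33333333333333330000000000000000)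
 (.cons 1 (nat_lit 0x55555555555555550001501010041515)
 (.cons 64 (nat_lit 0xff00000000000000)
 .nil))))))
noncomputable def a146 : Net := (.cons 64 (nat_lit 0x7e00000000000000)
 (.cons 32 (nat_lit 0xff0000000000000333f000)
 (.cons 16 (nat_lit 0xaa55000055aa0000f33000000f30)
 (.cons 8 (nat_lit 0x3c00c300c3003c003c0000000c00fc)
 (.cons 4 (nat_lit 0xc0c000f03030c0f)
 (.cons 2 (nat_lit 0x30030330300303300003000000003033)
 (.cons 1 (nat_lit 0x14144141414114140000000000000000)
 (.cons 2 (nat_lit 0x22222222222222220000000000000000)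
 (.cons 4 (nat_lit 0xc000000000c00)
 (.cons 8 (nat_lit 0xaa00aa00aa00aa000c0000000000c0)
 (.cons 16 (nat_lit 0xcccc0000cccc0000f03000000f30)
 (.cons 32 (nat_lit 0xff0000000000000333f000)
 (.cons 64 (nat_lit 0x7e00000000000000)
 .nil)))))))))))))
noncomputable def a147 : Net := (.cons 32 (nat_lit 0xff300000)
 (.cons 16 (nat_lit 0xf00000000000)
 (.cons 8 (nat_lit 0x3000ff000000c0)
 (.cons 4 (nat_lit 0x30c0c030c030303000f0f0c0c0f00)
 (.cons 2 (nat_lit 0x221111221122220033000011000000)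
 (.cons 1 (nat_lit 0x141414141414144105050514501400)
 (.cons 2 (nat_lit 0x222222222222220000000022000000)
 (.cons 4 (nat_lit 0xc0c0c0c0c0c0c000000000c000000)
 (.cons 8 (nat_lit 0x300000000000c0)
 (.cons 16 (nat_lit 0xf00000000000)
 (.cons 32 (nat_lit 0xff300000)
 .nil)))))))))))
noncomputable def a148 : Net := (.cons 16 (nat_lit 0xf30000000000)
 (.cons 8 (nat_lit 0xc0000000fc00c0)
 (.cons 4 (nat_lit 0x3030303030303000003000f000f00)
 (.cons 2 (nat_lit 0x30303030303030333033333303300)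
 (.cons 1 (nat_lit 0x500505500550505550041405105000)
 (.cons 4 (nat_lit 0xc0c0c0c0c0c0c00000c0000000000)
 (.cons 8 (nat_lit 0xc0000000fc00c0)
 (.cons 16 (nat_lit 0xfc0000000000)
 .nil))))))))
noncomputable def a149 : Net := (.cons 32 (nat_lit 0xff300000)
 (.cons 16 (nat_lit 0xf00000000000)
 (.cons 8 (nat_lit 0x3000ff000000c0)
 (.cons 4 (nat_lit 0xc03030c030c0c03000f0f030c0f00)
 (.cons 2 (nat_lit 0x112222112211110033000022000000)
 (.cons 1 (nat_lit 0x141414141414145050414114500500)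
 (.cons 2 (nat_lit 0x222222222222220000000022000000)
 (.cons 4 (nat_lit 0xc0c0c0c0c0c0c000000000c000000)
 (.cons 8 (nat_lit 0x300000000000c0)
 (.cons 16 (nat_lit 0xf00000000000)
 (.cons 32 (nat_lit 0xff300000)
 .nil)))))))))))
noncomputable def a150 : Net := (.cons 64 (nat_lit 0xff00000000000000)
 (.cons 32 (nat_lit 0xff00000000000000fc3c00)
 (.cons 16 (nat_lit 0xffff000003300000fc30)
 (.cons 8 (nat_lit 0xff00ff0000000000c0000c00c0003c)
 (.cons 4 (nat_lit 0xf00000f0f00000f0c0c0c0000000c00)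
 (.cons 2 (nat_lit 0x33000033330000330330303303300333)
 (.cons 1 (nat_lit 0x55000055550000550110404104514410)
 (.cons 4 (nat_lit 0xc0c0c0000000c00)
 (.cons 8 (nat_lit 0xc0000c00c0003c)
 (.cons 16 (nat_lit 0x3300000fc30)
 (.cons 32 (nat_lit 0xff00000000000000fc3c00)
 (.cons 64 (nat_lit 0xff00000000000000)
 .nil))))))))))))
noncomputable def a151 : Net := (.cons 64 (nat_lit 0xff00000000000000)
 (.cons 32 (nat_lit 0xffffff00000000f0000000)
 (.cons 16 (nat_lit 0xffff0000ffff0000f00000000f0c)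
 (.cons 8 (nat_lit 0xff0000000000ff000000ff00f000cc)
 (.cons 4 (nat_lit 0xf0f0f0f00000000000000000f000f00)
 (.cons 2 (nat_lit 0x33333333000000000000000000030030)
 (.cons 1 (nat_lit 0x55555555000000000000055005055005)
 (.cons 8 (nat_lit 0xf000cc)
 (.cons 16 (nat_lit 0xf00000000f0c)
 (.cons 32 (nat_lit 0xff00000000000000f0000000)
 (.cons 64 (nat_lit 0xff00000000000000)
 .nil)))))))))))
noncomputable def a152 : Net := (.cons 16 (nat_lit 0xfc0000000000)
 (.cons 8 (nat_lit 0xc0000000fc00c0)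
 (.cons 4 (nat_lit 0x3030303030303000003000f000f00)
 (.cons 2 (nat_lit 0x303030303030300333303333303300)
 (.cons 1 (nat_lit 0x500505500550505005454411401100)
 (.cons 4 (nat_lit 0xc0c0c0c0c0c0c00000c0000000000)
 (.cons 8 (nat_lit 0xc0000000fc00c0)
 (.cons 16 (nat_lit 0xf30000000000)
 .nil))))))))
noncomputable def a153 : Net := (.cons 4 (nat_lit 0xf0f0f0f0f0f0f0f00000000000000)
 (.cons 2 (nat_lit 0x333333333333333300000000000000)
 (.cons 1 (nat_lit 0x555555555555555500055551541540)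
 .nil)))
noncomputable def a154 : Net := (.cons 64 (nat_lit 0xff00000000000000)
 (.cons 32 (nat_lit 0xff00ffff00000000f3fc3fc3)
 (.cons 16 (nat_lit 0xff00000000ff0000fc3c0000fc0c)
 (.cons 8 (nat_lit 0xff0000000000ff00c000030000000c)
 (.cons 4 (nat_lit 0xf0f000f00000f0f000c0f0c00000f)
 (.cons 2 (nat_lit 0x11111111111111113030033030330030)
 (.cons 1 (nat_lit 0x44111144114444111144140554440540)
 (.cons 2 (nat_lit 0x22222222222222220000000000000000)
 (.cons 4 (nat_lit 0xc000c0000000000)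
 (.cons 8 (nat_lit 0x3c00300000000c)
 (.cons 16 (nat_lit 0xff000000ff0000003ccc0000f00c)
 (.cons 32 (nat_lit 0xff000000000000f3fcc0c0)
 (.cons 64 (nat_lit 0xff00000000000000)
 .nil)))))))))))))
noncomputable def a155 : Net := (.cons 64 (nat_lit 0xff00000000000000)
 (.cons 32 (nat_lit 0xff00ffff0000000030cf0ccc)
 (.cons 16 (nat_lit 0xff00000000ff00003fcf0000ff00)
 (.cons 8 (nat_lit 0xff00ff000000c3000000cc00cf)
 (.cons 4 (nat_lit 0xf00000f000f0f000c00000c030c0c0f)
 (.cons 2 (nat_lit 0x333300330000330003003300300330)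
 (.cons 1 (nat_lit 0x555500550000555100404511414055)
 (.cons 4 (nat_lit 0xc0c)
 (.cons 8 (nat_lit 0xcc003000fc0000)
 (.cons 16 (nat_lit 0xff000000ff0000003f0000003000)
 (.cons 32 (nat_lit 0xff00000000000030cf0ccc)
 (.cons 64 (nat_lit 0xff00000000000000)
 .nil))))))))))))
noncomputable def a156 : Net := (.cons 64 (nat_lit 0xff00000000000000)
 (.cons 32 (nat_lit 0xff0000000000000cc3fc3f)
 (.cons 16 (nat_lit 0xf0f00000f0f0000c33c00003f3c)
 (.cons 8 (nat_lit 0x9600960069006900c0000c000000cc)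
 (.cons 4 (nat_lit 0xf0f000000000f0f0c00000f03000f0f)
 (.cons 2 (nat_lit 0x11222211112222110333000303303003)
 (.cons 1 (nat_lit 0x41414141414141410500044004511510)
 (.cons 2 (nat_lit 0x22222222222222220000000000000000)
 (.cons 4 (nat_lit 0xc0c0c0c0c0c0c0c000000000c00000c)
 (.cons 8 (nat_lit 0xaa00aa00aa00aa00c0003c000c00fc)
 (.cons 16 (nat_lit 0xcccc0000cccc0000cf000000cf3c)
 (.cons 32 (nat_lit 0xff0000000000000c000fcc)
 (.cons 64 (nat_lit 0xff00000000000000)
 .nil)))))))))))))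
noncomputable def a157 : Net := (.cons 64 (nat_lit 0xff00000000000000)
 (.cons 32 (nat_lit 0xff00ffff000000000fffc000)
 (.cons 16 (nat_lit 0xff000000ff000000c3f00000fc00)
 (.cons 8 (nat_lit 0xff00ff0000000000c000c000c3)
 (.cons 4 (nat_lit 0xc0c0c0c0c0c0c0c0c0c0c000c000f03)
 (.cons 2 (nat_lit 0x30303030303030300000000330330330)
 (.cons 1 (nat_lit 0x50505050050505054115010144440001)
 (.cons 4 (nat_lit 0xc0c0c0c0c0c0c0c000000000c000c00)
 (.cons 8 (nat_lit 0xc000c00030)
 (.cons 16 (nat_lit 0xff000000ff000000c0c00000fc00)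
 (.cons 32 (nat_lit 0xff0000000000000fffc000)
 (.cons 64 (nat_lit 0xff00000000000000)
 .nil))))))))))))
noncomputable def a158 : Net := (.cons 32 (nat_lit 0xffff000000000008cf328b)
 (.cons 16 (nat_lit 0xff000000ff000000018c000096e6)
 (.cons 8 (nat_lit 0xff000000ff0000002c0099009300e2)
 (.cons 4 (nat_lit 0x50500050505050507080a070e040f07)
 (.cons 2 (nat_lit 0x11220011221122222300313211233031)
 (.cons 1 (nat_lit 0x41410014414114140414501445014110)
 (.cons 2 (nat_lit 0x22220022222222220220000020020000)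
 (.cons 4 (nat_lit 0xc0c000c0c0c0c0c04040404020e0c02)
 (.cons 8 (nat_lit 0x58009e0088001c)
 (.cons 16 (nat_lit 0xff000000ff0000000438000025a6)
 (.cons 32 (nat_lit 0x403fc428)
 .nil)))))))))))
noncomputable def a159 : Net := (.cons 32 (nat_lit 0xffff0000000000700007cc)
 (.cons 16 (nat_lit 0xff000000ff000000f00000000c00)
 (.cons 8 (nat_lit 0xff000000ff000000000093000000ff)
 (.cons 4 (nat_lit 0xf0f00000f0f00000000040008000f0f)
 (.cons 2 (nat_lit 0x22220022222222223230201020303333)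
 (.cons 1 (nat_lit 0x11110044111144440400000040000000)
 (.cons 2 (nat_lit 0x22220022222222220200000020000000)
 (.cons 8 (nat_lit 0x9000000000)
 (.cons 16 (nat_lit 0xff000000ff000000f00000000c00)
 (.cons 32 (nat_lit 0x700007cc)
 .nil))))))))))
noncomputable def a160 : Net := (.cons 32 (nat_lit 0xff000000000000efc0ff00)
 (.cons 16 (nat_lit 0xff000000ff000000cff00000bc8c)
 (.cons 8 (nat_lit 0xff0000000000ff00f300c000a4006a)
 (.cons 4 (nat_lit 0x5050005050505050c03000304040e03)
 (.cons 2 (nat_lit 0x11110011222222220303300320301122)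
 (.cons 1 (nat_lit 0x41410041414141414401511505100440)
 (.cons 2 (nat_lit 0x22220022222222220000000000200020)
 (.cons 4 (nat_lit 0xc0c000c0c0c0c0c000c0c0c0e040004)
 (.cons 8 (nat_lit 0xfc0030005400aa)
 (.cons 16 (nat_lit 0xff000000ff00000030c000005e0c)
 (.cons 32 (nat_lit 0xff000000000000bf30fcc0)
 .nil)))))))))))
noncomputable def a161 : Net := (.cons 64 (nat_lit 0xff00000000000000)
 (.cons 32 (nat_lit 0xff00ffff000000003ffcc0c0)
 (.cons 16 (nat_lit 0xff000000ff0000003ff0000030c0)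
 (.cons 8 (nat_lit 0xff0000000000ff00fc00c0003000c0)
 (.cons 4 (nat_lit 0x90909090606060603000f0c00000003)
 (.cons 2 (nat_lit 0x33333333333333333000033000300000)
 (.cons 1 (nat_lit 0x410110450150110)
 (.cons 8 (nat_lit 0xc0003c00000000)
 (.cons 16 (nat_lit 0xff000000ff0000003c00000030c0)
 (.cons 32 (nat_lit 0xff0000000000003fccf000)
 (.cons 64 (nat_lit 0xff00000000000000)
 .nil)))))))))))
noncomputable def a162 : Net := (.cons 64 (nat_lit 0xff00000000000000)
 (.cons 32 (nat_lit 0xff000000000000ff30fcc0)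
 (.cons 16 (nat_lit 0xff000000ff00000030c00000fc0c)
 (.cons 8 (nat_lit 0xff00ff00000003003000c000cc)
 (.cons 4 (nat_lit 0x50505050a0a0a0a03000c030c000003)
 (.cons 2 (nat_lit 0x3030303030303033003303030000300)
 (.cons 1 (nat_lit 0x50505050050505055445050114500411)
 (.cons 4 (nat_lit 0xc0c0c0c0c0c0c0c0c0c000c00000c00)
 (.cons 8 (nat_lit 0xc00c0003000cc)
 (.cons 16 (nat_lit 0xff000000ff000000cff00000fc0c)
 (.cons 32 (nat_lit 0xff000000000000ffc0ff00)
 (.cons 64 (nat_lit 0xff00000000000000)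
 .nil))))))))))))
noncomputable def a163 : Net := (.cons 32 (nat_lit 0xff000000000000c315fa85)
 (.cons 16 (nat_lit 0xffff000043e200003cc8)
 (.cons 8 (nat_lit 0xff00ff0042007c00b0000f)
 (.cons 4 (nat_lit 0xa0a0a0a0a0a0a0c00000b0e000300)
 (.cons 2 (nat_lit 0x222222111111113312203012013033)
 (.cons 1 (nat_lit 0x414114144141145000000000000000)
 (.cons 2 (nat_lit 0x222222222222220000000000000000)
 (.cons 4 (nat_lit 0xc0c0c0c0c0c0c0a04000c00000800)
 (.cons 8 (nat_lit 0x8400b400c000c0)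
 (.cons 16 (nat_lit 0x24d800000808)
 (.cons 32 (nat_lit 0xff000000000000a57538b4)
 .nil)))))))))))
noncomputable def a164 : Net := (.cons 32 (nat_lit 0xffff0000000000ffc03ff3)
 (.cons 16 (nat_lit 0xff000000ff000000f33000000000)
 (.cons 8 (nat_lit 0xff000000ff000000c3000c000000f0)
 (.cons 4 (nat_lit 0xa05000a050a05050c03030c0a00030f)
 (.cons 2 (nat_lit 0x3030030030330303303030330303003)
 (.cons 1 (nat_lit 0x50050005055050500501044105144114)
 (.cons 4 (nat_lit 0xc0c000c0c0c0c0c0000000c0c0c0c0c)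
 (.cons 8 (nat_lit 0x3c00f0000000f0)
 (.cons 16 (nat_lit 0xff000000ff000000003000000000)
 (.cons 32 (nat_lit 0xff30cff0)
 .nil))))))))))
noncomputable def a165 : Net := (.cons 64 (nat_lit 0xff00000000000000)
 (.cons 32 (nat_lit 0xff000000000000030c03c0)
 (.cons 16 (nat_lit 0xffff0000000000003c3000003fc0)
 (.cons 8 (nat_lit 0xff00ff00000000003c0033003000cc)
 (.cons 4 (nat_lit 0x9060609060909060300000c0f000000)
 (.cons 2 (nat_lit 0x11111111111111110030300000000033)
 (.cons 1 (nat_lit 0x11444411114444110501514041540055)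
 (.cons 2 (nat_lit 0x22222222222222220000000000000000)
 (.cons 8 (nat_lit 0x300030003000cc)
 (.cons 16 (nat_lit 0x3c3000000f00)
 (.cons 32 (nat_lit 0xff000000000000030c03c0)
 (.cons 64 (nat_lit 0xff00000000000000)
 .nil))))))))))))
noncomputable def a166 : Net := (.cons 64 (nat_lit 0xff00000000000000)
 (.cons 32 (nat_lit 0xff000000000000c3000fc0)
 (.cons 16 (nat_lit 0xffff000000000000c03000003cc0)
 (.cons 8 (nat_lit 0xff00ff0000000000f0003f000c00cc)
 (.cons 4 (nat_lit 0x90606090609090603000c0000000c00)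
 (.cons 2 (nat_lit 0x333300003333000000030300300333)
 (.cons 1 (nat_lit 0x555500005555004040505010501555)
 (.cons 4 (nat_lit 0xc00000c00)
 (.cons 8 (nat_lit 0x3000c0000000cc)
 (.cons 16 (nat_lit 0xc03000000cc0)
 (.cons 32 (nat_lit 0xff000000000000c3000fc0)
 (.cons 64 (nat_lit 0xff00000000000000)
 .nil))))))))))))
noncomputable def a167 : Net := (.cons 64 (nat_lit 0xff00000000000000)
 (.cons 32 (nat_lit 0xff0000000000003ffcc0c0)
 (.cons 16 (nat_lit 0xff000000ff0000003ff0000030c0)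
 (.cons 8 (nat_lit 0xff00ff000000fc00c0003000c0)
 (.cons 4 (nat_lit 0x60606060909090903000f0c00000003)
 (.cons 2 (nat_lit 0x33333333333333333000033000300000)
 (.cons 1 (nat_lit 0x55555555555555550514500550004551)
 (.cons 8 (nat_lit 0xc0003c00000000)
 (.cons 16 (nat_lit 0xff000000ff0000003c00000030c0)
 (.cons 32 (nat_lit 0xff0000000000003fccf000)
 (.cons 64 (nat_lit 0xff00000000000000)
 .nil)))))))))))
noncomputable def a168 : Net := (.cons 32 (nat_lit 0xff00000000000000fc3c00)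
 (.cons 16 (nat_lit 0xffff000003fc0000fc30)
 (.cons 8 (nat_lit 0xff00ff000c00ff00c0003c)
 (.cons 4 (nat_lit 0xf0f00000f0f000c0300000c00)
 (.cons 2 (nat_lit 0x333300003333003030330303300333)
 (.cons 1 (nat_lit 0x555500005555001040104455001050)
 (.cons 4 (nat_lit 0xc000000000c00)
 (.cons 8 (nat_lit 0xc000f000c0003c)
 (.cons 16 (nat_lit 0x30000000fc30)
 (.cons 32 (nat_lit 0xff00000000000000fc3c00)
 .nil))))))))))
noncomputable def a169 : Net := (.cons 64 (nat_lit 0xff00000000000000)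
 (.cons 32 (nat_lit 0xffff0000000000c0000000)
 (.cons 16 (nat_lit 0xffff0000ffff0000f00000000000)
 (.cons 8 (nat_lit 0xff00ff00ff00ff000000c300000000)
 (.cons 4 (nat_lit 0xf0f0f0f0f0f0f0f00000c0c00000000)
 (.cons 2 (nat_lit 0x22222222222222223030030300300300)
 (.cons 1 (nat_lit 0x44444444444444445050014414505051)
 (.cons 2 (nat_lit 0x22222222222222220000000000000000)
 (.cons 4 (nat_lit 0xc0c00000000)
 (.cons 16 (nat_lit 0xf00000000000)
 (.cons 32 (nat_lit 0xc0000000)
 (.cons 64 (nat_lit 0xff00000000000000)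
 .nil))))))))))))
noncomputable def a170 : Net := (.cons 32 (nat_lit 0xf9080000)
 (.cons 16 (nat_lit 0xf00000000000)
 (.cons 8 (nat_lit 0xf800ff000400c0)
 (.cons 4 (nat_lit 0x609090609060600000f0f09000000)
 (.cons 2 (nat_lit 0x222222222222223330333322303300)
 (.cons 1 (nat_lit 0x444444444444445550141444005000)
 (.cons 2 (nat_lit 0x222222222222220000000022000000)
 (.cons 8 (nat_lit 0x80000000400c0)
 (.cons 16 (nat_lit 0xf00000000000)
 (.cons 32 (nat_lit 0xf9080000)
 .nil))))))))))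
noncomputable def a171 : Net := (.cons 64 (nat_lit 0xff00000000000000)
 (.cons 32 (nat_lit 0x3c0)
 (.cons 16 (nat_lit 0xff000000ff000000f00000003c00)
 (.cons 8 (nat_lit 0xff000000ff00f0003300fc00f3)
 (.cons 4 (nat_lit 0x90606060609090900000c0c000c0f0c)
 (.cons 2 (nat_lit 0x22222222222222223030300033003303)
 (.cons 1 (nat_lit 0x11114444111144440000500055005505)
 (.cons 2 (nat_lit 0x22222222222222220000000000000000)
 (.cons 4 (nat_lit 0xc000000000c)
 (.cons 8 (nat_lit 0x3000fc0030)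
 (.cons 16 (nat_lit 0xff000000ff000000f00000000c00)
 (.cons 32 (nat_lit 0x3c0)
 (.cons 64 (nat_lit 0xff00000000000000)
 .nil)))))))))))))
noncomputable def a172 : Net := (.cons 64 (nat_lit 0xff00000000000000)
 (.cons 32 (nat_lit 0xff000000000000c3000fc0)
 (.cons 16 (nat_lit 0xffff000000000000c03000003cc0)
 (.cons 8 (nat_lit 0xff00ff0000000000f0003f000c00cc)
 (.cons 4 (nat_lit 0x60909060906060903000c0000000c00)
 (.cons 2 (nat_lit 0x333300003333000000030300300333)
 (.cons 1 (nat_lit 0x555500005555001100000004540555)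
 (.cons 4 (nat_lit 0xc00000c00)
 (.cons 8 (nat_lit 0x3000c0000000cc)
 (.cons 16 (nat_lit 0xc03000000cc0)
 (.cons 32 (nat_lit 0xff000000000000c3000fc0)
 (.cons 64 (nat_lit 0xff00000000000000)
 .nil))))))))))))
noncomputable def a173 : Net := (.cons 64 (nat_lit 0xff00000000000000)
 (.cons 32 (nat_lit 0x3c0)
 (.cons 16 (nat_lit 0xff000000ff000000f00000003c00)
 (.cons 8 (nat_lit 0xff000000ff00f0003300fc00f3)
 (.cons 4 (nat_lit 0x60909090906060600000c0c000c0f0c)
 (.cons 2 (nat_lit 0x22222222222222223030300033003303)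
 (.cons 1 (nat_lit 0x44441111444411110000014500545411)
 (.cons 2 (nat_lit 0x22222222222222220000000000000000)
 (.cons 4 (nat_lit 0xc000000000c)
 (.cons 8 (nat_lit 0x3000fc0030)
 (.cons 16 (nat_lit 0xff000000ff000000f00000000c00)
 (.cons 32 (nat_lit 0x3c0)
 (.cons 64 (nat_lit 0xff00000000000000)
 .nil)))))))))))))
noncomputable def a174 : Net := (.cons 32 (nat_lit 0xff000000000000f030f333)
 (.cons 16 (nat_lit 0xffff0000041000004d54)
 (.cons 8 (nat_lit 0xff00ff003000b70000008f)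
 (.cons 4 (nat_lit 0xf0f00000f0a000009080e0402)
 (.cons 2 (nat_lit 0x222222222222223130132012203013)
 (.cons 1 (nat_lit 0x444411114444111540415145141114)
 (.cons 2 (nat_lit 0x222222222222222000200200220020)
 (.cons 4 (nat_lit 0x80002060a0e0000)
 (.cons 8 (nat_lit 0x5000200028)
 (.cons 16 (nat_lit 0x4dc000001454)
 (.cons 32 (nat_lit 0xff0000000000000fc0fcf0)
 .nil)))))))))))
noncomputable def a175 : Net := (.cons 32 (nat_lit 0xff000000)
 (.cons 16 (nat_lit 0xf00000000000)
 (.cons 8 (nat_lit 0xc300000000)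
 (.cons 4 (nat_lit 0xf0f0f0f0f0f0f00000c0c0f000000)
 (.cons 2 (nat_lit 0x222222222222223030030322300300)
 (.cons 1 (nat_lit 0x444444444444445150505044041040)
 (.cons 2 (nat_lit 0x222222222222220000000022000000)
 (.cons 4 (nat_lit 0xc0c00000000)
 (.cons 16 (nat_lit 0xf00000000000)
 (.cons 32 (nat_lit 0xff000000)
 .nil))))))))))
noncomputable def a176 : Net := (.cons 32 (nat_lit 0xf9080000)
 (.cons 16 (nat_lit 0xf00000000000)
 (.cons 8 (nat_lit 0xf8003c000400c0)
 (.cons 4 (nat_lit 0x609090609060600000c0c09000000)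
 (.cons 2 (nat_lit 0x333333333333330300303033003000)
 (.cons 1 (nat_lit 0x555555555555550500555555505500)
 (.cons 4 (nat_lit 0xc0c00000000)
 (.cons 8 (nat_lit 0x80000000400c0)
 (.cons 16 (nat_lit 0xf00000000000)
 (.cons 32 (nat_lit 0xf9080000)
 .nil))))))))))
noncomputable def a177 : Net := (.cons 32 (nat_lit 0x31080000)
 (.cons 16 (nat_lit 0x704000000000)
 (.cons 8 (nat_lit 0xb800bc000400c0)
 (.cons 4 (nat_lit 0x609090609060600080c0c01000000)
 (.cons 2 (nat_lit 0x200303002003000)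
 (.cons 1 (nat_lit 0x5110505404005000)
 (.cons 2 (nat_lit 0x200000002000000)
 (.cons 4 (nat_lit 0xc0c00000000)
 (.cons 8 (nat_lit 0x880080000400c0)
 (.cons 16 (nat_lit 0x704000000000)
 (.cons 32 (nat_lit 0x31080000)
 .nil)))))))))))
noncomputable def a178 : Net := (.cons 32 (nat_lit 0xf9080000)
 (.cons 16 (nat_lit 0xf00000000000)
 (.cons 8 (nat_lit 0xf800ff000400c0)
 (.cons 4 (nat_lit 0x609090609060600000f0f09000000)
 (.cons 2 (nat_lit 0x222222222222223330333322303300)
 (.cons 1 (nat_lit 0x444444444444445550141444005000)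
 (.cons 2 (nat_lit 0x222222222222220000000022000000)
 (.cons 8 (nat_lit 0x80000000400c0)
 (.cons 16 (nat_lit 0xf00000000000)
 (.cons 32 (nat_lit 0xf9080000)
 .nil))))))))))
noncomputable def a179 : Net := (.cons 32 (nat_lit 0xd0000000)
 (.cons 16 (nat_lit 0xf00000000000)
 (.cons 8 (nat_lit 0xc300000000)
 (.cons 4 (nat_lit 0xc0c00000000)
 (.cons 2 (nat_lit 0x222222222222223230030320300300)
 (.cons 1 (nat_lit 0x111111111111115150050510500500)
 (.cons 2 (nat_lit 0x222222222222220200000020000000)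
 (.cons 4 (nat_lit 0xc0c00000000)
 (.cons 16 (nat_lit 0xf00000000000)
 (.cons 32 (nat_lit 0xd0000000)
 .nil))))))))))
noncomputable def a180 : Net := (.cons 2 (nat_lit 0x333333333333333300000000000000)
 (.cons 1 (nat_lit 0x555555555555555550514140500500)
 .nil))
noncomputable def a181 : Net := (.cons 32 (nat_lit 0xe0000000)
 (.cons 16 (nat_lit 0xf00000000000)
 (.cons 8 (nat_lit 0xc300000000)
 (.cons 4 (nat_lit 0xc0c00000000)
 (.cons 2 (nat_lit 0x222222222222223230030320300300)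
 (.cons 1 (nat_lit 0x444444444444440400000040000000)
 (.cons 2 (nat_lit 0x222222222222220200000020000000)
 (.cons 4 (nat_lit 0xc0c00000000)
 (.cons 16 (nat_lit 0xf00000000000)
 (.cons 32 (nat_lit 0xe0000000)
 .nil))))))))))
noncomputable def a182 : Net := (.cons 64 (nat_lit 0xff00000000000000)
 (.cons 32 (nat_lit 0xffff00000000f0000000)
 (.cons 16 (nat_lit 0xf00000000000)
 (.cons 8 (nat_lit 0xff00ff00ff00ff003000c300fc00c0)
 (.cons 4 (nat_lit 0x505050505050505000003030f000f00)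
 (.cons 2 (nat_lit 0x22112222112211113003030330000300)
 (.cons 1 (nat_lit 0x14141414141414141014515145000115)
 (.cons 2 (nat_lit 0x22222222222222220000000000000000)
 (.cons 4 (nat_lit 0xc0c0c0c0c0c0c0c00000c0c00000000)
 (.cons 8 (nat_lit 0xc0000000fc00c0)
 (.cons 16 (nat_lit 0xf00000000000)
 (.cons 32 (nat_lit 0xf0000000)
 (.cons 64 (nat_lit 0xff00000000000000)
 .nil)))))))))))))
noncomputable def a183 : Net := (.cons 64 (nat_lit 0xff00000000000000)
 (.cons 32 (nat_lit 0xff00ffff0000000030cf0ccc)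
 (.cons 16 (nat_lit 0xff00000000ff00003fcf0000ff00)
 (.cons 8 (nat_lit 0xff00ff000000c3000000cc00cf)
 (.cons 4 (nat_lit 0xf00000f000f0f000c00000c030c0c0f)
 (.cons 2 (nat_lit 0x333300330000330003003300300330)
 (.cons 1 (nat_lit 0x555500550000555100404511414055)
 (.cons 4 (nat_lit 0xc0c)
 (.cons 8 (nat_lit 0xcc003000fc0000)
 (.cons 16 (nat_lit 0xff000000ff0000003f0000003000)
 (.cons 32 (nat_lit 0xff00000000000030cf0ccc)
 (.cons 64 (nat_lit 0xff00000000000000)
 .nil))))))))))))
noncomputable def a184 : Net := (.cons 64 (nat_lit 0xff00000000000000)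
 (.cons 32 (nat_lit 0xff00ffff00000000f3fc3fc3)
 (.cons 16 (nat_lit 0xff00000000ff0000fc3c0000fc0c)
 (.cons 8 (nat_lit 0xff0000000000ff00c000030000000c)
 (.cons 4 (nat_lit 0xf0f000f00000f0f000c0f0c00000f)
 (.cons 2 (nat_lit 0x11111111111111113030033030330030)
 (.cons 1 (nat_lit 0x44111144114444111144140554440540)
 (.cons 2 (nat_lit 0x22222222222222220000000000000000)
 (.cons 4 (nat_lit 0xc000c0000000000)
 (.cons 8 (nat_lit 0x3c00300000000c)
 (.cons 16 (nat_lit 0xff000000ff0000003ccc0000f00c)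
 (.cons 32 (nat_lit 0xff000000000000f3fcc0c0)
 (.cons 64 (nat_lit 0xff00000000000000)
 .nil)))))))))))))
noncomputable def a185 : Net := (.cons 64 (nat_lit 0xff00000000000000)
 (.cons 32 (nat_lit 0xffffff00000000f0000000)
 (.cons 16 (nat_lit 0xffff0000ffff0000f00000000f0c)
 (.cons 8 (nat_lit 0xff0000000000ff000000ff00f000cc)
 (.cons 4 (nat_lit 0xf0f0f0f000000000f000f00)
 (.cons 2 (nat_lit 0x333333330000000000030030)
 (.cons 1 (nat_lit 0x555555550000500550050505)
 (.cons 8 (nat_lit 0xf000cc)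
 (.cons 16 (nat_lit 0xf00000000f0c)
 (.cons 32 (nat_lit 0xff00000000000000f0000000)
 (.cons 64 (nat_lit 0xff00000000000000)
 .nil)))))))))))
noncomputable def a186 : Net := (.cons 16 (nat_lit 0xf30000000000)
 (.cons 8 (nat_lit 0xc0000000fc00c0)
 (.cons 4 (nat_lit 0x3030303030303000003000f000f00)
 (.cons 2 (nat_lit 0x30303030303030333033333303300)
 (.cons 1 (nat_lit 0x500505500550505550041405105000)
 (.cons 4 (nat_lit 0xc0c0c0c0c0c0c00000c0000000000)
 (.cons 8 (nat_lit 0xc0000000fc00c0)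
 (.cons 16 (nat_lit 0xfc0000000000)
 .nil))))))))
noncomputable def a187 : Net := (.cons 64 (nat_lit 0xff00000000000000)
 (.cons 32 (nat_lit 0xff00000000000003c00cc0)
 (.cons 16 (nat_lit 0xffff0000000000000ff000000c0f)
 (.cons 8 (nat_lit 0xff00ff00ff00ff0000000c00c000cc)
 (.cons 4 (nat_lit 0xf000f000f000f0000000c0c000f00)
 (.cons 2 (nat_lit 0x330033003300330330030330333303)
 (.cons 1 (nat_lit 0x550055005500550440040110441151)
 (.cons 4 (nat_lit 0xc0c000000)
 (.cons 8 (nat_lit 0xc00cc00c0)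
 (.cons 16 (nat_lit 0xff000003000)
 (.cons 32 (nat_lit 0xff00000000000003c00cc0)
 (.cons 64 (nat_lit 0xff00000000000000)
 .nil))))))))))))
noncomputable def a188 : Net := (.cons 32 (nat_lit 0xff300000)
 (.cons 16 (nat_lit 0xf00000000000)
 (.cons 8 (nat_lit 0x3000ff000000c0)
 (.cons 4 (nat_lit 0x30c0c030c030303000f0f0c0c0f00)
 (.cons 2 (nat_lit 0x221111221122220033000011000000)
 (.cons 1 (nat_lit 0x141414141414144105050514501400)
 (.cons 2 (nat_lit 0x222222222222220000000022000000)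
 (.cons 4 (nat_lit 0xc0c0c0c0c0c0c000000000c000000)
 (.cons 8 (nat_lit 0x300000000000c0)
 (.cons 16 (nat_lit 0xf00000000000)
 (.cons 32 (nat_lit 0xff300000)
 .nil)))))))))))
noncomputable def a189 : Net := (.cons 16 (nat_lit 0xfc0000000000)
 (.cons 8 (nat_lit 0xc0000000fc00c0)
 (.cons 4 (nat_lit 0x3030303030303000003000f000f00)
 (.cons 2 (nat_lit 0x303030303030300333303333303300)
 (.cons 1 (nat_lit 0x500505500550505005454411401100)
 (.cons 4 (nat_lit 0xc0c0c0c0c0c0c00000c0000000000)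
 (.cons 8 (nat_lit 0xc0000000fc00c0)
 (.cons 16 (nat_lit 0xf30000000000)
 .nil))))))))
noncomputable def a190 : Net := (.cons 32 (nat_lit 0xff300000)
 (.cons 16 (nat_lit 0xf00000000000)
 (.cons 8 (nat_lit 0x3000ff000000c0)
 (.cons 4 (nat_lit 0xc03030c030c0c03000f0f030c0f00)
 (.cons 2 (nat_lit 0x112222112211110033000022000000)
 (.cons 1 (nat_lit 0x414141414141414150141441145000)
 (.cons 2 (nat_lit 0x222222222222220000000022000000)
 (.cons 4 (nat_lit 0xc0c0c0c0c0c0c000000000c000000)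
 (.cons 8 (nat_lit 0x300000000000c0)
 (.cons 16 (nat_lit 0xf00000000000)
 (.cons 32 (nat_lit 0xff300000)
 .nil)))))))))))
noncomputable def a191 : Net := (.cons 64 (nat_lit 0xff00000000000000)
 (.cons 32 (nat_lit 0xff00000000000003c00cc0)
 (.cons 16 (nat_lit 0xffff00000ff000000c0f)
 (.cons 8 (nat_lit 0xff00ff00ff00ff0000000c00c000cc)
 (.cons 4 (nat_lit 0xf000f000f000f0000000c0c000f00)
 (.cons 2 (nat_lit 0x330033003300330330030330333303)
 (.cons 1 (nat_lit 0x550055005500550440010450110154)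
 (.cons 4 (nat_lit 0xc0c000000)
 (.cons 8 (nat_lit 0xc00cc00c0)
 (.cons 16 (nat_lit 0xff000003000)
 (.cons 32 (nat_lit 0xff00000000000003c00cc0)
 (.cons 64 (nat_lit 0xff00000000000000)
 .nil))))))))))))
noncomputable def a192 : Net := (.cons 4 (nat_lit 0xf0f0f0f0f0f0f0f00000000000000)
 (.cons 2 (nat_lit 0x333333333333333300000000000000)
 (.cons 1 (nat_lit 0x555555555555555500055551541540)
 .nil)))
noncomputable def a193 : Net := (.cons 64 (nat_lit 0x7e00000000000000)
 (.cons 32 (nat_lit 0xa55aa5a5000000003cf30cc0)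
 (.cons 16 (nat_lit 0xcccc0000cccc0000f0c00000333f)
 (.cons 8 (nat_lit 0xaa00aa00aa00aa0030000c003300c0)
 (.cons 4 (nat_lit 0x9090606060609090c000c0f0f000003)
 (.cons 2 (nat_lit 0x3030303303030300033303003330030)
 (.cons 1 (nat_lit 0x14411441144114410000000000000000)
 (.cons 4 (nat_lit 0xc0c0c0c0c0c0c0c00000c0c0c00000c)
 (.cons 8 (nat_lit 0xaa00aa00aa00aa00f0000c000000c0)
 (.cons 16 (nat_lit 0xcccc0000cccc0000c0000000f0f0)
 (.cons 32 (nat_lit 0xff000000000000003c33f000)
 (.cons 64 (nat_lit 0x7e00000000000000)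
 .nil))))))))))))
noncomputable def a194 : Net := (.cons 16 (nat_lit 0xc00000000000)
 (.cons 8 (nat_lit 0xc0000000fc00c0)
 (.cons 4 (nat_lit 0xc0c0c0c0c0c0c0c0000000f000f00)
 (.cons 2 (nat_lit 0x303030303030303033033333303300)
 (.cons 1 (nat_lit 0x55050055005055000000000000000)
 (.cons 4 (nat_lit 0xc0c0c0c0c0c0c0c00000000000000)
 (.cons 8 (nat_lit 0xc0000000fc00c0)
 (.cons 16 (nat_lit 0xc00000000000)
 .nil))))))))
noncomputable def a195 : Net := (.cons 64 (nat_lit 0x7e00000000000000)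
 (.cons 32 (nat_lit 0xff0000000000000c0ff33c)
 (.cons 16 (nat_lit 0xf00f00000ff00000f03c000000cc)
 (.cons 8 (nat_lit 0x660099009900660000000000cc00c0)
 (.cons 4 (nat_lit 0xa0a050505050a0a0000000f0f000c0f)
 (.cons 2 (nat_lit 0x12212112122121123033033333303303)
 (.cons 1 (nat_lit 0x14141414414141410000000000000000)
 (.cons 4 (nat_lit 0xc0000000000000c)
 (.cons 8 (nat_lit 0xcc00cc00cc00cc0000000c00fc0000)
 (.cons 16 (nat_lit 0xf0f00000f0f00000fc30000000f0)
 (.cons 32 (nat_lit 0xff0000000000000c3000f0)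
 (.cons 64 (nat_lit 0x7e00000000000000)
 .nil))))))))))))
noncomputable def a196 : Net := (.cons 32 (nat_lit 0xff00000000000003fc0000)
 (.cons 16 (nat_lit 0xff000000ff00000003300000c000)
 (.cons 8 (nat_lit 0xff0000000000ff00c0000000000000)
 (.cons 4 (nat_lit 0xc0c00000c000003)
 (.cons 2 (nat_lit 0x330033000000000)
 (.cons 4 (nat_lit 0xc0c000000000000)
 (.cons 8 (nat_lit 0xc0000000000000)
 (.cons 16 (nat_lit 0xff000000ff00000003300000c000)
 (.cons 32 (nat_lit 0xff00000000000003fc0000)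
 .nil)))))))))
noncomputable def a197 : Net := (.cons 64 (nat_lit 0x7e00000000000000)
 (.cons 32 (nat_lit 0xff000000000000ff3c33cf)
 (.cons 16 (nat_lit 0xcccc0000cccc0000330f0000c0c0)
 (.cons 8 (nat_lit 0xaa00aa00aa00aa00300033000000fc)
 (.cons 4 (nat_lit 0xc00030000000c0f)
 (.cons 2 (nat_lit 0x22111122112222113303300000330330)
 (.cons 1 (nat_lit 0x14411441144114410000000000000000)
 (.cons 2 (nat_lit 0x22222222222222220000000000000000)
 (.cons 4 (nat_lit 0xc0c0000000c0c)
 (.cons 8 (nat_lit 0xcc00cc00cc00cc00fc003c00c000cc)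
 (.cons 16 (nat_lit 0xaaaa0000aaaa0000c0000000c000)
 (.cons 32 (nat_lit 0xff000000000000ffcc3ffc)
 (.cons 64 (nat_lit 0x7e00000000000000)
 .nil)))))))))))))
noncomputable def a198 : Net := (.cons 32 (nat_lit 0xe0000000)
 (.cons 16 (nat_lit 0xf00000000000)
 (.cons 8 (nat_lit 0xc300000000)
 (.cons 4 (nat_lit 0xc0c00000000)
 (.cons 2 (nat_lit 0x222222222222223230030320300300)
 (.cons 1 (nat_lit 0x444444444444440400000040000000)
 (.cons 2 (nat_lit 0x222222222222220200000020000000)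
 (.cons 4 (nat_lit 0xc0c00000000)
 (.cons 16 (nat_lit 0xf00000000000)
 (.cons 32 (nat_lit 0xe0000000)
 .nil))))))))))
noncomputable def a199 : Net := (.cons 32 (nat_lit 0xff00ff00000000333c3fc0)
 (.cons 16 (nat_lit 0xff000000ff0000f07000003fc3)
 (.cons 8 (nat_lit 0x3c00b000f0000c)
 (.cons 4 (nat_lit 0x60609090909060004000c0c000200)
 (.cons 2 (nat_lit 0x330033003300330300033003000000)
 (.cons 1 (nat_lit 0x5500550055001145414504141140)
 (.cons 4 (nat_lit 0xc0c00000000)
 (.cons 8 (nat_lit 0xcc00f000c00000)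
 (.cons 16 (nat_lit 0x783000003fc0)
 (.cons 32 (nat_lit 0x333c3000)
 .nil))))))))))
noncomputable def a200 : Net := (.cons 64 (nat_lit 0xff00000000000000)
 (.cons 32 (nat_lit 0xff000000000000c0fcffc0)
 (.cons 16 (nat_lit 0xffff000000000000303c0000cccc)
 (.cons 8 (nat_lit 0xf000c000c000cc)
 (.cons 4 (nat_lit 0x60906090906090600000c030f000000)
 (.cons 2 (nat_lit 0x22222222222222220000000000333003)
 (.cons 1 (nat_lit 0x11441144114411440004410415555105)
 (.cons 2 (nat_lit 0x22222222222222220000000000000000)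
 (.cons 8 (nat_lit 0xc000c000cc)
 (.cons 16 (nat_lit 0x30300000cccc)
 (.cons 32 (nat_lit 0xff000000000000c0fcf000)
 (.cons 64 (nat_lit 0xff00000000000000)
 .nil))))))))))))
noncomputable def a201 : Net := (.cons 64 (nat_lit 0xff00000000000000)
 (.cons 32 (nat_lit 0xff0000000000000c3f0000)
 (.cons 16 (nat_lit 0xff00000000ff0000300c00000000)
 (.cons 8 (nat_lit 0x3c00f0003000c0)
 (.cons 4 (nat_lit 0x30303030c0c0c0c0c000f000c000f00)
 (.cons 2 (nat_lit 0x11111111222222223033000303330003)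
 (.cons 1 (nat_lit 0x14141414141414140055440500551105)
 (.cons 2 (nat_lit 0x22222222222222220000000000000000)
 (.cons 4 (nat_lit 0xc0c0c0c0c0c0c0c0c0000000c000000)
 (.cons 8 (nat_lit 0x3c00f0003000c0)
 (.cons 16 (nat_lit 0x300c00000000)
 (.cons 32 (nat_lit 0xff0000000000000c3f0000)
 (.cons 64 (nat_lit 0xff00000000000000)
 .nil)))))))))))))
noncomputable def a202 : Net := (.cons 16 (nat_lit 0xf30000000000)
 (.cons 8 (nat_lit 0xc0000000fc00c0)
 (.cons 4 (nat_lit 0x3030303030303000003000f000f00)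
 (.cons 2 (nat_lit 0x30303030303030333033333303300)
 (.cons 1 (nat_lit 0x500505500550505550041405105000)
 (.cons 4 (nat_lit 0xc0c0c0c0c0c0c00000c0000000000)
 (.cons 8 (nat_lit 0xc0000000fc00c0)
 (.cons 16 (nat_lit 0xfc0000000000)
 .nil))))))))
noncomputable def a203 : Net := (.cons 32 (nat_lit 0xff000000000000e7f60000)
 (.cons 16 (nat_lit 0xff0000ff000000d3b400000000)
 (.cons 8 (nat_lit 0xa600c900080000)
 (.cons 4 (nat_lit 0x802010708000000)
 (.cons 2 (nat_lit 0x111111111111111321221031310303)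
 (.cons 1 (nat_lit 0x444444444444444104454504111400)
 (.cons 2 (nat_lit 0x222222222222220002200002020000)
 (.cons 4 (nat_lit 0x400020804000000)
 (.cons 8 (nat_lit 0x60001400040000)
 (.cons 16 (nat_lit 0xb1f000000000)
 (.cons 32 (nat_lit 0xff000000000000dbf90000)
 .nil)))))))))))
noncomputable def a204 : Net := (.cons 32 (nat_lit 0xff00000000000003c00000)
 (.cons 16 (nat_lit 0xff0000ff0000003ff000000000)
 (.cons 8 (nat_lit 0xf003c00c0)
 (.cons 4 (nat_lit 0xc0c0c0c0c0c0c0000000c0c000f00)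
 (.cons 2 (nat_lit 0x303030303030300333303000033303)
 (.cons 1 (nat_lit 0x505050050505050000401000000000)
 (.cons 4 (nat_lit 0xc0c0c0c0c0c0c00000c0000000000)
 (.cons 8 (nat_lit 0xf0000c00c0)
 (.cons 16 (nat_lit 0x3ff000000000)
 (.cons 32 (nat_lit 0xff00000000000003c00000)
 .nil))))))))))
noncomputable def a205 : Net := (.cons 32 (nat_lit 0xff000000000000d2f5f3c4)
 (.cons 16 (nat_lit 0xffff0000fff400006ff8)
 (.cons 8 (nat_lit 0xd200f0000d)
 (.cons 4 (nat_lit 0xf000f000f000f0c0002070c000200)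
 (.cons 2 (nat_lit 0x222222222222223031021100322333)
 (.cons 1 (nat_lit 0x441144114411440100514145501050)
 (.cons 2 (nat_lit 0x222222222222220000022200002000)
 (.cons 4 (nat_lit 0xc00020800000200)
 (.cons 8 (nat_lit 0x1200f00008)
 (.cons 16 (nat_lit 0xfff400006ff8)
 (.cons 32 (nat_lit 0xff000000000000d2f5f0c4)
 .nil)))))))))))
noncomputable def a206 : Net := (.cons 64 (nat_lit 0xff00000000000000)
 (.cons 32 (nat_lit 0xff000000000000003cc000)
 (.cons 16 (nat_lit 0xff00000000ff00003c3c00000030)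
 (.cons 8 (nat_lit 0x3000c000cc00f0)
 (.cons 4 (nat_lit 0x9090909060606060c000c0303000000)
 (.cons 2 (nat_lit 0x22222222222222223030030000033333)
 (.cons 1 (nat_lit 0x11111111111111115000050000051545)
 (.cons 2 (nat_lit 0x22222222222222220000000000000000)
 (.cons 4 (nat_lit 0xc000c0000000000)
 (.cons 8 (nat_lit 0x3000c0000c0000)
 (.cons 16 (nat_lit 0x3c3000000030)
 (.cons 32 (nat_lit 0xff000000000000003cc000)
 (.cons 64 (nat_lit 0xff00000000000000)
 .nil)))))))))))))
noncomputable def a207 : Net := (.cons 64 (nat_lit 0xff00000000000000)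
 (.cons 32 (nat_lit 0xff00000000000000ccc000)
 (.cons 16 (nat_lit 0xff00000000ff000030cc000033c0)
 (.cons 8 (nat_lit 0x30003000fc00c0)
 (.cons 4 (nat_lit 0x60606060909090900000c0c00000300)
 (.cons 2 (nat_lit 0x300330330003)
 (.cons 1 (nat_lit 0x4004540151105)
 (.cons 4 (nat_lit 0xc0c00000000)
 (.cons 8 (nat_lit 0x30000c0000)
 (.cons 16 (nat_lit 0x30c0000033c0)
 (.cons 32 (nat_lit 0xff00000000000000ccc000)
 (.cons 64 (nat_lit 0xff00000000000000)
 .nil))))))))))))
noncomputable def a208 : Net := (.cons 32 (nat_lit 0xff00000000000000ccc000)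
 (.cons 16 (nat_lit 0xff0000ff000000b0dc000033c0)
 (.cons 8 (nat_lit 0x30002400fc00c0)
 (.cons 4 (nat_lit 0x60606090909090400010e00000300)
 (.cons 2 (nat_lit 0x333333333333331300203330330003)
 (.cons 1 (nat_lit 0x555555555555551550114541104440)
 (.cons 2 (nat_lit 0x22000000000)
 (.cons 4 (nat_lit 0x4000a0800000000)
 (.cons 8 (nat_lit 0x24000c0000)
 (.cons 16 (nat_lit 0x94c0000033c0)
 (.cons 32 (nat_lit 0xff00000000000000ccc000)
 .nil)))))))))))
noncomputable def a209 : Net := (.cons 32 (nat_lit 0xff00ff00000000e000f3c0)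
 (.cons 16 (nat_lit 0xff000000ff0000c00000000cf3)
 (.cons 8 (nat_lit 0xfc00e0000c)
 (.cons 4 (nat_lit 0xf000f000f000f0000000f0c000000)
 (.cons 2 (nat_lit 0x222222222222220230303300203030)
 (.cons 1 (nat_lit 0x114411441144110400000000400000)
 (.cons 2 (nat_lit 0x222222222222220200000000200000)
 (.cons 8 (nat_lit 0xfc00e00000)
 (.cons 16 (nat_lit 0xc00000000cf0)
 (.cons 32 (nat_lit 0xe000f0c0)
 .nil))))))))))
noncomputable def a210 : Net := (.cons 64 (nat_lit 0xff00000000000000)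
 (.cons 32 (nat_lit 0xff000000000000c0fcffc0)
 (.cons 16 (nat_lit 0xffff000000000000303c0000cccc)
 (.cons 8 (nat_lit 0xf000c000c000cc)
 (.cons 4 (nat_lit 0x90609060609060900000c030f000000)
 (.cons 2 (nat_lit 0x22222222222222220000000000333003)
 (.cons 1 (nat_lit 0x44114411441144115050041140555005)
 (.cons 2 (nat_lit 0x22222222222222220000000000000000)
 (.cons 8 (nat_lit 0xc000c000cc)
 (.cons 16 (nat_lit 0x30300000cccc)
 (.cons 32 (nat_lit 0xff000000000000c0fcf000)
 (.cons 64 (nat_lit 0xff00000000000000)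
 .nil))))))))))))
noncomputable def a211 : Net := (.cons 32 (nat_lit 0xff000000000000dbf60000)
 (.cons 16 (nat_lit 0xff0000ff00000061b800000000)
 (.cons 8 (nat_lit 0x9a004400640000)
 (.cons 4 (nat_lit 0xe0e020300020000)
 (.cons 2 (nat_lit 0x222222222222222330310032230303)
 (.cons 1 (nat_lit 0x111111111111110504505151100500)
 (.cons 2 (nat_lit 0x222222222222220000000002200000)
 (.cons 4 (nat_lit 0xe0e020000020000)
 (.cons 8 (nat_lit 0x90004400640000)
 (.cons 16 (nat_lit 0x61b800000000)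
 (.cons 32 (nat_lit 0xff000000000000dbf60000)
 .nil)))))))))))
noncomputable def a212 : Net := (.cons 32 (nat_lit 0xe0000000)
 (.cons 16 (nat_lit 0xf00000000000)
 (.cons 8 (nat_lit 0xc300000000)
 (.cons 4 (nat_lit 0xc0c00000000)
 (.cons 2 (nat_lit 0x222222222222223230030320300300)
 (.cons 1 (nat_lit 0x444444444444440400000040000000)
 (.cons 2 (nat_lit 0x222222222222220200000020000000)
 (.cons 4 (nat_lit 0xc0c00000000)
 (.cons 16 (nat_lit 0xf00000000000)
 (.cons 32 (nat_lit 0xe0000000)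
 .nil))))))))))
noncomputable def a213 : Net := (.cons 32 (nat_lit 0xf9080000)
 (.cons 16 (nat_lit 0xf00000000000)
 (.cons 8 (nat_lit 0xf800ff000400c0)
 (.cons 4 (nat_lit 0x609090609060600000f0f09000000)
 (.cons 2 (nat_lit 0x222222222222223230333323303300)
 (.cons 1 (nat_lit 0x111111111111110100555515505500)
 (.cons 2 (nat_lit 0x222222222222220200000020000000)
 (.cons 8 (nat_lit 0x80000000400c0)
 (.cons 16 (nat_lit 0xf00000000000)
 (.cons 32 (nat_lit 0xf9080000)
 .nil))))))))))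
noncomputable def a214 : Net := (.cons 32 (nat_lit 0xff000000)
 (.cons 16 (nat_lit 0xf00000000000)
 (.cons 8 (nat_lit 0xc300000000)
 (.cons 4 (nat_lit 0xf0f0f0f0f0f0f00000c0c0f000000)
 (.cons 2 (nat_lit 0x222222222222223030030322300300)
 (.cons 1 (nat_lit 0x111111111111110100555511541540)
 (.cons 2 (nat_lit 0x222222222222220000000022000000)
 (.cons 4 (nat_lit 0xc0c00000000)
 (.cons 16 (nat_lit 0xf00000000000)
 (.cons 32 (nat_lit 0xff000000)
 .nil))))))))))
noncomputable def a215 : Net := (.cons 4 (nat_lit 0xf0f0f0f0f0f0f0f00000000000000)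
 (.cons 1 (nat_lit 0x50541411041040)
 .nil))
noncomputable def a216 : Net := (.cons 2 (nat_lit 0x333333333333333300000000000000)
 (.cons 1 (nat_lit 0x555555555555555550514140500500)
 .nil))
noncomputable def a217 : Net := (.cons 32 (nat_lit 0xd0000000)
 (.cons 16 (nat_lit 0xf00000000000)
 (.cons 8 (nat_lit 0xc300000000)
 (.cons 4 (nat_lit 0xc0c00000000)
 (.cons 2 (nat_lit 0x222222222222223230030320300300)
 (.cons 1 (nat_lit 0x111111111111115150050510500500)
 (.cons 2 (nat_lit 0x222222222222220200000020000000)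
 (.cons 4 (nat_lit 0xc0c00000000)
 (.cons 16 (nat_lit 0xf00000000000)
 (.cons 32 (nat_lit 0xd0000000)
 .nil))))))))))
noncomputable def a218 : Net := (.cons 32 (nat_lit 0xe0000000)
 (.cons 16 (nat_lit 0xf00000000000)
 (.cons 8 (nat_lit 0xc300000000)
 (.cons 4 (nat_lit 0xc0c00000000)
 (.cons 2 (nat_lit 0x222222222222223230030320300300)
 (.cons 1 (nat_lit 0x444444444444440400000040000000)
 (.cons 2 (nat_lit 0x222222222222220200000020000000)
 (.cons 4 (nat_lit 0xc0c00000000)
 (.cons 16 (nat_lit 0xf00000000000)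
 (.cons 32 (nat_lit 0xe0000000)
 .nil))))))))))
noncomputable def a219 : Net := (.cons 64 (nat_lit 0xff00000000000000)
 (.cons 32 (nat_lit 0xff00000000000003c00cc0)
 (.cons 16 (nat_lit 0xffff0000000000000ff000000c0f)
 (.cons 8 (nat_lit 0xc00c000cc)
 (.cons 4 (nat_lit 0xf000f000f000f0000000c0c000f00)
 (.cons 2 (nat_lit 0x330033003300330330030330333303)
 (.cons 1 (nat_lit 0x550055005500550000050540551005)
 (.cons 4 (nat_lit 0xc0c000000)
 (.cons 8 (nat_lit 0xc00cc00c0)
 (.cons 16 (nat_lit 0xff000003000)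
 (.cons 32 (nat_lit 0xff00000000000003c00cc0)
 (.cons 64 (nat_lit 0xff00000000000000)
 .nil))))))))))))
noncomputable def a220 : Net := (.cons 16 (nat_lit 0xfc0000000000)
 (.cons 8 (nat_lit 0xc0000000fc00c0)
 (.cons 4 (nat_lit 0x3030303030303000003000f000f00)
 (.cons 2 (nat_lit 0x303030303030300333303333303300)
 (.cons 1 (nat_lit 0x500505500550505005454411401100)
 (.cons 4 (nat_lit 0xc0c0c0c0c0c0c00000c0000000000)
 (.cons 8 (nat_lit 0xc0000000fc00c0)
 (.cons 16 (nat_lit 0xf30000000000)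
 .nil))))))))
noncomputable def a221 : Net := (.cons 64 (nat_lit 0xff00000000000000)
 (.cons 32 (nat_lit 0xff00ffff0000000000ccc000)
 (.cons 16 (nat_lit 0xff00000000ff000030cc000033c0)
 (.cons 8 (nat_lit 0xff00ff00ff00ff0030003000fc00c0)
 (.cons 4 (nat_lit 0x90909090606060600000c0c00000300)
 (.cons 2 (nat_lit 0x300330330003)
 (.cons 1 (nat_lit 0x55555555555555550044504044105555)
 (.cons 4 (nat_lit 0xc0c00000000)
 (.cons 8 (nat_lit 0x30000c0000)
 (.cons 16 (nat_lit 0x30c0000033c0)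
 (.cons 32 (nat_lit 0xff00000000000000ccc000)
 (.cons 64 (nat_lit 0xff00000000000000)
 .nil))))))))))))
noncomputable def a222 : Net := (.cons 64 (nat_lit 0xff00000000000000)
 (.cons 32 (nat_lit 0xff00ffff00000000c3f00000)
 (.cons 16 (nat_lit 0xff00000000ff0000f3f000000000)
 (.cons 8 (nat_lit 0xff00ff00ff00ff00f000cc000c0000)
 (.cons 4 (nat_lit 0xc0000030c000000)
 (.cons 2 (nat_lit 0x22222222222222220330030030330303)
 (.cons 1 (nat_lit 0x11111111111111111051000050001515)
 (.cons 2 (nat_lit 0x22222222222222220000000000000000)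
 (.cons 4 (nat_lit 0xc0000000c000000)
 (.cons 8 (nat_lit 0xf0000c000c0000)
 (.cons 16 (nat_lit 0xf3f000000000)
 (.cons 32 (nat_lit 0xff000000000000c3f00000)
 (.cons 64 (nat_lit 0xff00000000000000)
 .nil)))))))))))))
noncomputable def a223 : Net := (.cons 64 (nat_lit 0xff00000000000000)
 (.cons 32 (nat_lit 0xffff0000000000000000)
 (.cons 8 (nat_lit 0xff00ff00ff00ff0000000000000000)
 (.cons 4 (nat_lit 0xf0f0f0f0f0f0f0f0000000000000000)
 (.cons 2 (nat_lit 0x33333333333333330000000000000000)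
 (.cons 1 (nat_lit 0x55555555555555550051040401000555)
 (.cons 64 (nat_lit 0xff00000000000000)
 .nil)))))))
noncomputable def a224 : Net := (.cons 64 (nat_lit 0xff00000000000000)
 (.cons 32 (nat_lit 0xff0000ff0000000000000000)
 (.cons 16 (nat_lit 0xffff0000ffff0000000000000000)
 (.cons 8 (nat_lit 0xff00ff00ff00ff0000000000000000)
 (.cons 4 (nat_lit 0xf0f0f0f0f0f0f0f0000000000000000)
 (.cons 1 (nat_lit 0x1554014050050)
 (.cons 64 (nat_lit 0xff00000000000000)
 .nil)))))))
noncomputable def a225 : Net := (.cons 64 (nat_lit 0xff00000000000000)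
 (.cons 32 (nat_lit 0xffff0000000000000000)
 (.cons 8 (nat_lit 0xff00ff00ff00ff0000000000000000)
 (.cons 4 (nat_lit 0xf0f0f0f0f0f0f0f0000000000000000)
 (.cons 2 (nat_lit 0x33333333333333330000000000000000)
 (.cons 1 (nat_lit 0x44410100401155)
 (.cons 64 (nat_lit 0xff00000000000000)
 .nil)))))))
noncomputable def a226 : Net := (.cons 64 (nat_lit 0xff00000000000000)
 (.cons 32 (nat_lit 0xffff0000000000000000)
 (.cons 8 (nat_lit 0xff00ff00ff00ff0000000000000000)
 (.cons 4 (nat_lit 0xf0f0f0f0f0f0f0f0000000000000000)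
 (.cons 1 (nat_lit 0x55555555555555550014104040101455)
 (.cons 64 (nat_lit 0xff00000000000000)
 .nil))))))
noncomputable def a227 : Net := (.cons 32 (nat_lit 0xff00000000000003c00000)
 (.cons 16 (nat_lit 0xff0000ff00000003c000000000)
 (.cons 8 (nat_lit 0xc00cc0000)
 (.cons 4 (nat_lit 0xc0c000000)
 (.cons 2 (nat_lit 0x30330330003)
 (.cons 4 (nat_lit 0xc0c000000)
 (.cons 8 (nat_lit 0xc00cc0000)
 (.cons 16 (nat_lit 0x3c000000000)
 (.cons 32 (nat_lit 0xff00000000000003c00000)
 .nil)))))))))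
noncomputable def a228 : Net := (.cons 4 (nat_lit 0xf0f0f0f0f0f0f0f00000000000000)
 (.cons 1 (nat_lit 0x555555555555555545111110440440)
 .nil))
noncomputable def a229 : Net := (.cons 32 (nat_lit 0xf9080000)
 (.cons 16 (nat_lit 0xf00000000000)
 (.cons 8 (nat_lit 0xf800ff000400c0)
 (.cons 4 (nat_lit 0x609090609060600000f0f09000000)
 (.cons 2 (nat_lit 0x222222222222223330333322303300)
 (.cons 1 (nat_lit 0x444444444444445550141444005000)
 (.cons 2 (nat_lit 0x222222222222220000000022000000)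
 (.cons 8 (nat_lit 0x80000000400c0)
 (.cons 16 (nat_lit 0xf00000000000)
 (.cons 32 (nat_lit 0xf9080000)
 .nil))))))))))
noncomputable def a230 : Net := (.cons 1 (nat_lit 0x555555555555555515450501401400)
 .nil)
noncomputable def a231 : Net := (.cons 64 (nat_lit 0xff00000000000000)
 (.cons 32 (nat_lit 0xff00ff00000000f0000000)
 (.cons 16 (nat_lit 0xffff0000ffff0000f00000000000)
 (.cons 8 (nat_lit 0xf000ff000c00c0)
 (.cons 4 (nat_lit 0x60906060906090900000f0f00000000)
 (.cons 2 (nat_lit 0x22222222222222223030333303303300)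
 (.cons 1 (nat_lit 0x11111111111111115050114405050505)
 (.cons 2 (nat_lit 0x22222222222222220000000000000000)
 (.cons 8 (nat_lit 0xc00c0)
 (.cons 16 (nat_lit 0xf00000000000)
 (.cons 32 (nat_lit 0xf0000000)
 (.cons 64 (nat_lit 0xff00000000000000)
 .nil))))))))))))
noncomputable def a232 : Net := (.cons 4 (nat_lit 0xf0f0f0f0f0f0f0f00000000000000)
 (.cons 1 (nat_lit 0x50541411041040)
 .nil))
noncomputable def a233 : Net := (.cons 32 (nat_lit 0xf6080000)
 (.cons 16 (nat_lit 0xf00000000000)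
 (.cons 8 (nat_lit 0xf800ff00a400c0)
 (.cons 4 (nat_lit 0x906060906090900000f0f0a020000)
 (.cons 2 (nat_lit 0x222222222222223230333323123300)
 (.cons 1 (nat_lit 0x444444444444440000000040040000)
 (.cons 2 (nat_lit 0x222222222222220000000020020000)
 (.cons 4 (nat_lit 0xa020000)
 (.cons 8 (nat_lit 0x8000000a400c0)
 (.cons 16 (nat_lit 0xf00000000000)
 (.cons 32 (nat_lit 0xf6080000)
 .nil)))))))))))
noncomputable def a234 : Net := (.cons 32 (nat_lit 0xf6080000)
 (.cons 16 (nat_lit 0xf00000000000)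
 (.cons 8 (nat_lit 0xf200ff006600c0)
 (.cons 4 (nat_lit 0x906060906090900000f0f00060000)
 (.cons 2 (nat_lit 0x222222222222223232333331203300)
 (.cons 1 (nat_lit 0x111111111111115150414150100500)
 (.cons 2 (nat_lit 0x222222222222220200000000200000)
 (.cons 8 (nat_lit 0x20000006600c0)
 (.cons 16 (nat_lit 0xf00000000000)
 (.cons 32 (nat_lit 0xf6080000)
 .nil))))))))))
noncomputable def a235 : Net := (.cons 2 (nat_lit 0x333333333333333300000000000000)
 (.cons 1 (nat_lit 0x555555555555555550514140500500)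
 .nil))
noncomputable def a236 : Net := (.cons 1 (nat_lit 0x555555555555555515450501401400)
 .nil)
noncomputable def a237 : Net := (.cons 32 (nat_lit 0xf9080000)
 (.cons 16 (nat_lit 0xf00000000000)
 (.cons 8 (nat_lit 0xf800ff000400c0)
 (.cons 4 (nat_lit 0x609090609060600000f0f09000000)
 (.cons 2 (nat_lit 0x222222222222223330333322303300)
 (.cons 1 (nat_lit 0x444444444444445550141444005000)
 (.cons 2 (nat_lit 0x222222222222220000000022000000)
 (.cons 8 (nat_lit 0x80000000400c0)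
 (.cons 16 (nat_lit 0xf00000000000)
 (.cons 32 (nat_lit 0xf9080000)
 .nil))))))))))
noncomputable def a238 : Net := (.cons 2 (nat_lit 0x333333333333333300000000000000)
 (.cons 1 (nat_lit 0x45144441101100)
 .nil))
noncomputable def a239 : Net := (.cons 64 (nat_lit 0xff00000000000000)
 (.cons 32 (nat_lit 0xff00ff0000000000000000)
 (.cons 16 (nat_lit 0xffff0000ffff0000000000000000)
 (.cons 4 (nat_lit 0xf0f0f0f0f0f0f0f0000000000000000)
 (.cons 2 (nat_lit 0x33333333333333330000000000000000)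
 (.cons 1 (nat_lit 0x55555555555555550000055004011545)
 (.cons 64 (nat_lit 0xff00000000000000)
 .nil)))))))
noncomputable def a240 : Net := (.cons 32 (nat_lit 0xff0c0000)
 (.cons 16 (nat_lit 0xf00000000000)
 (.cons 8 (nat_lit 0xfc00ff000000c0)
 (.cons 4 (nat_lit 0x906060906090900000f0f06000000)
 (.cons 2 (nat_lit 0x111111111111113330333311303300)
 (.cons 1 (nat_lit 0x444444444444444111050544441400)
 (.cons 2 (nat_lit 0x222222222222220000000022000000)
 (.cons 8 (nat_lit 0xc0000000000c0)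
 (.cons 16 (nat_lit 0xf00000000000)
 (.cons 32 (nat_lit 0xff0c0000)
 .nil))))))))))
noncomputable def a241 : Net := (.cons 64 (nat_lit 0xff00000000000000)
 (.cons 32 (nat_lit 0xff00ff00000000f0000000)
 (.cons 16 (nat_lit 0xffff0000ffff0000f00000000000)
 (.cons 8 (nat_lit 0xf000ff000c00c0)
 (.cons 4 (nat_lit 0x60906060906090900000f0f00000000)
 (.cons 2 (nat_lit 0x11111111111111113030333303303300)
 (.cons 1 (nat_lit 0x11111111111111111045144104451105)
 (.cons 2 (nat_lit 0x22222222222222220000000000000000)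
 (.cons 8 (nat_lit 0xc00c0)
 (.cons 16 (nat_lit 0xf00000000000)
 (.cons 32 (nat_lit 0xf0000000)
 (.cons 64 (nat_lit 0xff00000000000000)
 .nil))))))))))))
noncomputable def a242 : Net := (.cons 4 (nat_lit 0xf0f0f0f0f0f0f0f00000000000000)
 (.cons 1 (nat_lit 0x555555555555555545111110440440)
 .nil))
noncomputable def a243 : Net := (.cons 2 (nat_lit 0x333333333333333300000000000000)
 (.cons 1 (nat_lit 0x45144441101100)
 .nil))
noncomputable def a244 : Net := (.cons 2 (nat_lit 0x333333333333333300000000000000)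
 (.cons 1 (nat_lit 0x555555555555555550514140500500)
 .nil))
noncomputable def a245 : Net := (.cons 32 (nat_lit 0xf9080000)
 (.cons 16 (nat_lit 0xf00000000000)
 (.cons 8 (nat_lit 0xf800ff000400c0)
 (.cons 4 (nat_lit 0x609090609060600000f0f09000000)
 (.cons 2 (nat_lit 0x222222222222223330333322303300)
 (.cons 1 (nat_lit 0x444444444444445550141444005000)
 (.cons 2 (nat_lit 0x222222222222220000000022000000)
 (.cons 8 (nat_lit 0x80000000400c0)
 (.cons 16 (nat_lit 0xf00000000000)
 (.cons 32 (nat_lit 0xf9080000)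
 .nil))))))))))
noncomputable def a246 : Net := (.cons 32 (nat_lit 0xf6080000)
 (.cons 16 (nat_lit 0xf00000000000)
 (.cons 8 (nat_lit 0xf800ff00a400c0)
 (.cons 4 (nat_lit 0x906060906090900000f0f0a020000)
 (.cons 2 (nat_lit 0x222222222222223230333323123300)
 (.cons 1 (nat_lit 0x444444444444440000000040040000)
 (.cons 2 (nat_lit 0x222222222222220000000020020000)
 (.cons 4 (nat_lit 0xa020000)
 (.cons 8 (nat_lit 0x8000000a400c0)
 (.cons 16 (nat_lit 0xf00000000000)
 (.cons 32 (nat_lit 0xf6080000)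
 .nil)))))))))))
noncomputable def a247 : Net := (.cons 32 (nat_lit 0xf6080000)
 (.cons 16 (nat_lit 0xf00000000000)
 (.cons 8 (nat_lit 0xf200ff006600c0)
 (.cons 4 (nat_lit 0x906060906090900000f0f00060000)
 (.cons 2 (nat_lit 0x222222222222223232333331203300)
 (.cons 1 (nat_lit 0x111111111111115150414150100500)
 (.cons 2 (nat_lit 0x222222222222220200000000200000)
 (.cons 8 (nat_lit 0x20000006600c0)
 (.cons 16 (nat_lit 0xf00000000000)
 (.cons 32 (nat_lit 0xf6080000)
 .nil))))))))))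
noncomputable def a248 : Net := (.cons 2 (nat_lit 0x333333333333333300000000000000)
 (.cons 1 (nat_lit 0x555555555555555550514140500500)
 .nil))
noncomputable def a249 : Net := (.cons 4 (nat_lit 0xf0f0f0f0f0f0f0f00000000000000)
 (.cons 1 (nat_lit 0x50541411041040)
 .nil))
noncomputable def a250 : Net := (.cons 4 (nat_lit 0xf0f0f0f0f0f0f0f00000000000000)
 (.cons 2 (nat_lit 0x333333333333333300000000000000)
 (.cons 1 (nat_lit 0x555555555555555500055551541540)
 .nil)))
noncomputable def a251 : Net := (.cons 4 (nat_lit 0xf0f0f0f0f0f0f0f00000000000000)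
 (.cons 1 (nat_lit 0x50541411041040)
 .nil))
noncomputable def a252 : Net := (.cons 2 (nat_lit 0x333333333333333300000000000000)
 (.cons 1 (nat_lit 0x555555555555555550514140500500)
 .nil))
noncomputable def a253 : Net := (.cons 4 (nat_lit 0xf0f0f0f0f0f0f0f00000000000000)
 (.cons 2 (nat_lit 0x333333333333333300000000000000)
 (.cons 1 (nat_lit 0x555555555555555500055551541540)
 .nil)))
noncomputable def ns0 : List Net := [a0, a1, a2, a3, a4, a5, a6, a7, a8, a9, a10, a11, a12, a13, a14, a15]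
noncomputable def ws : List (List ℕ) :=
  [W (nat_lit 0x401),
  W (nat_lit 0x3001),
  W (nat_lit 0x1009),
  W (nat_lit 0x480903c09038170101f018120700d0140e0481302011058140381d058140740401c19074150501a02c15068170780f068140780c),
  W (nat_lit 0x740b0341c0480b060040201304c0d06c080101a048090401403c0306814044200180c0640f03c0f0080503c130181e),
  W (nat_lit 0x2a09c27),
  W (nat_lit 0xa82a0a02a),
  W (nat_lit 0xb82b0ac2b),
  W (nat_lit 0xb02d0ac2d0ac2b0b82c),
  W (nat_lit 0x320bc310c031),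
  W (nat_lit 0xc42f),
  W (nat_lit 0xc4310bc310c030),
  W (nat_lit 0xe036),
  W (nat_lit 0x350e0360e034),
  W (nat_lit 0xec3a),
  W (nat_lit 0xe43c0f039),
  W (nat_lit 0x1003e),
  W (nat_lit 0xb82b0b42c),
  W (nat_lit 0xb42c0b82c0b82c),
  W (nat_lit 0x441104611045),
  W (nat_lit 0x1144310c4311846),
  W (nat_lit 0x1144511046),
  W (nat_lit 0x1204c),
  W (nat_lit 0x1284812048),
  W (nat_lit 0xac2b0ac2d0ac2b),
  W (nat_lit 0xb42c0b02c),
  W (nat_lit 0x14c52150511445314454),
  W (nat_lit 0x5415054),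
  W (nat_lit 0x541485314c5314454),
  W (nat_lit 0x15c5616058),
  W (nat_lit 0x591605515c5a15856),
  W (nat_lit 0x5d16c5d16c5e),
  W (nat_lit 0x2e0b02e0ac2d0ac2e),
  W (nat_lit 0xb42d0b42b0b82b0b42c),
  W (nat_lit 0x631846318c61),
  W (nat_lit 0x6218c631846418863),
  W (nat_lit 0x6719866),
  W (nat_lit 0x65194651a06519467),
  W (nat_lit 0x1b06a),
  W (nat_lit 0xa02a0a028),
  W (nat_lit 0x290a4701c02a),
  W (nat_lit 0x1c0291c02a1c029),
  W (nat_lit 0x1c02a1c0700a870),
  W (nat_lit 0x711cc751cc711d472),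
  W (nat_lit 0x1c8731c475),
  W (nat_lit 0x781e0781e477),
  W (nat_lit 0x781e4781e07a),
  W (nat_lit 0x580b0481203806024080081705c0e060080481806003078130240702c20044060701204805060160780e05002),
  W (nat_lit 0x600d0500601c0307416078110101408011054110640802c030081c04c160801c0400e0240604c1b050170380f078090601407813),
  W (nat_lit 0x20481200812047f20880),
  W (nat_lit 0x2047f2048020880),
  W (nat_lit 0x21483),
  W (nat_lit 0x8621085214842108621084),
  W (nat_lit 0x892208a),
  W (nat_lit 0x87228882208922089),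
  W (nat_lit 0x22c8e2388e),
  W (nat_lit 0x8c2308c),
  W (nat_lit 0x502c0d03c080140a0280701401034040280f030100380a),
  W (nat_lit 0x240e038100180e0040302c0903c0d03c020400c0180c0080b0280b03c02),
  W (nat_lit 0x4080141002c070040a0080d0100c040050280d008030340601c0d03c08),
  W (nat_lit 0x200c0400d0280803409010100040603001040040340a0140a),
  W (nat_lit 0x30050300a018100080202c0801001004010140c0380e0181000c0b00c02),
  W (nat_lit 0xd02c0303c0103804018100300c034040080800c0900c0d),
  W (nat_lit 0x258942589925c9e24c9326c932789724c9b2649d25c9b25098),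
  W (nat_lit 0x2509e270982749827895274942589c2709c2689b26896),
  W (nat_lit 0x97278932589726c962789c2609627893254992509c2649c25894),
  W (nat_lit 0x972589d2509c2789326c9524c9725c992609326c9d2749325894),
  W (nat_lit 0xa1280a2290a4284a1284a4298a4288a2280a0),
  W (nat_lit 0xa2294a0280a028ca127c9f28ca1280a0),
  W (nat_lit 0xa028ca627ca62909f298a028ca527ca1298a0),
  W (nat_lit 0x2a0aa2b0a72a8a8),
  W (nat_lit 0xad2a4a5),
  W (nat_lit 0xad29ca1),
  W (nat_lit 0x2b49f),
  W (nat_lit 0xa72a49f),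
  W (nat_lit 0xa724c01),
  W (nat_lit 0x29ca9),
  W (nat_lit 0xb004190200b0040a01c0906005020040380a038190281b01c0b02c1c00c010401006004),
  W (nat_lit 0x1f05c1f0240d0100e0140c07004040020400e0641f02c010140c06c09080060300706004),
  W (nat_lit 0x14180141c02c100380f010100180d0700a0040506c06038030600500809024180200302c0a01c0a06c1a06002),
  W (nat_lit 0x281c024060280703c0d06c040800307c1700c06020190280d0680c0042002c1f00418),
  W (nat_lit 0x17070170340b020100640506c0c0340706c1a05c0601c0b00c180080607c1901c1a0380202c0502417008040681a06818),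
  W (nat_lit 0x2fcc22ecbb30cc1310be304be304bb2ecc2300be2f0be),
  W (nat_lit 0xbf2f8c4304bf2f8c2310be2ecbe2fcc12fcc22fcbf),
  W (nat_lit 0x2f4c4304bf308c42f4bb2f4bd304c4310be30cbf310be),
  W (nat_lit 0x2f0bf2fcbb300bd2fcc42f0c0308c22fcc4300be2f0be),
  W (nat_lit 0x2f4c12f0bd304c42f4c22f8c42fcbe310bc),
  W (nat_lit 0xbf2f0c32f4bc2f8bf30cc22fcbe30cbd310bd),
  W (nat_lit 0x324ce320cd314cd33cc8328c6330c6324c9324d0330c8),
  W (nat_lit 0x314c9340ca33cc531cc6338cc328ca31cc531ccf),
  W (nat_lit 0x324cf338c7334cf31ccf334cc330c7314c8),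
  W (nat_lit 0x320cd318cf328cf32ccf32cce314cd324c7340c7338c5340c5),
  W (nat_lit 0x33cce328c8338cb31cc5340c7338c833cc6),
  W (nat_lit 0x31cc7324c5320cb314c7324c8320c933ccf324c6),
  W (nat_lit 0x33ccd33cca31ccb328c8334c931cc5338cc),
  W (nat_lit 0xdb378d1350dc34cda35cd536cd536cde354da),
  W (nat_lit 0xdc370d6358db358d3348d5378d5364d4368d235cd3374d9348d4),
  W (nat_lit 0x370dc354dc360db344d7378da374d2348de358d736cd5374d1344de358d2),
  W (nat_lit 0xd8348d334cde370d7364d5354d7370de368d535cdc378d9360d1370da),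
  W (nat_lit 0xe0380e5390e0390e538ce2390e0),
  W (nat_lit 0x390df37ce4394df398e2380e5390e1),
  W (nat_lit 0x3a8e8),
  W (nat_lit 0xeb39cd1),
  W (nat_lit 0xe734417),
  W (nat_lit 0xeb39cc5),
  W (nat_lit 0xeb39cd134cc7),
  W (nat_lit 0xeb39cdf38cd134cc7),
  W (nat_lit 0xeb39cdf38cd336401),
  W (nat_lit 0xd134c03),
  W (nat_lit 0x37cc5),
  W (nat_lit 0xc1505417044190281b0280b0601f0580f0582004004070070540e0500f0141f0501406c1b03c050680f018160600d0501b00815064040441804402),
  W (nat_lit 0x60040381b0081304809030140401a0541101c0c0201b0640f038050581202c05050090801a0200102c030181a014140201b06012),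
  W (nat_lit 0xa0440108009004180600c0340906c0403c1a0581900819040140381f050010601802c16),
  W (nat_lit 0x101400fd),
  W (nat_lit 0x3f902400fe),
  W (nat_lit 0xff408fd),
  W (nat_lit 0x3f501),
  W (nat_lit 0x108425094110741d05421094150a4210a),
  W (nat_lit 0x103419044190a41105429034210a),
  W (nat_lit 0x10341d0a4190a4110540d0a41508),
  W (nat_lit 0x419074110a40d07415094150542103),
  W (nat_lit 0x1104350c439114410d4350d43d0e44110),
  W (nat_lit 0x10d42d12431104490d4490d4350b),
  W (nat_lit 0x44d16),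
  W (nat_lit 0x11544d1544d1345914),
  W (nat_lit 0x1174691a),
  W (nat_lit 0x11746917),
  W (nat_lit 0x11d4711c4751d),
  W (nat_lit 0x46d184510d44411),
  W (nat_lit 0x47d1c44d1140c01),
  W (nat_lit 0x47d1c461144351104417),
  W (nat_lit 0x47d1b45d16),
  W (nat_lit 0x11f44d18),
  W (nat_lit 0x11f47116),
  W (nat_lit 0x471134540b),
  W (nat_lit 0x47d1c461134550b43401),
  W (nat_lit 0x11f45d14),
  W (nat_lit 0x11c44d15),
  W (nat_lit 0x11b4510b40c12),
  W (nat_lit 0x4711a44d1543d0300412),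
  W (nat_lit 0x471134350f04417),
  W (nat_lit 0x4e40f4e1380353602c090040e0153903009030024e8050080d00c0703c0200c0d4d80d0300c035374e402),
  W (nat_lit 0x413903007014100140f01c070240e4dc0d019354dd36041390140c03c07),
  W (nat_lit 0x300a4d53900c080240c0200803c0c03c0f0040d0200d031360040102139),
  W (nat_lit 0x4e00f0040f021350253502137029390180f01001028044d401020034d4044e402),
  W (nat_lit 0x18010153a020104d80400809031394d402010090340a00d354e5384e00e4e802),
  W (nat_lit 0x13e5053c50d3f4f1434f1434f9414ed404f1435053c),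
  W (nat_lit 0x4f93c50d3f5053b4f9414f13e5054450143),
  W (nat_lit 0x13b5113c50140501414ed3e5053c50144),
  W (nat_lit 0x4f9435053d4ed4050943501424fd3e4fd3f4f93e4fd3c),
  W (nat_lit 0x4f93e5113b4ed404f9425093c5013e5053f4fd3f),
  W (nat_lit 0x13d4f1434fd424f9444f93f4f140),
  W (nat_lit 0x14c51d495254c525505394c5294a51d4a5294c515475254c),
  W (nat_lit 0x5214e53d4551d495254d5415052d45541505394651d4d),
  W (nat_lit 0x5194a5154c5254551d4e525495194b5354551548),
  W (nat_lit 0x1485314751d4e52d465354d51d495154d53d4f5314854150),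
  W (nat_lit 0x14652d4653948531455354f53d4c5354652d4852d4753148),
  W (nat_lit 0x150541455154c5154a53545539505194c5194e529475294e53d4c),
  W (nat_lit 0x51d4e541485154d5294a5314c525505214652d4751d50),
  W (nat_lit 0x56156545545455a5515154d5a555585755457157),
  W (nat_lit 0x15456554571535615b5515755d515595a57558),
  W (nat_lit 0x15d55d5c5695d571575755b561545495b5595e5795257156),
  W (nat_lit 0x15155d5d561545715d5515e5795b5495654952),
  W (nat_lit 0x57d635956558d635996157d665915f59960),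
  W (nat_lit 0x5896657d5f589645956158d6258d6658566),
  W (nat_lit 0x5a568),
  W (nat_lit 0x57d574ec09),
  W (nat_lit 0x5ad6757d6154d474ec03),
  W (nat_lit 0x57d6155d454ec03),
  W (nat_lit 0x16757c03),
  W (nat_lit 0x16757d6154547),
  W (nat_lit 0x5ad6754401),
  W (nat_lit 0x57d5155d45),
  W (nat_lit 0x59d5f5855155d45),
  W (nat_lit 0x16b54547),
  W (nat_lit 0x16156403),
  W (nat_lit 0x59d5f),
  W (nat_lit 0x38090080e0200901d3500c1000c060240d01c030400602c03019354e402),
  W (nat_lit 0x10240c00c074d8060340b4dc0e01c09004064e4084e0030400702c064e40d4e00f0253802c0502d3503c04),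
  W (nat_lit 0x2d3504135040050300f0140403c050080a02d3a0340c4e00402c0e00c0c4d408),
  W (nat_lit 0x18761d8462186),
  W (nat_lit 0x18360d8560d8361984),
  W (nat_lit 0x18962d8a6318a),
  W (nat_lit 0x1c1c0701f08810014080840506824098220982201c1f03c2201c070841c08406),
  W (nat_lit 0x703c0609408080250400806c100681f07c1b01425014200341a),
  W (nat_lit 0x1c01c050800e098240682508c0e0841b064260880507022018250401b0800f07c070180603806),
  W (nat_lit 0x23068070340703c1a0901c0940f0181c01c10068250141f07c1a),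
  W (nat_lit 0x1c1a094200140e0680d068250642006408040080800806c0e06c1f07005),
  W (nat_lit 0x2003c1a0340d0402503c1c0901f064220640f06c230401b0802203426070210181a),
  W (nat_lit 0x6598f6599064d9a6499a6459664597665976698f66190),
  W (nat_lit 0x19a669986659264d9965d926699665d96669966698f64994),
  W (nat_lit 0x1906558f659946698f665936558f665956519865996),
  W (nat_lit 0x65d926699466593665986699564d96641986659164d9864594),
  W (nat_lit 0x65991651926498f65d9065d9666192659996559064d9064994),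
  W (nat_lit 0x1936599065590659946699a6459466993669936558f64d90),
  W (nat_lit 0x649966618f659976659564d9565594651986519864d96),
  W (nat_lit 0x1a267d9e69d9c69da76759c6919d681a369da2671a766da36799c),
  W (nat_lit 0x1a6681a4675a167d9c671a56899e685a0689a5679a6689a66999c),
  W (nat_lit 0x689a5675a16919b691a56819b681a368da167da2),
  W (nat_lit 0x1a467da368da5695a56719e6899c6719d67da267d9c),
  W (nat_lit 0x1aa6b9af6b1aa6b9ab6a9aa6a9ae),
  W (nat_lit 0x6c1ac6b5ab6a5ac6a9ae6b1ae),
  W (nat_lit 0x6d1b2),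
  W (nat_lit 0x1b16ada5),
  W (nat_lit 0x67593),
  W (nat_lit 0x1b16b59b63c19),
  W (nat_lit 0x6d5b16adad68419),
  W (nat_lit 0x6d5b16b419),
  W (nat_lit 0x1ab6b59b69419),
  W (nat_lit 0x6d5ab6b5a363c19),
  W (nat_lit 0x1b56c5ab6b5a363c19),
  W (nat_lit 0x6c5ab6b5a1),
  W (nat_lit 0x1b56adad68d8f),
  W (nat_lit 0x6c5ab),
  W (nat_lit 0x6c5ab68d8f),
  W (nat_lit 0x6c5ad66da5),
  W (nat_lit 0x735cd735ca),
  W (nat_lit 0x1ca735cb),
  W (nat_lit 0x1ce731ce),
  W (nat_lit 0x749d4759d2),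
  W (nat_lit 0x745c9),
  W (nat_lit 0x745d3),
  W (nat_lit 0x1d7745c9),
  W (nat_lit 0x942106c2607022),
  W (nat_lit 0x3421070260880e0941b),
  W (nat_lit 0x3c25070260401b),
  W (nat_lit 0x3c190901008c1a),
  W (nat_lit 0x1e3799e378de0795e0785e4785e1799e2),
  W (nat_lit 0x1e6791e678de6789e4789e2799e0),
  W (nat_lit 0x795e3781e677de5795e5785e4),
  W (nat_lit 0x7a5e77b1e8),
  W (nat_lit 0x1e77ade7),
  W (nat_lit 0x7b9ee7bdee),
  W (nat_lit 0x1b56c5ad),
  W (nat_lit 0x39c97340d739ca),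
  W (nat_lit 0x6dcc071cb),
  W (nat_lit 0x7ddf6),
  W (nat_lit 0x41b203db1)]
noncomputable def ns : List Net := [a0, a1, a2, a3, a4, a5, a6, a7, a8, a9, a10, a11, a12, a13, a14, a15, a16, a17, a18, a19, a20, a21, a22, a23, a24, a25, a26, a27, a28, a29, a30, a31, a32, a33, a34, a35, a36, a37, a38, a39, a40, a41, a42, a43, a44, a45, a46, a47, a48, a49, a50, a51, a52, a53, a54, a55, a56, a57, a58, a59, a60, a61, a62, a63, a64, a65, a66, a67, a68, a69, a70, a71, a72, a73, a74, a75, a76, a77, a78, a79, a80, a81, a82, a83, a84, a85, a86, a87, a88, a89, a90, a91, a92, a93, a94, a95, a96, a97, a98, a99, a100, a101, a102, a103, a104, a105, a106, a107, a108, a109, a110, a111, a112, a113, a114, a115, a116, a117, a118, a119, a120, a121, a122, a123, a124, a125, a126, a127, a128, a129, a130, a131, a132, a133, a134, a135, a136, a137, a138, a139, a140, a141, a142, a143, a144, a145, a146, a147, a148, a149, a150, a151, a152, a153, a154, a155, a156, a157, a158, a159,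 a160, a161, a162, a163, a164, a165, a166, a167, a168, a169, a170, a171, a172, a173, a174, a175, a176, a177, a178, a179, a180, a181, a182, a183, a184, a185, a186, a187, a188, a189, a190, a191, a192, a193, a194, a195, a196, a197, a198, a199, a200, a201, a202, a203, a204, a205, a206, a207, a208, a209, a210, a211, a212, a213, a214, a215, a216, a217, a218, a219, a220, a221, a222, a223, a224, a225, a226, a227, a228, a229, a230, a231, a232, a233, a234, a235, a236, a237, a238, a239, a240, a241, a242, a243, a244, a245, a246, a247, a248, a249, a250, a251, a252, a253]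
noncomputable def D : List (ℕ × List ℕ) := app [] (mkDefs ws 16)
noncomputable def chk : List (List ℕ × List ℕ) → Bool := P.relsB ns
noncomputable def zt0 : List ℕ :=
  []
noncomputable def zcj1 : List (List ℕ) :=
  []
noncomputable def zus4 : List (List ℕ) :=
  [[60],
  [62]]
noncomputable def zF5 : List (List (ℕ × List ℕ)) :=
  [[(1, []),
   (0, []),
   (2, [64])],
  [(2, []),
   (0, [64]),
   (1, [64])]]
noncomputable def zus8 : List (List ℕ) :=
  [[56],
  [57],
  W (nat_lit 0xe43b)]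
noncomputable def zF9 : List (List (ℕ × List ℕ)) :=
  [[(1, []),
   (2, []),
   (0, []),
   (3, [62])],
  [(1, [60]),
   (3, []),
   (0, [64]),
   (2, [62])]]
noncomputable def zus12 : List (List ℕ) :=
  [[50],
  [51],
  [52],
  W (nat_lit 0xcc33),
  W (nat_lit 0xcc37),
  W (nat_lit 0xcc39),
  W (nat_lit 0x330cc35)]
noncomputable def zF13 : List (List (ℕ × List ℕ)) :=
  [[(1, []),
   (4, []),
   (0, []),
   (6, W (nat_lit 0x410e43b)),
   (2, []),
   (3, [56]),
   (7, W (nat_lit 0x410f439)),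
   (5, [57])],
  [(3, []),
   (2, W (nat_lit 0x410f43a)),
   (1, W (nat_lit 0x410f43a)),
   (0, []),
   (7, []),
   (6, W (nat_lit 0x410f439)),
   (5, W (nat_lit 0x410e43b)),
   (4, [])],
  [(2, W (nat_lit 0x3f0e43b)),
   (5, []),
   (4, W (nat_lit 0x410fc39)),
   (0, [57]),
   (7, W (nat_lit 0x1043f0e43b)),
   (1, W (nat_lit 0x410f439)),
   (3, W (nat_lit 0x10439)),
   (6, W (nat_lit 0x1043d0e43b))]]
noncomputable def zus16 : List (List ℕ) :=
  [[46],
  [47],
  [49],
  W (nat_lit 0xbc2f),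
  W (nat_lit 0xbc31),
  W (nat_lit 0xbc34),
  W (nat_lit 0xbc33),
  W (nat_lit 0xc035),
  W (nat_lit 0xc033)]
noncomputable def zF17 : List (List (ℕ × List ℕ)) :=
  [[(1, []),
   (4, []),
   (0, []),
   (7, W (nat_lit 0x3d0cc37)),
   (2, [56]),
   (3, []),
   (8, W (nat_lit 0x3f0e43b0cc37)),
   (6, W (nat_lit 0x1043f0cc33)),
   (9, W (nat_lit 0x410f4390cc33)),
   (5, [64])],
  [(2, [52]),
   (5, []),
   (6, W (nat_lit 0x410f4390cc33)),
   (0, []),
   (1, W (nat_lit 0xf433)),
   (8, W (nat_lit 0x3d0cc39)),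
   (3, W (nat_lit 0x3d0cc39)),
   (7, W (nat_lit 0x1043d0e433)),
   (4, [57]),
   (9, W (nat_lit 0x10435))]]
noncomputable def zus20 : List (List ℕ) :=
  [[42],
  [43],
  [45],
  W (nat_lit 0xac2b),
  W (nat_lit 0xac2d),
  W (nat_lit 0xb02c),
  W (nat_lit 0xb02d),
  W (nat_lit 0xb02e),
  W (nat_lit 0xb82e),
  W (nat_lit 0xb030),
  W (nat_lit 0xb031),
  W (nat_lit 0xb03a),
  W (nat_lit 0x2b0b42d),
  W (nat_lit 0xac30),
  W (nat_lit 0xb03b),
  W (nat_lit 0x2b0c02c),
  W (nat_lit 0x2c0b42d),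
  W (nat_lit 0xb82f),
  W (nat_lit 0x2b0ac31),
  W (nat_lit 0x2c0b02f),
  W (nat_lit 0x2b0ac33),
  W (nat_lit 0x2b0b438),
  W (nat_lit 0x2b0ac3c),
  W (nat_lit 0x2b0ac2f),
  W (nat_lit 0xac32),
  W (nat_lit 0x2c0b431)]
noncomputable def zF21 : List (List (ℕ × List ℕ)) :=
  [[(1, []),
   (4, []),
   (0, []),
   (6, [46]),
   (3, [47]),
   (11, W (nat_lit 0x3f0e4330dc30)),
   (2, []),
   (16, W (nat_lit 0x1043d0e43b0cc330bc34)),
   (17, W (nat_lit 0x410f4330bc33)),
   (19, W (nat_lit 0xfc390ec340bc2f)),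
   (8, W (nat_lit 0x1043a0cc330c035)),
   (23, W (nat_lit 0xfc3a0bc31)),
   (5, W (nat_lit 0x410cc330bc31)),
   (25, W (nat_lit 0x3d0e4330cc350c035)),
   (7, W (nat_lit 0xe43b0cc370bc34)),
   (18, W (nat_lit 0x410fc3a0cc390bc2f)),
   (14, []),
   (13, W (nat_lit 0x1043d0cc370bc33)),
   (21, W (nat_lit 0x1043f0e4350bc31)),
   (15, W (nat_lit 0xf43a0cc39)),
   (9, W (nat_lit 0x3a0bc33)),
   (20, W (nat_lit 0x3f0cc370bc2f)),
   (10, W (nat_lit 0x410e4330bc31)),
   (26, W (nat_lit 0x1043d0e43b0cc390c033)),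
   (12, W (nat_lit 0x1043d0e8350c035)),
   (22, W (nat_lit 0x330cc35)),
   (24, W (nat_lit 0x3d0cc370c033))],
  [(1, W (nat_lit 0x410f4390cc390bc33)),
   (5, []),
   (7, []),
   (0, []),
   (10, []),
   (13, []),
   (14, []),
   (17, []),
   (2, []),
   (3, []),
   (23, W (nat_lit 0x410e8330cc350bc31)),
   (4, W (nat_lit 0x3f0e4330cc350bc31)),
   (22, W (nat_lit 0x3d0e43b0cc330bc31)),
   (11, W (nat_lit 0x104390bc2f)),
   (18, W (nat_lit 0x410fc390cc330bc33)),
   (6, W (nat_lit 0xf43a0cc330d42f)),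
   (24, W (nat_lit 0x3d0e43b0cc33)),
   (26, W (nat_lit 0x3a0cc330c035)),
   (8, W (nat_lit 0x410fc390cc330c035)),
   (16, W (nat_lit 0x410fc390ec350bc2f)),
   (12, W (nat_lit 0x1043f0c035)),
   (9, W (nat_lit 0x410e43b0cc390bc33)),
   (20, W (nat_lit 0x3d0cc370bc33)),
   (25, W (nat_lit 0xf4390ec330bc31)),
   (15, W (nat_lit 0x3f0e8330cc2f)),
   (21, W (nat_lit 0xfc390ec330cc350bc33)),
   (19, W (nat_lit 0x104350bc33))]]
noncomputable def zrs24 : List (ℕ × List ℕ) :=
  [(58, [38]),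
  (19, W (nat_lit 0x280b028)),
  (15, W (nat_lit 0xa0330a028))]
noncomputable def W_w1_1_v0 : Lev :=
  ⟨58, 27, sg (W (nat_lit 0xb42b0b42b0b42b0b42b)), [[66], [68]], 17, 2⟩
noncomputable def W_w1_1_v1 : Lev :=
  ⟨37, 20, sg (W (nat_lit 0x10c45114431144311443)), [[70], [72], [74]], 19, 3⟩
noncomputable def W_w1_1_v2 : Lev :=
  ⟨38, 12, sg (W (nat_lit 0x4711c471244911c47)), [[76], [78]], 22, 2⟩
noncomputable def W_w1_1_v3 : Lev :=
  ⟨1, 4, sg (W (nat_lit 0x4f1344f)), [[76]], 24, 0⟩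
noncomputable def W_w1_1_v4 : Lev :=
  ⟨10, 2, sg [76], [], 24, 0⟩
noncomputable def W_w1_1_vs5 : List Lev :=
  []
noncomputable def W_w1_1_vs4 : List Lev :=
  W_w1_1_v4 :: W_w1_1_vs5
noncomputable def W_w1_1_vs3 : List Lev :=
  W_w1_1_v3 :: W_w1_1_vs4
noncomputable def W_w1_1_vs2 : List Lev :=
  W_w1_1_v2 :: W_w1_1_vs3
noncomputable def W_w1_1_vs1 : List Lev :=
  W_w1_1_v1 :: W_w1_1_vs2
noncomputable def W_w1_1_vs : List Lev :=
  W_w1_1_v0 :: W_w1_1_vs1
noncomputable def zcj26 : List (List ℕ) :=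
  [W (nat_lit 0xf4390ec350bc2c0b02f),
  W (nat_lit 0x3d0e43b0cc370bc2f0b02c)]
noncomputable def W_w1_2_v0 : Lev :=
  ⟨19, 27, sg (W (nat_lit 0xac2d0ac2b0b42b0b42b)), [[80], [82]], 24, 2⟩
noncomputable def W_w1_2_v1 : Lev :=
  ⟨38, 20, sg (W (nat_lit 0x531445114c5114c51)), [[84], [86], [88]], 26, 3⟩
noncomputable def W_w1_2_v2 : Lev :=
  ⟨40, 12, sg (W (nat_lit 0x154551545516455)), [[90], [92]], 29, 2⟩
noncomputable def W_w1_2_v3 : Lev :=
  ⟨1, 4, sg (W (nat_lit 0x5b1745b)), [[94]], 31, 1⟩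
noncomputable def W_w1_2_v4 : Lev :=
  ⟨4, 2, sg [94], [], 32, 0⟩
noncomputable def W_w1_2_vs5 : List Lev :=
  []
noncomputable def W_w1_2_vs4 : List Lev :=
  W_w1_2_v4 :: W_w1_2_vs5
noncomputable def W_w1_2_vs3 : List Lev :=
  W_w1_2_v3 :: W_w1_2_vs4
noncomputable def W_w1_2_vs2 : List Lev :=
  W_w1_2_v2 :: W_w1_2_vs3
noncomputable def W_w1_2_vs1 : List Lev :=
  W_w1_2_v1 :: W_w1_2_vs2
noncomputable def W_w1_2_vs : List Lev :=
  W_w1_2_v0 :: W_w1_2_vs1
noncomputable def zcj30 : List (List ℕ) :=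
  [W (nat_lit 0x410e8320b82f),
  W (nat_lit 0x104390d42f0b02d)]
noncomputable def W_w1_3_v0 : Lev :=
  ⟨15, 1, sg [], [[42], [44]], 32, 0⟩
noncomputable def W_w1_3_v1 : Lev :=
  ⟨36, 36, sg (W (nat_lit 0xb42b0b42b0b42b0b42b)), [[96], [98]], 32, 2⟩
noncomputable def W_w1_3_v2 : Lev :=
  ⟨38, 20, sg (W (nat_lit 0x631846118c6118c61)), [[100], [102]], 34, 2⟩
noncomputable def W_w1_3_v3 : Lev :=
  ⟨1, 9, sg (W (nat_lit 0x19c6519c65)), [[104], [106]], 36, 2⟩
noncomputable def W_w1_3_v4 : Lev :=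
  ⟨10, 4, sg (W (nat_lit 0x691ac69)), [[108]], 38, 1⟩
noncomputable def W_w1_3_v5 : Lev :=
  ⟨4, 2, sg [108], [], 39, 0⟩
noncomputable def W_w1_3_vs6 : List Lev :=
  []
noncomputable def W_w1_3_vs5 : List Lev :=
  W_w1_3_v5 :: W_w1_3_vs6
noncomputable def W_w1_3_vs4 : List Lev :=
  W_w1_3_v4 :: W_w1_3_vs5
noncomputable def W_w1_3_vs3 : List Lev :=
  W_w1_3_v3 :: W_w1_3_vs4
noncomputable def W_w1_3_vs2 : List Lev :=
  W_w1_3_v2 :: W_w1_3_vs3
noncomputable def W_w1_3_vs1 : List Lev :=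
  W_w1_3_v1 :: W_w1_3_vs2
noncomputable def W_w1_3_vs : List Lev :=
  W_w1_3_v0 :: W_w1_3_vs1
noncomputable def zcj34 : List (List ℕ) :=
  [W (nat_lit 0x410cc330bc2b0ac3c),
  W (nat_lit 0x1043f0e43b0d02f0ac30)]
noncomputable def zB37 : List BG :=
  [⟨[39], [([66], W (nat_lit 0xf4390ec350bc2c0b02f)), ([68], W (nat_lit 0x3d0e43b0cc370bc2f0b02c))],
  [([⟨[], W (nat_lit 0xb82c), 1, W (nat_lit 0xfc330cc2f0b82e)⟩], []),
   ([⟨[], [], 0, []⟩,
    ⟨[42], W (nat_lit 0xac32), 1, W (nat_lit 0x3f0e43b0cc2f0c42c0b431)⟩,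
    ⟨W (nat_lit 0xac2b), W (nat_lit 0xac31), 2, W (nat_lit 0x1043d0e8340bc2c0b42d)⟩], W (nat_lit 0x1004020040100801)),
   ([⟨[], W (nat_lit 0xb02f), 2, W (nat_lit 0x1043d0e43b0c82b0ac33)⟩,
    ⟨[42], [], 1, W (nat_lit 0x390cc390bc340ac2d)⟩,
    ⟨W (nat_lit 0xb031), [], 3, W (nat_lit 0x3a0cc370c0330b03a)⟩], W (nat_lit 0x1004020040100801)),
   ([⟨[], W (nat_lit 0xac34), 2, W (nat_lit 0xf4390d42f0bc2b0b438)⟩], [])]⟩]
noncomputable def zE38 : List (ℕ × List ℕ) :=
  [(40, W (nat_lit 0xf4330dc2f0ac2d0b4280b028))]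
noncomputable def W_v0 : Lev :=
  ⟨0, 120, sg (W (nat_lit 0x1304c010741305c1102401)), [[38], [40]], 3, 2⟩
noncomputable def W_v1 : Lev :=
  ⟨2, 56, sg (W (nat_lit 0xa4270a4270a4270a4270a427)), [[42], [44]], 5, 2⟩
noncomputable def W_v2 : Lev :=
  ⟨1, 27, sg (W (nat_lit 0xac2b0b42b0b42b0b42b)), [[46], [48]], 7, 2⟩
noncomputable def W_v3 : Lev :=
  ⟨4, 10, sg (W (nat_lit 0x2f0bc310bc2f)), [[50], [52], [54]], 9, 3⟩
noncomputable def W_v4 : Lev :=
  ⟨6, 8, sg (W (nat_lit 0xd4330d433)), [[56], [58]], 12, 2⟩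
noncomputable def W_v5 : Lev :=
  ⟨56, 4, sg (W (nat_lit 0x3b0e439)), [[60], [62]], 14, 2⟩
noncomputable def W_v6 : Lev :=
  ⟨8, 3, sg (W (nat_lit 0xfc3d)), [[64]], 16, 1⟩
noncomputable def W_v7 : Lev :=
  ⟨10, 2, sg [64], [], 17, 0⟩
noncomputable def W_vs8 : List Lev :=
  []
noncomputable def W_vs7 : List Lev :=
  W_v7 :: W_vs8
noncomputable def W_vs6 : List Lev :=
  W_v6 :: W_vs7
noncomputable def W_vs5 : List Lev :=
  W_v5 :: W_vs6
noncomputable def W_vs4 : List Lev :=
  W_v4 :: W_vs5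
noncomputable def W_vs3 : List Lev :=
  W_v3 :: W_vs4
noncomputable def W_vs2 : List Lev :=
  W_v2 :: W_vs3
noncomputable def W_vs1 : List Lev :=
  W_v1 :: W_vs2
noncomputable def W_vs : List Lev :=
  W_v0 :: W_vs1
noncomputable def zrs44 : List (ℕ × List ℕ) :=
  [(1, W (nat_lit 0x48290a411)),
  (2, [16])]
noncomputable def W_w0_1_v0 : Lev :=
  ⟨1, 63, sg (W (nat_lit 0x9c2909c2909c2909c2909c2909c27)), [[41], [110]], 39, 1⟩
noncomputable def W_w0_1_v1 : Lev :=
  ⟨56, 32, sg (W (nat_lit 0x1bc2a1bc2a1bc2a1bc2a)), [[112], [114], [116]], 40, 3⟩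
noncomputable def W_w0_1_v2 : Lev :=
  ⟨91, 20, sg (W (nat_lit 0x1c4711d4711d4731c471)), [[118], [120]], 43, 2⟩
noncomputable def W_w0_1_v3 : Lev :=
  ⟨30, 9, sg (W (nat_lit 0x791dc791e477)), [[122], [124]], 45, 2⟩
noncomputable def W_w0_1_v4 : Lev :=
  ⟨4, 4, sg (W (nat_lit 0x7d1ec7d)), [[122]], 47, 0⟩
noncomputable def W_w0_1_v5 : Lev :=
  ⟨10, 2, sg [122], [], 47, 0⟩
noncomputable def W_w0_1_vs6 : List Lev :=
  []
noncomputable def W_w0_1_vs5 : List Lev :=
  W_w0_1_v5 :: W_w0_1_vs6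
noncomputable def W_w0_1_vs4 : List Lev :=
  W_w0_1_v4 :: W_w0_1_vs5
noncomputable def W_w0_1_vs3 : List Lev :=
  W_w0_1_v3 :: W_w0_1_vs4
noncomputable def W_w0_1_vs2 : List Lev :=
  W_w0_1_v2 :: W_w0_1_vs3
noncomputable def W_w0_1_vs1 : List Lev :=
  W_w0_1_v1 :: W_w0_1_vs2
noncomputable def W_w0_1_vs : List Lev :=
  W_w0_1_v0 :: W_w0_1_vs1
noncomputable def zcj46 : List (List ℕ) :=
  [W (nat_lit 0xfc330c829),
  W (nat_lit 0xe4330dc320a433)]
noncomputable def zcj49 : List (List ℕ) :=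
  [W (nat_lit 0x410cc330c02b0b4270a439),
  W (nat_lit 0x1043f0e4330dc2f0c42709c3a)]
noncomputable def zB52 : List BG :=
  [⟨[17], [([42], W (nat_lit 0x410cc330c02b0b4270a439)), ([44], W (nat_lit 0x1043f0e4330dc2f0c42709c3a))],
  [([⟨[], W (nat_lit 0x270bc2e), 2, W (nat_lit 0x330cc2f0bc2c0b0270bc2e)⟩], []),
   ([⟨[], W (nat_lit 0x270ac2b), 2, W (nat_lit 0x1043d0e8330dc300cc2c0c4270bc2e)⟩,
    ⟨[38], [38], 1, W (nat_lit 0x3f0d4300ac2d)⟩], W (nat_lit 0x401008010080100801)),
   ([⟨[], [], 0, []⟩,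
    ⟨[38], [38], 2, W (nat_lit 0xfc390ec340c82b0ac3309c32)⟩,
    ⟨[40], W (nat_lit 0x270b031), 1, W (nat_lit 0x1043a0cc330d42b0c0270a428)⟩,
    ⟨W (nat_lit 0x270ac29), W (nat_lit 0xa430), 2, W (nat_lit 0xfc330dc2f0d02b0c8270b82a)⟩], W (nat_lit 0x100401008010080100801))]⟩]
noncomputable def zE53 : List (ℕ × List ℕ) :=
  [(0, W (nat_lit 0xf4390cc330d4300a82f048290a411)),
  (2, W (nat_lit 0x410fc390bc340a435048290a411)),
  (4, W (nat_lit 0x1043d0e43b0cc37)),
  (6, W (nat_lit 0x1043f0e833)),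
  (8, W (nat_lit 0x104390cc330c02b0a4350482c04428)),
  (10, W (nat_lit 0x3f0e43b0cc390c82c0ec290c0120b011)),
  (12, W (nat_lit 0xf4390ec35)),
  (14, W (nat_lit 0x3d0e43b0cc33)),
  (18, W (nat_lit 0xf4390ec330cc350bc2b0c0270a4390482c)),
  (20, [62]),
  (22, W (nat_lit 0xfc390cc370c82b0c8270bc2e0482a04831)),
  (24, W (nat_lit 0x3f0e8340c0330b03b0a42d048290a411)),
  (26, W (nat_lit 0x410bc2f0b03a0a8110a42d)),
  (28, W (nat_lit 0x1043f0e8330e4320b82f0a02e0482f)),
  (30, W (nat_lit 0x104390bc330ac3209c2f0b811))]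
noncomputable def zm58 : ℕ :=
  (nat_lit 0xfff0000c03c03f)
noncomputable def zm59 : ℕ :=
  (nat_lit 0xc03c03f)
noncomputable def zm60 : ℕ :=
  (nat_lit 0xff000000000000fffff00000003fc0)
noncomputable def zm61 : ℕ :=
  (nat_lit 0x18818118811818810000303c0fc0ff)
noncomputable def zm62 : ℕ :=
  (nat_lit 0x1818242442428181000c03003000c0)
noncomputable def zm63 : ℕ :=
  (nat_lit 0xfc0fcfcff3c0c0)
noncomputable def zm64 : ℕ :=
  (nat_lit 0x60906090060906090c03cc000c0f30)
noncomputable def cent_F : List (List ℕ × ℕ × ℕ) :=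
  [(W (nat_lit 0x401), zm58, zm58),
  ([4], zm59, zm59),
  ([16], zm60, zm60),
  ([20], zm61, zm61),
  ([22], zm62, zm62),
  ([24], zm63, zm63),
  ([28], zm64, zm64)]
noncomputable def centG_v0 : Lev :=
  ⟨56, 120, sg (W (nat_lit 0x1413074010641301c0500c01)), [[126], [128]], 47, 2⟩
noncomputable def centG_v1 : Lev :=
  ⟨1, 63, sg (W (nat_lit 0x7f1fc7f2047f2047f2047f2047f)), [[130], [132]], 49, 2⟩
noncomputable def centG_v2 : Lev :=
  ⟨0, 32, sg (W (nat_lit 0x8320c8520c8520c8520c83)), [[134], [136]], 51, 2⟩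
noncomputable def centG_v3 : Lev :=
  ⟨91, 20, sg (W (nat_lit 0x22487224872248722487)), [[138], [140]], 53, 2⟩
noncomputable def centG_v4 : Lev :=
  ⟨30, 9, sg (W (nat_lit 0x8b22c8d2348b)), [[142], [144]], 55, 2⟩
noncomputable def centG_v5 : Lev :=
  ⟨4, 4, sg (W (nat_lit 0x9123c91)), [[142]], 57, 0⟩
noncomputable def centG_v6 : Lev :=
  ⟨10, 2, sg [142], [], 57, 0⟩
noncomputable def centG_vs7 : List Lev :=
  []
noncomputable def centG_vs6 : List Lev :=
  centG_v6 :: centG_vs7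
noncomputable def centG_vs5 : List Lev :=
  centG_v5 :: centG_vs6
noncomputable def centG_vs4 : List Lev :=
  centG_v4 :: centG_vs5
noncomputable def centG_vs3 : List Lev :=
  centG_v3 :: centG_vs4
noncomputable def centG_vs2 : List Lev :=
  centG_v2 :: centG_vs3
noncomputable def centG_vs1 : List Lev :=
  centG_v1 :: centG_vs2
noncomputable def centG_vs : List Lev :=
  centG_v0 :: centG_vs1
noncomputable def cent_x : List (ℕ × List ℕ) :=
  [((nat_lit 0), []),
  ((nat_lit 0), [(nat_lit 0x177e7ee87ee8e880aaaaaaaaaaaaaa)]),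
  ((nat_lit 0), []),
  ((nat_lit 0), [(nat_lit 0x177e7ee80000000000000000000000)]),
  ((nat_lit 0), [(nat_lit 0x1554540000000)]),
  ((nat_lit 0), [(nat_lit 0x1400050)]),
  ((nat_lit 0), [(nat_lit 0x80)])]
noncomputable def cent_G : Gl :=
  ⟨P, ns, (app D []), (diag [[0], [2], [4], [6], [8], [10], [12], [14], [16], [18], [20], [22], [24], [26], [28]]), [], [], memM (app D []) [], true⟩
noncomputable def cent_s : St :=
  ⟨(mkS P.n centG_vs cent_x), [[0], [2], [4], [6], [8], [10], [12], [14], [16], [18], [20], [22], [24], [26], [28], [30]], [], mapL Prod.snd cent_F, memM (app D []) [], []⟩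
noncomputable def zt68 : ST :=
  (.and 4 6 (.and 0 3 (.br 0 [] [] [(56, [])] (.cons (.dif 4 8 (.orb 0 (.and 1 0 (.img [0] 11 (.dif 1 0 (.br 0 [] [] [(1, [])] (.cons (.img [0] 1 (.br 0 [] [] [(0, [])] (.cons (.orb 0 (.and 0 15 (.dif 0 15 (.br 0 [] [] [(91, [])] (.cons (.orb 0 (.img [4] 19 (.and 1 0 (.dif 0 24 (.br 0 [] [] [(30, [])] (.cons (.orb 0 (.and 0 21 (.br 0 [] [] [(4, [])] (.cons (.orb 0 (.img [12] 0 (.br 0 [] [] [(10, [])] (.cons .fnd
 .nil))))
 .nil))))
 .nil))))))
 .nil)))))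
 .nil)))
 .nil)))))))
 .nil))))
noncomputable def Q_ps : List PcG :=
  [⟨[174], 2, [184], [[176], [10], [8], W (nat_lit 0x2e4b3), [180], [182], [0], [184]]⟩,
  ⟨[176], 2, [184], [[10], [8], [178], W (nat_lit 0x2e4b5), [182], [0], [184]]⟩,
  ⟨[10], 2, [184], [[8], [178], [180], W (nat_lit 0x2e4b7), [0], [184]]⟩,
  ⟨[8], 2, [184], [[178], [180], [182], W (nat_lit 0x2e401), [184]]⟩,
  ⟨[178], 2, [184], [[180], [182], [0], [184]]⟩,
  ⟨[180], 2, [184], [[182], [0], [184]]⟩,
  ⟨[182], 2, [184], [[0], [184]]⟩,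
  ⟨[0], 2, [184], [[184]]⟩,
  ⟨[184], 2, [], []⟩]
noncomputable def zE72 : List (ℕ × List ℕ) :=
  [(2, [182]),
  (4, [180]),
  (6, [178]),
  (12, [176]),
  (14, [174])]
noncomputable def Q_v0 : Lev :=
  ⟨0, 4, sg (W (nat_lit 0x2401)), [[146], [148], [150], [152], [154], [156]], 57, 6⟩
noncomputable def Q_v1 : Lev :=
  ⟨2, 4, sg (W (nat_lit 0x25493)), [[158], [160], [162], [164]], 63, 4⟩
noncomputable def Q_v2 : Lev :=
  ⟨44, 4, sg (W (nat_lit 0x2849f)), [[166], [168], [170]], 67, 3⟩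
noncomputable def Q_v3 : Lev :=
  ⟨6, 4, sg (W (nat_lit 0x2a4a7)), [[172]], 70, 1⟩
noncomputable def Q_v4 : Lev :=
  ⟨10, 2, sg [172], [], 71, 0⟩
noncomputable def Q_vs5 : List Lev :=
  []
noncomputable def Q_vs4 : List Lev :=
  Q_v4 :: Q_vs5
noncomputable def Q_vs3 : List Lev :=
  Q_v3 :: Q_vs4
noncomputable def Q_vs2 : List Lev :=
  Q_v2 :: Q_vs3
noncomputable def Q_vs1 : List Lev :=
  Q_v1 :: Q_vs2
noncomputable def Q_vs : List Lev :=
  Q_v0 :: Q_vs1
noncomputable def S_ps : List PcG :=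
  [⟨[236], 2, [], [[24], [22], [238], [240], [242], [244], [0], [2], [248], [250], [246], [226]]⟩,
  ⟨[24], 2, [], [[238], [22], [242], [240], [250], [248], [246], [0], [244], [2], [226]]⟩,
  ⟨[238], 2, [], [[22], [0], [2], [248], [250], [244], [242], [246], [240], [226]]⟩,
  ⟨[22], 2, [], [[246], [248], [2], [240], [242], [244], [0], [250], [226]]⟩,
  ⟨[240], 2, [226], [[242], W (nat_lit 0x38cf5), [246], [248], [2], [250], [0], [226]]⟩,
  ⟨[242], 2, [226], [[244], [246], [248], [2], W (nat_lit 0x38cfb), [0], [226]]⟩,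
  ⟨[244], 2, [226], [[246], [248], [2], [250], [0], [226]]⟩,
  ⟨[246], 2, [226], [[248], W (nat_lit 0x38c03), [250], [0], [226]]⟩,
  ⟨[248], 2, [226], [[2], [250], W (nat_lit 0x38c01), [226]]⟩,
  ⟨[2], 2, [226], [[250], [0], [226]]⟩,
  ⟨[250], 2, [226], [[0], [226]]⟩,
  ⟨[0], 2, [226], [[226]]⟩,
  ⟨[226], 2, [], []⟩]
noncomputable def zE77 : List (ℕ × List ℕ) :=
  [(4, [250]),
  (6, [244]),
  (8, W (nat_lit 0x38cf9)),
  (10, W (nat_lit 0x38cf7)),
  (12, W (nat_lit 0x38cf3)),
  (14, W (nat_lit 0x38cf1)),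
  (26, W (nat_lit 0x173bc19)),
  (30, [236])]
noncomputable def S_v0 : Lev :=
  ⟨4, 8, sg (W (nat_lit 0x1700c01)), [[186], [188], [190], [192], [194]], 77, 5⟩
noncomputable def S_v1 : Lev :=
  ⟨14, 2, sg [188], [[196], [198], [200], [202], [204], [206]], 82, 6⟩
noncomputable def S_v2 : Lev :=
  ⟨48, 4, sg (W (nat_lit 0x31cc5)), [[208], [210], [212], [214], [216], [218], [220]], 88, 7⟩
noncomputable def S_v3 : Lev :=
  ⟨0, 8, sg (W (nat_lit 0xd934cd1)), [[222], [224], [226], [228]], 95, 4⟩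
noncomputable def S_v4 : Lev :=
  ⟨6, 4, sg (W (nat_lit 0x38cdf)), [[230], [232]], 99, 2⟩
noncomputable def S_v5 : Lev :=
  ⟨56, 2, sg [230], [[234]], 101, 1⟩
noncomputable def S_v6 : Lev :=
  ⟨8, 2, sg [234], [], 102, 0⟩
noncomputable def S_vs7 : List Lev :=
  []
noncomputable def S_vs6 : List Lev :=
  S_v6 :: S_vs7
noncomputable def S_vs5 : List Lev :=
  S_v5 :: S_vs6
noncomputable def S_vs4 : List Lev :=
  S_v4 :: S_vs5
noncomputable def S_vs3 : List Lev :=
  S_v3 :: S_vs4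
noncomputable def S_vs2 : List Lev :=
  S_v2 :: S_vs3
noncomputable def S_vs1 : List Lev :=
  S_v1 :: S_vs2
noncomputable def S_vs : List Lev :=
  S_v0 :: S_vs1
noncomputable def Cw_ps : List PcG :=
  [⟨[288], 2, [], [[290], [22], [292], W (nat_lit 0x1104413), [282], W (nat_lit 0x4411), [294], [296], [298], [0], W (nat_lit 0x4cc09), [304], W (nat_lit 0x4cd2f), [300], [306]]⟩,
  ⟨[290], 2, [], [[292], [22], W (nat_lit 0x451b04c13), [282], [16], W (nat_lit 0x4cd2b), [304], W (nat_lit 0x4cd27), W (nat_lit 0x4cc09), [0], [296], W (nat_lit 0x4cd2d), [302], [306]]⟩,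
  ⟨[292], 2, [], [[22], W (nat_lit 0x110451b46c13), W (nat_lit 0x4411), W (nat_lit 0x46d1b), [0], W (nat_lit 0x4cc09), W (nat_lit 0x4cd2f), [304], W (nat_lit 0x4cd2b), [300], W (nat_lit 0x4cd29), [294], [306]]⟩,
  ⟨[22], 2, [], [[18], [16], [282], [300], [302], [8], [294], [296], [0], [298], [304], [306]]⟩,
  ⟨[18], 3, [], [[282], [16], [294], [296], [304], [300], [302], W (nat_lit 0x1334c52b), [0], W (nat_lit 0x13300409), [306]]⟩,
  ⟨[282], 3, [], [[16], W (nat_lit 0x4cd29), W (nat_lit 0x4a527), [304], [300], [302], W (nat_lit 0x1334c52b), [8], [0], [306]]⟩,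
  ⟨[16], 3, [], [[294], [296], [298], W (nat_lit 0x4cd2f), W (nat_lit 0x4bd2d), [304], [0], W (nat_lit 0x13300409), [306]]⟩,
  ⟨[294], 2, [306], [W (nat_lit 0x4cd29), [298], [300], [302], [304], [8], [0], [306]]⟩,
  ⟨[296], 2, [306], [[298], [300], [302], [304], [8], [0], [306]]⟩,
  ⟨[298], 2, [306], [[300], [302], W (nat_lit 0x4cd31), [8], [0], [306]]⟩,
  ⟨[300], 2, [306], [W (nat_lit 0x4cd2f), [304], [8], [0], [306]]⟩,
  ⟨[302], 2, [306], [[304], [8], [0], [306]]⟩,
  ⟨[304], 2, [306], [[8], [0], [306]]⟩,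
  ⟨[8], 2, [306], [W (nat_lit 0x4cc01), [306]]⟩,
  ⟨[0], 2, [306], [[306]]⟩,
  ⟨[306], 2, [], []⟩]
noncomputable def zE82 : List (ℕ × List ℕ) :=
  [(2, [302]),
  (4, [304]),
  (6, [296]),
  (10, W (nat_lit 0x4cd2d)),
  (12, [298]),
  (14, W (nat_lit 0x4cd27)),
  (20, [282]),
  (24, [290]),
  (26, W (nat_lit 0x1749523)),
  (30, [288])]
noncomputable def Cw_v0 : Lev :=
  ⟨0, 24, sg (W (nat_lit 0x1305c1102401)), [[252], [254], [256]], 110, 3⟩
noncomputable def Cw_v1 : Lev :=
  ⟨1, 3, sg (W (nat_lit 0x3f4fd)), [[258], [260], [262], [264]], 113, 4⟩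
noncomputable def Cw_v2 : Lev :=
  ⟨26, 2, sg [258], [[266], [268], [270], [272]], 117, 4⟩
noncomputable def Cw_v3 : Lev :=
  ⟨2, 8, sg (W (nat_lit 0x10f4350b)), [[274], [276]], 121, 2⟩
noncomputable def Cw_v4 : Lev :=
  ⟨6, 8, sg (W (nat_lit 0x11344d1544d13)), [[278], [280]], 123, 2⟩
noncomputable def Cw_v5 : Lev :=
  ⟨56, 4, sg (W (nat_lit 0x11945d17)), [[282], [284]], 125, 2⟩
noncomputable def Cw_v6 : Lev :=
  ⟨8, 3, sg (W (nat_lit 0x46d1b)), [[286]], 127, 1⟩
noncomputable def Cw_v7 : Lev :=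
  ⟨10, 2, sg [286], [], 128, 0⟩
noncomputable def Cw_vs8 : List Lev :=
  []
noncomputable def Cw_vs7 : List Lev :=
  Cw_v7 :: Cw_vs8
noncomputable def Cw_vs6 : List Lev :=
  Cw_v6 :: Cw_vs7
noncomputable def Cw_vs5 : List Lev :=
  Cw_v5 :: Cw_vs6
noncomputable def Cw_vs4 : List Lev :=
  Cw_v4 :: Cw_vs5
noncomputable def Cw_vs3 : List Lev :=
  Cw_v3 :: Cw_vs4
noncomputable def Cw_vs2 : List Lev :=
  Cw_v2 :: Cw_vs3
noncomputable def Cw_vs1 : List Lev :=
  Cw_v1 :: Cw_vs2
noncomputable def Cw_vs : List Lev :=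
  Cw_v0 :: Cw_vs1
noncomputable def core_P_ps : List PcG :=
  [⟨[312], 2, W (nat_lit 0x5bd6d), [[366], W (nat_lit 0x604015ed755cd6d), W (nat_lit 0x604015f57b5e5775cd71), [378], [374], [380], W (nat_lit 0x60573), [382], [0], W (nat_lit 0x60579), W (nat_lit 0x60575), [384]]⟩,
  ⟨[364], 2, W (nat_lit 0x5e575), [W (nat_lit 0x604015ed755cd6f), W (nat_lit 0x15f57b5cd71), W (nat_lit 0x60401), [376], W (nat_lit 0x6057f), W (nat_lit 0x60575), W (nat_lit 0x6057d), W (nat_lit 0x6057b), W (nat_lit 0x60577), W (nat_lit 0x60573), [384]]⟩,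
  ⟨[366], 2, W (nat_lit 0x5dd73), [W (nat_lit 0x60571), [374], [378], W (nat_lit 0x60573), [380], [372], [376], W (nat_lit 0x60401), W (nat_lit 0x6057f), [384]]⟩,
  ⟨[368], 2, W (nat_lit 0x1815f57b5e5775d573), [W (nat_lit 0x60577), [376], [370], W (nat_lit 0x60575), [380], W (nat_lit 0x6057b), [0], [382], [384]]⟩,
  ⟨[370], 2, [384], [[372], W (nat_lit 0x60577), [376], [378], [380], [382], [0], [384]]⟩,
  ⟨[372], 2, [384], [[374], W (nat_lit 0x60579), [378], [380], [382], [0], [384]]⟩,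
  ⟨[374], 2, [384], [[376], [378], [380], [382], [0], [384]]⟩,
  ⟨[376], 2, [384], [[378], [380], [382], [0], [384]]⟩,
  ⟨[378], 2, [384], [W (nat_lit 0x6057d), [382], [0], [384]]⟩,
  ⟨[380], 2, [384], [[382], [0], [384]]⟩,
  ⟨[382], 2, [384], [W (nat_lit 0x60401), [384]]⟩,
  ⟨[0], 2, [384], [[384]]⟩,
  ⟨[384], 2, [], []⟩]
noncomputable def zE87 : List (ℕ × List ℕ) :=
  [(2, W (nat_lit 0x60573)),
  (4, [378]),
  (6, [372]),
  (8, W (nat_lit 0x1810057f)),
  (10, W (nat_lit 0x5dd73)),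
  (12, W (nat_lit 0x6057d)),
  (14, W (nat_lit 0x60579)),
  (308, [368]),
  (310, [366])]
noncomputable def core_P_v0 : Lev :=
  ⟨2, 8, sg (W (nat_lit 0x13900c01)), [[314], [316], [318], [320], [322]], 141, 5⟩
noncomputable def core_P_v1 : Lev :=
  ⟨16, 2, sg [314], [[324], [326], [328], [330], [332], [334]], 146, 6⟩
noncomputable def core_P_v2 : Lev :=
  ⟨48, 4, sg (W (nat_lit 0x51d45)), [[336], [338], [340], [342], [344], [346], [348]], 152, 7⟩
noncomputable def core_P_v3 : Lev :=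
  ⟨0, 8, sg (W (nat_lit 0x15754d51)), [[350], [352], [354], [356]], 159, 4⟩
noncomputable def core_P_v4 : Lev :=
  ⟨6, 4, sg (W (nat_lit 0x5855f)), [[358], [360]], 163, 2⟩
noncomputable def core_P_v5 : Lev :=
  ⟨56, 2, sg [358], [[362]], 165, 1⟩
noncomputable def core_P_v6 : Lev :=
  ⟨8, 2, sg [362], [], 166, 0⟩
noncomputable def core_P_vs7 : List Lev :=
  []
noncomputable def core_P_vs6 : List Lev :=
  core_P_v6 :: core_P_vs7
noncomputable def core_P_vs5 : List Lev :=
  core_P_v5 :: core_P_vs6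
noncomputable def core_P_vs4 : List Lev :=
  core_P_v4 :: core_P_vs5
noncomputable def core_P_vs3 : List Lev :=
  core_P_v3 :: core_P_vs4
noncomputable def core_P_vs2 : List Lev :=
  core_P_v2 :: core_P_vs3
noncomputable def core_P_vs1 : List Lev :=
  core_P_v1 :: core_P_vs2
noncomputable def core_P_vs : List Lev :=
  core_P_v0 :: core_P_vs1
noncomputable def core_s_ms : List ℕ :=
  [(nat_lit 0x30c0000000c030),
  (nat_lit 0xf00000c000003),
  (nat_lit 0xffff00ff0000ff00000000000000)]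
noncomputable def core_sG_v0 : Lev :=
  ⟨56, 64, sg (W (nat_lit 0x10053501c0500c01)), [[386], [388], [390]], 177, 3⟩
noncomputable def core_sG_v1 : Lev :=
  ⟨6, 16, sg (W (nat_lit 0x615836158361583)), [[392], [394]], 180, 2⟩
noncomputable def core_sG_v2 : Lev :=
  ⟨0, 4, sg (W (nat_lit 0x62d89)), [[396]], 182, 1⟩
noncomputable def core_sG_v3 : Lev :=
  ⟨44, 2, sg [396], [], 183, 0⟩
noncomputable def core_sG_vs4 : List Lev :=
  []
noncomputable def core_sG_vs3 : List Lev :=
  core_sG_v3 :: core_sG_vs4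
noncomputable def core_sG_vs2 : List Lev :=
  core_sG_v2 :: core_sG_vs3
noncomputable def core_sG_vs1 : List Lev :=
  core_sG_v1 :: core_sG_vs2
noncomputable def core_sG_vs : List Lev :=
  core_sG_v0 :: core_sG_vs1
noncomputable def core_s_x : List (ℕ × List ℕ) :=
  [((nat_lit 0), []),
  ((nat_lit 0), [(nat_lit 0x55551541540)]),
  ((nat_lit 0), [(nat_lit 0x500000000011)]),
  ((nat_lit 0), [(nat_lit 0x500000000000)])]
noncomputable def core_s_G : Gl :=
  ⟨P, ns, (app D []), [], [], [], memM (app D []) [[0], [2], [4], [6], [8], [10], [12], [14]], true⟩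
noncomputable def core_s_s : St :=
  ⟨(mkS P.n core_sG_vs core_s_x), [[0], [2], [4], [6], [8], [10], [12], [14], [308], [310], [312]], [], diag core_s_ms, memM (app D []) [[0], [2], [4], [6], [8], [10], [12], [14]], []⟩
noncomputable def zt94 : ST :=
  (.br 2 [W (nat_lit 0xa525409), W (nat_lit 0x2b4a9), W (nat_lit 0x28401), W (nat_lit 0x2b4a72a493)] (W (nat_lit 0x40101c0500c01)) [(56, [])] (.cons (.orb 0 (.br 0 [W (nat_lit 0x29ca924c0b), W (nat_lit 0x2b4a524c95), W (nat_lit 0xa72a4a5), W (nat_lit 0x2b4a72540b)] (W (nat_lit 0x1c0500c01)) [(6, [])] (.cons (.orb 0 (.and 0 5 (.br 0 [] [] [(0, [])] (.cons (.orb 0 (.dif 0 7 (.br 0 [] [] [(44, [])] (.cons .fnd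
 .nil))))
 .nil))))
 .nil)))
 .nil))
noncomputable def zus97 : List (List ℕ × ℕ) :=
  [(W (nat_lit 0x1817), (nat_lit 0xf00000003000c)),
  (W (nat_lit 0x440300807), (nat_lit 0xf00000003000c)),
  (W (nat_lit 0xa054150801400805), (nat_lit 0xffff3fc3fc0))]
noncomputable def zts99 : List (List ℕ) :=
  [[0],
  W (nat_lit 0x47d1c461134550b43401),
  W (nat_lit 0x11f45d14),
  W (nat_lit 0x11f44d18),
  [8],
  [10],
  W (nat_lit 0x11f47116),
  W (nat_lit 0x47d1c46113),
  W (nat_lit 0x11b4510b40c12),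
  W (nat_lit 0x4711a44d1543d0300412),
  W (nat_lit 0x471134350f04417)]
noncomputable def zcj102 : List (List (List ℕ)) :=
  [[[0], W (nat_lit 0xa724c01), W (nat_lit 0xa72a49f), W (nat_lit 0x2b49f), W (nat_lit 0xa72a409), [10], W (nat_lit 0xad29ca1), W (nat_lit 0xad2a4a5)],
  [[0], W (nat_lit 0xa724c01), W (nat_lit 0xa72a49f), W (nat_lit 0x2b49f), [8], W (nat_lit 0xa72a40b), W (nat_lit 0xad29ca1), W (nat_lit 0xad2a4a5)],
  [[0], W (nat_lit 0xa724c01), W (nat_lit 0xa72a49f), W (nat_lit 0x2b49f), [8], [10], W (nat_lit 0xad2a4a1), W (nat_lit 0xad2a4a5)],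
  [[0], W (nat_lit 0xa724c01), W (nat_lit 0xa72a49f), W (nat_lit 0x2b49f), [8], [10], W (nat_lit 0xad29ca1), W (nat_lit 0xad29ca5)],
  [W (nat_lit 0xa72a401), W (nat_lit 0xa724c01), W (nat_lit 0xa72a49f), W (nat_lit 0x2b49f), [8], [10], W (nat_lit 0xad29ca1), W (nat_lit 0xad2a4a5)],
  [[0], W (nat_lit 0xa924c01), W (nat_lit 0xa72a49f), W (nat_lit 0x2b49f), [8], [10], W (nat_lit 0xad29ca1), W (nat_lit 0xad2a4a5)],
  [[0], W (nat_lit 0xa724c01), [158], W (nat_lit 0x2b49f), [8], [10], W (nat_lit 0xad29ca1), W (nat_lit 0xad2a4a5)],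
  [[0], W (nat_lit 0xa724c01), W (nat_lit 0xa72a49f), W (nat_lit 0x2b4a72a49f), [8], [10], W (nat_lit 0xad29ca1), W (nat_lit 0xad2a4a5)],
  [W (nat_lit 0xad29ca9294932540b), W (nat_lit 0xad2a4a525409), W (nat_lit 0xa72a49f), W (nat_lit 0x2b49f), [0], W (nat_lit 0xa724c01), W (nat_lit 0xad29ca1), W (nat_lit 0xad2a4a5)],
  [W (nat_lit 0xad29ca9294932540b), W (nat_lit 0xa724c01), W (nat_lit 0x2b4a72a4a5), W (nat_lit 0x2b49f), [0], [10], W (nat_lit 0xa72a49f), W (nat_lit 0xad2a4a5)],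
  [[0], W (nat_lit 0xa724c01), W (nat_lit 0x2b4a72a4a5), W (nat_lit 0xa72a4a1), [8], [10], W (nat_lit 0xa72a49f), W (nat_lit 0x2b49f)],
  [W (nat_lit 0xa72a49f), W (nat_lit 0x2b49f), [0], W (nat_lit 0xa724c01), W (nat_lit 0xad29ca1), W (nat_lit 0xad2a4a5), [8], [10]],
  [W (nat_lit 0xa724c01), [0], W (nat_lit 0x2b49f), W (nat_lit 0xa72a49f), [10], [8], W (nat_lit 0xad2a4a5), W (nat_lit 0xad29ca1)],
  [W (nat_lit 0xa72a409), W (nat_lit 0xa72a40b), W (nat_lit 0xad2a4a1), W (nat_lit 0xad29ca5), W (nat_lit 0xa72a401), W (nat_lit 0xa924c01), [158], W (nat_lit 0x2b4a72a49f)],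
  [W (nat_lit 0xa72a40b), W (nat_lit 0xa72a409), W (nat_lit 0xa72a49f), W (nat_lit 0x2b49f), W (nat_lit 0xa924c01), W (nat_lit 0xa72a401), W (nat_lit 0xad29ca1), W (nat_lit 0xad2a4a5)]]
noncomputable def zts105 : List (List ℕ) :=
  [[0],
  W (nat_lit 0x47d1c461134550b43401),
  W (nat_lit 0x11f45d14),
  W (nat_lit 0x11f44d18),
  [8],
  [10],
  W (nat_lit 0x11f47116),
  W (nat_lit 0x47d1c46113)]
noncomputable def R_ps : List PcG :=
  [⟨[438], 2, [], [[440], W (nat_lit 0x19705bb), W (nat_lit 0x19705bd), W (nat_lit 0x19705bf), [24], W (nat_lit 0x1970dc1), W (nat_lit 0x19715c1), [448], [454]]⟩,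
  ⟨[440], 2, W (nat_lit 0x65c570dbf), [[444], [442], [450], W (nat_lit 0x19715c1), [446], [24], [452], [454]]⟩,
  ⟨[442], 2, [], [W (nat_lit 0x19715c36fdbd), [24], W (nat_lit 0x19705bf), [450], [452], [446], [454]]⟩,
  ⟨[444], 2, [], [[446], [448], [452], [450], [24], [454]]⟩,
  ⟨[446], 2, [], [[448], [450], [452], [24], [454]]⟩,
  ⟨[448], 2, [], [[450], [452], [24], [454]]⟩,
  ⟨[450], 2, [], [[452], [24], [454]]⟩,
  ⟨[452], 2, [], [[24], [454]]⟩,
  ⟨[24], 2, [], [[454]]⟩,
  ⟨[454], 2, [], []⟩]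
noncomputable def zE108 : List (ℕ × List ℕ) :=
  [(30, [454]),
  (26, [444]),
  (4, [440]),
  (12, W (nat_lit 0x19715c36fdbd6edb9)),
  (6, W (nat_lit 0x19715b9)),
  (14, W (nat_lit 0x1c56fdbd6edb9)),
  (34, [438]),
  (36, W (nat_lit 0x19705b7)),
  (32, W (nat_lit 0x65c570dbf))]
noncomputable def R_v0 : Lev :=
  ⟨4, 2, sg [24], [[398], [400], [402], [404], [406], [408]], 183, 6⟩
noncomputable def R_v1 : Lev :=
  ⟨48, 4, sg (W (nat_lit 0x64d8f)), [[410], [412], [414], [416], [418], [420], [422]], 189, 7⟩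
noncomputable def R_v2 : Lev :=
  ⟨0, 8, sg (W (nat_lit 0x1a16759b)), [[424], [426], [428], [430]], 196, 4⟩
noncomputable def R_v3 : Lev :=
  ⟨6, 4, sg (W (nat_lit 0x6b5ab)), [[432], [434]], 200, 2⟩
noncomputable def R_v4 : Lev :=
  ⟨56, 2, sg [432], [[436]], 202, 1⟩
noncomputable def R_v5 : Lev :=
  ⟨8, 2, sg [436], [], 203, 0⟩
noncomputable def R_vs6 : List Lev :=
  []
noncomputable def R_vs5 : List Lev :=
  R_v5 :: R_vs6
noncomputable def R_vs4 : List Lev :=
  R_v4 :: R_vs5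
noncomputable def R_vs3 : List Lev :=
  R_v3 :: R_vs4
noncomputable def R_vs2 : List Lev :=
  R_v2 :: R_vs3
noncomputable def R_vs1 : List Lev :=
  R_v1 :: R_vs2
noncomputable def R_vs : List Lev :=
  R_v0 :: R_vs1
noncomputable def R2_ps : List PcG :=
  [⟨[462], 2, [], [W (nat_lit 0x1c9775d9), [474], [456], [476]]⟩,
  ⟨[472], 2, [], [W (nat_lit 0x1c9775db), [476], [456]]⟩,
  ⟨[474], 2, [], [[456], [476]]⟩,
  ⟨[476], 2, [], [[456]]⟩,
  ⟨[456], 2, [], []⟩]
noncomputable def zE114 : List (ℕ × List ℕ) :=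
  [(458, [474]),
  (460, [472])]
noncomputable def R2_v0 : Lev :=
  ⟨0, 2, sg [462], [[456], [458], [460]], 216, 0⟩
noncomputable def R2_v1 : Lev :=
  ⟨48, 2, sg [456], [[464], [466], [468]], 216, 3⟩
noncomputable def R2_v2 : Lev :=
  ⟨6, 4, sg (W (nat_lit 0x74dd1)), [[470]], 219, 1⟩
noncomputable def R2_v3 : Lev :=
  ⟨8, 2, sg [470], [], 220, 0⟩
noncomputable def R2_vs4 : List Lev :=
  []
noncomputable def R2_vs3 : List Lev :=
  R2_v3 :: R2_vs4
noncomputable def R2_vs2 : List Lev :=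
  R2_v2 :: R2_vs3
noncomputable def R2_vs1 : List Lev :=
  R2_v1 :: R2_vs2
noncomputable def R2_vs : List Lev :=
  R2_v0 :: R2_vs1
noncomputable def zps119 : List (List ℕ × List ℕ) :=
  [(W (nat_lit 0x7022), [37]), (W (nat_lit 0x941b), W (nat_lit 0x880e)), ([26], W (nat_lit 0x9810)), (W (nat_lit 0x8c1a), [15])]
noncomputable def zts122 : List (List ℕ) :=
  [W (nat_lit 0x7c5ec7b5e7),
  [491],
  W (nat_lit 0x7c5e7),
  W (nat_lit 0x7b1df)]
noncomputable def zts125 : List (List ℕ) :=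
  [[],
  [],
  [],
  [],
  [],
  [],
  [],
  [],
  [],
  [],
  [],
  [],
  [],
  W (nat_lit 0x75dc9),
  [456],
  W (nat_lit 0x75dc9),
  [456],
  W (nat_lit 0x1d174dcf),
  W (nat_lit 0x1d174dcf),
  [],
  [],
  [],
  [],
  W (nat_lit 0x1d174dc9),
  W (nat_lit 0x1d774dc9),
  W (nat_lit 0x74dc9),
  W (nat_lit 0x75dd174dc9),
  W (nat_lit 0x1d174dcf),
  W (nat_lit 0x1d174dcf),
  [],
  [],
  W (nat_lit 0x75dc9),
  W (nat_lit 0x1d774dc9),
  [],
  W (nat_lit 0x75dd1),
  [],
  [],
  [],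
  [],
  [],
  [],
  [456],
  W (nat_lit 0x1d174dc9),
  W (nat_lit 0x75dd1),
  [],
  [],
  [],
  [],
  [],
  [],
  [],
  W (nat_lit 0x75dc9),
  W (nat_lit 0x75dd174dc9),
  [],
  [],
  [],
  W (nat_lit 0x75dd1),
  [],
  [],
  [],
  [],
  [456],
  W (nat_lit 0x74dc9),
  [],
  [],
  W (nat_lit 0x75dd1),
  [],
  [],
  [],
  [],
  [],
  W (nat_lit 0x1d174dcf),
  W (nat_lit 0x1d174dcf),
  [],
  [],
  [],
  [],
  [],
  [],
  [],
  [],
  W (nat_lit 0x1d174dcf),
  W (nat_lit 0x1d174dcf),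
  [],
  [],
  [],
  [],
  [],
  [],
  [],
  [],
  [],
  [],
  [],
  [],
  [],
  [],
  [],
  [],
  []]
noncomputable def zcj128 : List (List (List ℕ)) :=
  [[[456], W (nat_lit 0x745d3), W (nat_lit 0x745c9), [462]],
  [[456], [466], W (nat_lit 0x745c9), W (nat_lit 0x745cf)],
  [W (nat_lit 0x75dc9), [466], W (nat_lit 0x1d7745c9), W (nat_lit 0x745cf)],
  [W (nat_lit 0x1d7745c9), W (nat_lit 0x745d3), W (nat_lit 0x745c9), [462]],
  [[456], W (nat_lit 0x75dd3), W (nat_lit 0x75dc9), W (nat_lit 0x1d7745cf)],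
  [W (nat_lit 0x1d7745c9), W (nat_lit 0x75dd3), W (nat_lit 0x745c9), W (nat_lit 0x1d7745cf)],
  [[456], W (nat_lit 0x745d3), W (nat_lit 0x75dc9), [462]],
  [[456], W (nat_lit 0x745d3), W (nat_lit 0x745c9), [462]],
  [[456], W (nat_lit 0x745d3), W (nat_lit 0x745c9), [462]],
  [[456], W (nat_lit 0x745d3), W (nat_lit 0x745c9), [462]]]
noncomputable def zcj131 : List (List (List ℕ)) :=
  [[[456], W (nat_lit 0x745d3), W (nat_lit 0x745c9), [462]],
  [[456], [466], W (nat_lit 0x745c9), W (nat_lit 0x745cf)],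
  [W (nat_lit 0x75dc9), [466], W (nat_lit 0x1d7745c9), W (nat_lit 0x745cf)],
  [W (nat_lit 0x1d7745c9), W (nat_lit 0x745d3), W (nat_lit 0x745c9), [462]],
  [[456], W (nat_lit 0x75dd3), W (nat_lit 0x75dc9), W (nat_lit 0x1d7745cf)],
  [W (nat_lit 0x1d7745c9), W (nat_lit 0x75dd3), W (nat_lit 0x745c9), W (nat_lit 0x1d7745cf)],
  [[456], W (nat_lit 0x745d3), W (nat_lit 0x75dc9), [462]],
  [[456], W (nat_lit 0x745d3), W (nat_lit 0x745c9), [462]],
  [[456], W (nat_lit 0x745d3), W (nat_lit 0x745c9), [462]],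
  [[456], W (nat_lit 0x745d3), W (nat_lit 0x745c9), [462]]]
noncomputable def R3_ps : List PcG :=
  [⟨[498], 2, [], [[432]]⟩,
  ⟨[432], 2, [], []⟩]
noncomputable def R3_v0 : Lev :=
  ⟨6, 2, sg [498], [[432]], 234, 0⟩
noncomputable def R3_v1 : Lev :=
  ⟨8, 2, sg [432], [], 234, 0⟩
noncomputable def R3_vs2 : List Lev :=
  []
noncomputable def R3_vs1 : List Lev :=
  R3_v1 :: R3_vs2
noncomputable def R3_vs : List Lev :=
  R3_v0 :: R3_vs1
noncomputable def zps137 : List (List ℕ × List ℕ) :=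
  [(W (nat_lit 0x739ca), [12]), ([458], [27])]
noncomputable def zts140 : List (List ℕ) :=
  [[504],
  W (nat_lit 0x7e5f5)]
noncomputable def zts143 : List (List ℕ) :=
  [[],
  [],
  [432],
  W (nat_lit 0x6c5f3),
  [],
  W (nat_lit 0x6c5f3),
  [],
  [],
  [],
  [],
  [],
  [498],
  [498],
  [],
  W (nat_lit 0x6c5f3),
  W (nat_lit 0x6c5f3),
  [],
  [],
  [],
  [],
  [],
  [],
  [432],
  [],
  W (nat_lit 0x6c5f3),
  [],
  W (nat_lit 0x6c5f3),
  [],
  [],
  [],
  [],
  [498],
  [498],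
  [],
  W (nat_lit 0x6c5f3),
  W (nat_lit 0x6c5f3),
  [],
  [],
  [],
  []]
noncomputable def zcj146 : List (List (List ℕ)) :=
  [[[432], [498]],
  [[432], [498]],
  [[432], [498]],
  [[498], [432]],
  [[498], [432]],
  [[498], [432]],
  [[498], [432]],
  [[432], [498]],
  [[432], [498]],
  [[432], [498]]]
noncomputable def zcj149 : List (List (List ℕ)) :=
  [[[432], [498]],
  [[432], [498]],
  [[432], [498]],
  [[432], [498]]]
noncomputable def R4_ps : List PcG :=
  [⟨[32], 2, [], []⟩]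
noncomputable def R4_v0 : Lev :=
  ⟨6, 2, sg [32], [], 237, 0⟩
noncomputable def R4_vs1 : List Lev :=
  []
noncomputable def R4_vs : List Lev :=
  R4_v0 :: R4_vs1
noncomputable def zps155 : List (List ℕ × List ℕ) :=
  [([432], [14])]
noncomputable def zts158 : List (List ℕ) :=
  [[506]]
noncomputable def zts161 : List (List ℕ) :=
  [[],
  [],
  [],
  [32],
  [32],
  [32],
  [32],
  [],
  [],
  [],
  [],
  [],
  [],
  [32],
  [32],
  [32],
  [32],
  [],
  [],
  []]
noncomputable def zcj164 : List (List (List ℕ)) :=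
  [[[32]],
  [[32]],
  [[32]],
  [[32]],
  [[32]],
  [[32]],
  [[32]],
  [[32]],
  [[32]],
  [[32]]]
noncomputable def zcj167 : List (List (List ℕ)) :=
  [[[32]],
  [[32]]]

theorem zb2 : bnd (pcB D [] 2 zt0 zcj1) (leB (app D []) [[64]] ([64] :: [])) = true := by decide +kernel
theorem zr3 : chk (pcR [] [64] 2 zt0 zcj1) = true := by decide +kernel
theorem zb6 : schB D [[60], [62]] [[64]] zus4 zF5 3 = true := by decide +kernel
theorem zr7 : chk (schR [[60], [62]] zus4 zF5) = true := by decide +kernel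
theorem zb10 : schB D [[56], [58]] [[60], [62]] zus8 zF9 4 = true := by decide +kernel
theorem zr11 : chk (schR [[56], [58]] zus8 zF9) = true := by decide +kernel
theorem zb14 : schB D [[50], [52], [54]] [[56], [58]] zus12 zF13 8 = true := by decide +kernel
theorem zr15 : chk (schR [[50], [52], [54]] zus12 zF13) = true := by decide +kernel
theorem zb18 : schB D [[46], [48]] [[50], [52], [54]] zus16 zF17 10 = true := by decide +kernel
theorem zr19 : chk (schR [[46], [48]] zus16 zF17) = true := by decide +kernel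
theorem zb22 : schB D [[42], [44]] [[46], [48]] zus20 zF21 27 = true := by decide +kernel
theorem zr23 : chk (schR [[42], [44]] zus20 zF21) = true := by decide +kernel
theorem zc25 : P.chainB ns D W_w1_1_vs [[42], [44]] = true := by decide +kernel
theorem zb27 : wdB D [[42], [44]] W_w1_1_v0.nx zcj26 = true := by decide +kernel
theorem zr28 : chk (wdR W_w1_1_v0.nx [38] zcj26) = true := by decide +kernel
theorem zc29 : P.chainB ns D W_w1_2_vs [[42], [44]] = true := by decide +kernel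
theorem zb31 : wdB D [[42], [44]] W_w1_2_v0.nx zcj30 = true := by decide +kernel
theorem zr32 : chk (wdR W_w1_2_v0.nx (W (nat_lit 0x280b028)) zcj30) = true := by decide +kernel
theorem zc33 : P.chainB ns D W_w1_3_vs [[42], [44]] = true := by decide +kernel
theorem zb35 : wdB D [[42], [44]] W_w1_3_v0.nx zcj34 = true := by decide +kernel
theorem zr36 : chk (wdR W_w1_3_v0.nx (W (nat_lit 0xa0330a028)) zcj34) = true := by decide +kernel
theorem zb39 : bB P.n P.N ns (app D zE38) [[38], [40]] [[42], [44]] 2 zrs24 zB37 = true := by decide +kernel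
theorem zc40 : P.chainB ns D W_vs [[0], [2], [4], [6], [8], [10], [12], [14], [16], [18], [20], [22], [24], [26], [28], [30]] = true := by decide +kernel
theorem zb41 : P.invSz ns [[38], [40]] 2 (orbM P.N ns W_v1) 56 = true := by decide +kernel
theorem zr42 : chk (bR 2 zrs24 zB37) = true := by decide +kernel
theorem zr43 : chk (defRels zE38) = true := by decide +kernel
theorem zc45 : P.chainB ns D W_w0_1_vs [[38], [40]] = true := by decide +kernel
theorem zb47 : wdB D [[38], [40]] W_w0_1_v0.nx zcj46 = true := by decide +kernel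
theorem zr48 : chk (wdR W_w0_1_v0.nx (W (nat_lit 0x48290a411)) zcj46) = true := by decide +kernel
theorem zb50 : wdB D [[38], [40]] W_v1.nx zcj49 = true := by decide +kernel
theorem zr51 : chk (wdR W_v1.nx [16] zcj49) = true := by decide +kernel
theorem zb54 : bB P.n P.N ns (app D zE53) [[0], [2], [4], [6], [8], [10], [12], [14], [16], [18], [20], [22], [24], [26], [28], [30]] [[38], [40]] 0 zrs44 zB52 = true := by decide +kernel
theorem zb55 : P.invSz ns [[0], [2], [4], [6], [8], [10], [12], [14], [16], [18], [20], [22], [24], [26], [28], [30]] 0 (orbM P.N ns W_v0) 120 = true := by decide +kernel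
theorem zr56 : chk (bR 0 zrs44 zB52) = true := by decide +kernel
theorem zr57 : chk (defRels zE53) = true := by decide +kernel
theorem zf65 : P.fixXB ns (diag [[0], [2], [4], [6], [8], [10], [12], [14], [16], [18], [20], [22], [24], [26], [28]]) cent_F = true := by decide +kernel
theorem zc66 : P.chainB ns D centG_vs [[0], [2], [4], [6], [8], [10], [12], [14], [16], [18], [20], [22], [24], [26], [28], [30]] = true := by decide +kernel
theorem zs67 : ssB P.N ns D (mkS P.n centG_vs cent_x) [[0], [2], [4], [6], [8], [10], [12], [14], [16], [18], [20], [22], [24], [26], [28], [30]] = true := by decide +kernel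
theorem zs69 : cent_G.chk zt68 cent_s none = true := by decide +kernel
theorem zr70 : chk (comR [] (mapL Prod.snd (diag [[0], [2], [4], [6], [8], [10], [12], [14], [16], [18], [20], [22], [24], [26], [28]]))) = true := by decide +kernel
theorem zm71 : leB D [] [[0], [2], [4], [6], [8], [10], [12], [14], [16], [18], [20], [22], [24], [26], [28], [30]] = true := by decide +kernel
theorem zr73 : chk (pcsR Q_ps []) = true := by decide +kernel
theorem zr74 : chk (defRels zE72) = true := by decide +kernel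
theorem zb75 : bnd (pcsB D Q_ps []) (leB (app D zE72) [[0], [2], [4], [6], [8], [10], [12], [14]] (pcGens Q_ps [])) = true := by decide +kernel
theorem zc76 : P.chainB ns D Q_vs [[0], [2], [4], [6], [8], [10], [12], [14]] = true := by decide +kernel
theorem zr78 : chk (pcsR S_ps []) = true := by decide +kernel
theorem zr79 : chk (defRels zE77) = true := by decide +kernel
theorem zb80 : bnd (pcsB D S_ps []) (leB (app D zE77) [[0], [2], [4], [6], [8], [10], [12], [14], [22], [24], [26], [30]] (pcGens S_ps [])) = true := by decide +kernel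
theorem zc81 : P.chainB ns D S_vs [[0], [2], [4], [6], [8], [10], [12], [14], [22], [24], [26], [30]] = true := by decide +kernel
theorem zr83 : chk (pcsR Cw_ps []) = true := by decide +kernel
theorem zr84 : chk (defRels zE82) = true := by decide +kernel
theorem zb85 : bnd (pcsB D Cw_ps []) (leB (app D zE82) [[0], [2], [4], [6], [8], [10], [12], [14], [16], [18], [20], [22], [24], [26], [30]] (pcGens Cw_ps [])) = true := by decide +kernel
theorem zc86 : P.chainB ns D Cw_vs [[0], [2], [4], [6], [8], [10], [12], [14], [16], [18], [20], [22], [24], [26], [30]] = true := by decide +kernel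
theorem zr88 : chk (pcsR core_P_ps []) = true := by decide +kernel
theorem zr89 : chk (defRels zE87) = true := by decide +kernel
theorem zb90 : bnd (pcsB D core_P_ps []) (leB (app D zE87) [[0], [2], [4], [6], [8], [10], [12], [14], [308], [310], [312]] (pcGens core_P_ps [])) = true := by decide +kernel
theorem zc91 : P.chainB ns D core_P_vs [[0], [2], [4], [6], [8], [10], [12], [14], [308], [310], [312]] = true := by decide +kernel
theorem zc92 : P.chainB ns D core_sG_vs [[0], [2], [4], [6], [8], [10], [12], [14], [308], [310], [312]] = true := by decide +kernel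
theorem zs93 : ssB P.N ns D (mkS P.n core_sG_vs core_s_x) [[0], [2], [4], [6], [8], [10], [12], [14], [308], [310], [312]] = true := by decide +kernel
theorem zs95 : core_s_G.chk zt94 core_s_s none = true := by decide +kernel
theorem zm96 : bnd (allL (invB P.N ns [[0], [2], [4], [6], [8], [10], [12], [14]]) core_s_ms) (leB D [[0], [2], [4], [6], [8], [10], [12], [14]] [[0], [2], [4], [6], [8], [10], [12], [14], [308], [310], [312]]) = true := by decide +kernel
theorem zm98 : P.coreB ns D [[0], [2], [4], [6], [8], [10], [12], [14], [16], [18], [20], [22], [24], [26], [30]] [[0], [2], [4], [6], [8], [10], [12], [14], [308], [310], [312]] zus97 core_s_ms = true := by decide +kernel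
theorem zm100 : leB D zts99 [[0], [2], [4], [6], [8], [10], [12], [14], [16], [18], [20], [22], [24], [26], [30]] = true := by decide +kernel
theorem zr101 : chk (zp [] [[0], [2], [4], [6], [8], [10], [12], [14], [308], [310], [312]] zts99) = true := by decide +kernel
theorem zm103 : nrmB D [[0], [2], [4], [6], [8], [10], [12], [14], [16], [18], [20], [22], [24], [26], [30]] [[0], [2], [4], [6], [8], [10], [12], [14]] zcj102 = true := by decide +kernel
theorem zr104 : chk (nrmR [[0], [2], [4], [6], [8], [10], [12], [14], [16], [18], [20], [22], [24], [26], [30]] [[0], [2], [4], [6], [8], [10], [12], [14]] zcj102) = true := by decide +kernel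
theorem zm106 : leB D zts105 [[0], [2], [4], [6], [8], [10], [12], [14], [16], [18], [20], [22], [24], [26], [30]] = true := by decide +kernel
theorem zr107 : chk (zp [] [[0], [2], [4], [6], [8], [10], [12], [14]] zts105) = true := by decide +kernel
theorem zr109 : chk (pcsR R_ps []) = true := by decide +kernel
theorem zr110 : chk (defRels zE108) = true := by decide +kernel
theorem zb111 : bnd (pcsB D R_ps []) (leB (app D zE108) [[30], [24], [26], [4], [12], [6], [14], [34], [36], [32]] (pcGens R_ps [])) = true := by decide +kernel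
theorem zc112 : P.chainB ns D R_vs [[30], [24], [26], [4], [12], [6], [14], [34], [36], [32]] = true := by decide +kernel
theorem zr113 : chk (comR [[30], [24], [26], [4], [12], [6], [14], [34], [36], [32]] [[30]]) = true := by decide +kernel
theorem zr115 : chk (pcsR R2_ps []) = true := by decide +kernel
theorem zr116 : chk (defRels zE114) = true := by decide +kernel
theorem zb117 : bnd (pcsB D R2_ps []) (leB (app D zE114) [[456], [458], [460], [462]] (pcGens R2_ps [])) = true := by decide +kernel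
theorem zc118 : P.chainB ns D R2_vs [[456], [458], [460], [462]] = true := by decide +kernel
theorem zm120 : bnd (leB D (mapL Prod.fst zps119) [[30], [24], [26], [4], [12], [6], [14], [34], [36], [32]]) (leB D (mapL Prod.snd zps119) [[30], [24], [26], [4], [12], [6], [14], [34], [36], [32]]) = true := by decide +kernel
theorem zr121 : chk (zp [] [[478], [480], [482], [484]] (mapL comW zps119)) = true := by decide +kernel
theorem zm123 : leB D zts122 [[478], [480], [482], [484]] = true := by decide +kernel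
theorem zr124 : chk (zp [] [[456], [458], [460], [462]] zts122) = true := by decide +kernel
theorem zm126 : leB D zts125 [[456], [458], [460], [462]] = true := by decide +kernel
theorem zr127 : chk (zp [] (comWs [[30], [24], [26], [4], [12], [6], [14], [34], [36], [32]] [[30], [24], [26], [4], [12], [6], [14], [34], [36], [32]]) zts125) = true := by decide +kernel
theorem zm129 : nrmB D [[30], [24], [26], [4], [12], [6], [14], [34], [36], [32]] [[456], [458], [460], [462]] zcj128 = true := by decide +kernel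
theorem zr130 : chk (nrmR [[30], [24], [26], [4], [12], [6], [14], [34], [36], [32]] [[456], [458], [460], [462]] zcj128) = true := by decide +kernel
theorem zm132 : nrmB D [[30], [24], [26], [4], [12], [6], [14], [34], [36], [32]] [[456], [458], [460], [462]] zcj131 = true := by decide +kernel
theorem zr133 : chk (nrmR [[30], [24], [26], [4], [12], [6], [14], [34], [36], [32]] [[456], [458], [460], [462]] zcj131) = true := by decide +kernel
theorem zr134 : chk (pcsR R3_ps []) = true := by decide +kernel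
theorem zb135 : bnd (pcsB D R3_ps []) (leB (app D []) [[432], [498]] (pcGens R3_ps [])) = true := by decide +kernel
theorem zc136 : P.chainB ns D R3_vs [[432], [498]] = true := by decide +kernel
theorem zm138 : bnd (leB D (mapL Prod.fst zps137) [[456], [458], [460], [462]]) (leB D (mapL Prod.snd zps137) [[30], [24], [26], [4], [12], [6], [14], [34], [36], [32]]) = true := by decide +kernel
theorem zr139 : chk (zp [] [[500], [502]] (mapL comW zps137)) = true := by decide +kernel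
theorem zm141 : leB D zts140 [[500], [502]] = true := by decide +kernel
theorem zr142 : chk (zp [] [[432], [498]] zts140) = true := by decide +kernel
theorem zm144 : leB D zts143 [[432], [498]] = true := by decide +kernel
theorem zr145 : chk (zp [] (comWs [[456], [458], [460], [462]] [[30], [24], [26], [4], [12], [6], [14], [34], [36], [32]]) zts143) = true := by decide +kernel
theorem zm147 : nrmB D [[30], [24], [26], [4], [12], [6], [14], [34], [36], [32]] [[432], [498]] zcj146 = true := by decide +kernel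
theorem zr148 : chk (nrmR [[30], [24], [26], [4], [12], [6], [14], [34], [36], [32]] [[432], [498]] zcj146) = true := by decide +kernel
theorem zm150 : nrmB D [[456], [458], [460], [462]] [[432], [498]] zcj149 = true := by decide +kernel
theorem zr151 : chk (nrmR [[456], [458], [460], [462]] [[432], [498]] zcj149) = true := by decide +kernel
theorem zr152 : chk (pcsR R4_ps []) = true := by decide +kernel
theorem zb153 : bnd (pcsB D R4_ps []) (leB (app D []) [[32]] (pcGens R4_ps [])) = true := by decide +kernel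
theorem zc154 : P.chainB ns D R4_vs [[32]] = true := by decide +kernel
theorem zm156 : bnd (leB D (mapL Prod.fst zps155) [[432], [498]]) (leB D (mapL Prod.snd zps155) [[30], [24], [26], [4], [12], [6], [14], [34], [36], [32]]) = true := by decide +kernel
theorem zr157 : chk (zp [] [[506]] (mapL comW zps155)) = true := by decide +kernel
theorem zm159 : leB D zts158 [[506]] = true := by decide +kernel
theorem zr160 : chk (zp [] [[32]] zts158) = true := by decide +kernel
theorem zm162 : leB D zts161 [[32]] = true := by decide +kernel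
theorem zr163 : chk (zp [] (comWs [[432], [498]] [[30], [24], [26], [4], [12], [6], [14], [34], [36], [32]]) zts161) = true := by decide +kernel
theorem zm165 : nrmB D [[30], [24], [26], [4], [12], [6], [14], [34], [36], [32]] [[32]] zcj164 = true := by decide +kernel
theorem zr166 : chk (nrmR [[30], [24], [26], [4], [12], [6], [14], [34], [36], [32]] [[32]] zcj164) = true := by decide +kernel
theorem zm168 : nrmB D [[432], [498]] [[32]] zcj167 = true := by decide +kernel
theorem zr169 : chk (nrmR [[432], [498]] [[32]] zcj167) = true := by decide +kernel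
theorem zk170 : allL (keepB P.n P.N) ns0 = true := by decide +kernel
theorem ze171 : extB ns0 ns 16 ws [] = true := by decide +kernel
theorem zn172 : P.netsB ns (mkDefs ws 16) = true := by decide +kernel

variable {G X : Type*} [Group G] [MulAction G X] {e : ℕ → X} {gs : List G}

theorem keep0 : allL (keepB P.n P.N) ns0 = true := zk170

theorem len {k} (c : Ctx P e gs ns0 [] k) : gs.length = 16 := c.len ze171

theorem ctx0 {k} (c : Ctx P e gs ns0 [] k) : Ctx P e (ext gs ws) ns D chk0 :=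
  c.ext rfl ze171 zn172

theorem ctx {k} (c : Ctx P e gs ns0 [] k) {H : Subgroup G} (hF : Faithful e P.n H) (hH : ∀ g ∈ gs, g ∈ H) :
    Ctx P e (ext gs ws) ns D chk :=
  (ctx0 c).withB hF (mem_of_mem_ext hH _)

instance instNe : NeZero P.n := ⟨by decide⟩
noncomputable def gs0 : List (Equiv.Perm (Fin P.n)) := permsOf P.n P.N ns0
noncomputable def gs1 : List (Equiv.Perm (Fin P.n)) := ext gs0 ws
theorem c1 : Ctx P (eF P.n) gs1 ns D chk :=
  ctx (ctx_permsOf hP keep0) (faithful_eF _) fun _ _ => trivial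

theorem W_u7 (c : Ctx P e gs ns D chk) :
    UB (subW gs [[64]]) 2 :=
  (c.pc_step (UB.nil gs) (Rels.nil _)
    (c.rels _ zr3) zb2).le (by decide)

theorem W_u6 (c : Ctx P e gs ns D chk) :
    UB (subW gs [[60], [62]]) 6 :=
  (c.sch_step (W_u7 c)
    (c.rels _ zr7) zb6).le (by decide)

theorem W_u5 (c : Ctx P e gs ns D chk) :
    UB (subW gs [[56], [58]]) 24 :=
  (c.sch_step (W_u6 c)
    (c.rels _ zr11) zb10).le (by decide)

theorem W_u4 (c : Ctx P e gs ns D chk) :
    UB (subW gs [[50], [52], [54]]) 192 :=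
  (c.sch_step (W_u5 c)
    (c.rels _ zr15) zb14).le (by decide)

theorem W_u3 (c : Ctx P e gs ns D chk) :
    UB (subW gs [[46], [48]]) 1920 :=
  (c.sch_step (W_u4 c)
    (c.rels _ zr19) zb18).le (by decide)

theorem W_u2 (c : Ctx P e gs ns D chk) :
    UB (subW gs [[42], [44]]) 51840 :=
  (c.sch_step (W_u3 c)
    (c.rels _ zr23) zb22).le (by decide)

theorem W_w1_1_c : P.chainB ns D W_w1_1_vs [[42], [44]] = true :=
  zc25

theorem W_w1_1_o : prodL W_w1_1_vs 1 = 51840 := by decide +kernel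

theorem W_w1_2_c : P.chainB ns D W_w1_2_vs [[42], [44]] = true :=
  zc29

theorem W_w1_2_o : prodL W_w1_2_vs 1 = 51840 := by decide +kernel

theorem W_w1_3_c : P.chainB ns D W_w1_3_vs [[42], [44]] = true :=
  zc33

theorem W_w1_3_o : prodL W_w1_3_vs 1 = 51840 := by decide +kernel

theorem W_u1w (c : Ctx P e gs ns D chk) :
    AllWd e gs [[42], [44]] zrs24 :=
  ⟨c.wd (v := W_w1_1_v0) (vs := W_w1_1_vs1) (W_u2 c) W_w1_1_c W_w1_1_o
      (c.rels _ zr28) zb27,
    ⟨c.wd (v := W_w1_2_v0) (vs := W_w1_2_vs1) (W_u2 c) W_w1_2_c W_w1_2_o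
      (c.rels _ zr32) zb31,
    ⟨c.wd (v := W_w1_3_v0) (vs := W_w1_3_vs1) (W_u2 c) W_w1_3_c W_w1_3_o
      (c.rels _ zr36) zb35,
    trivial⟩⟩⟩

theorem W_c : P.chainB ns D W_vs [[0], [2], [4], [6], [8], [10], [12], [14], [16], [18], [20], [22], [24], [26], [28], [30]] = true :=
  zc40

theorem W_o : prodL W_vs 1 = 348364800 := by decide +kernel

theorem W_u1 (c : Ctx P e gs ns D chk) :
    UB (subW gs [[38], [40]]) 2903040 :=
  (c.b_step (W_u2 c) (W_u1w c) (c.rels _ zr43)
    (c.rels _ zr42) zb39 zb41).le (by decide)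

theorem W_w0_1_c : P.chainB ns D W_w0_1_vs [[38], [40]] = true :=
  zc45

theorem W_w0_1_o : prodL W_w0_1_vs 1 = 2903040 := by decide +kernel

theorem W_u0w (c : Ctx P e gs ns D chk) :
    AllWd e gs [[38], [40]] zrs44 :=
  ⟨c.wd (v := W_w0_1_v0) (vs := W_w0_1_vs1) (W_u1 c) W_w0_1_c W_w0_1_o
      (c.rels _ zr48) zb47,
    ⟨c.wd (v := W_v1) (vs := W_vs2) (W_u1 c) (Par.chainB_tail W_c) (by decide +kernel)
      (c.rels _ zr51) zb50,
    trivial⟩⟩

theorem W_u0 (c : Ctx P e gs ns D chk) :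
    UB (subW gs [[0], [2], [4], [6], [8], [10], [12], [14], [16], [18], [20], [22], [24], [26], [28], [30]]) 348364800 :=
  (c.b_step (W_u1 c) (W_u0w c) (c.rels _ zr57)
    (c.rels _ zr56) zb54 zb55).le (by decide)

theorem W_ub (c : Ctx P e gs ns D chk) :
    UB (subW gs [[0], [2], [4], [6], [8], [10], [12], [14], [16], [18], [20], [22], [24], [26], [28], [30]]) 348364800 :=
  (W_u0 c)

theorem W_ex (c : Ctx P e gs ns D chk) :
    Exact e P.n P.N gs ns 1 W_vs [[0], [2], [4], [6], [8], [10], [12], [14], [16], [18], [20], [22], [24], [26], [28], [30]] :=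
  c.exact W_c W_o (W_ub c)

theorem W_card (c : Ctx P e gs ns D chk) :
    Nat.card (subW gs [[0], [2], [4], [6], [8], [10], [12], [14], [16], [18], [20], [22], [24], [26], [28], [30]]) = 348364800 :=
  (W_ex c).card.trans W_o

theorem centG_c : P.chainB ns D centG_vs [[0], [2], [4], [6], [8], [10], [12], [14], [16], [18], [20], [22], [24], [26], [28], [30]] = true :=
  zc66

theorem centG_o : prodL centG_vs 1 = 348364800 := by decide +kernel

theorem cent (c : Ctx P e gs ns D chk) :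
    (subW gs [[0], [2], [4], [6], [8], [10], [12], [14], [16], [18], [20], [22], [24], [26], [28], [30]]) ⊓ Subgroup.centralizer (subW gs [[0], [2], [4], [6], [8], [10], [12], [14], [16], [18], [20], [22], [24], [26], [28]] : Set G) = (subW gs []) :=
  c.cent (lx := [[0], [2], [4], [6], [8], [10], [12], [14], [16], [18], [20], [22], [24], [26], [28]]) (Rels.nil _) (c.sOk (c.exact centG_c centG_o (W_ub c)) zs67) (fun _ h => by cases h)
    (c.fixX zf65) (c.rels _ zr70) zm71 zs69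

theorem Q_pr (c : Ctx P e gs ns D chk) :
    Rels gs (pcsR Q_ps []) :=
  (c.rels _ zr73)

theorem Q_pe (c : Ctx P e gs ns D chk) :
    Rels gs (defRels zE72) :=
  (c.rels _ zr74)

theorem Q_pb : bnd (pcsB D Q_ps []) (leB (app D zE72) [[0], [2], [4], [6], [8], [10], [12], [14]] (pcGens Q_ps [])) = true := zb75

theorem Q_ub (c : Ctx P e gs ns D chk) :
    UB (subW gs [[0], [2], [4], [6], [8], [10], [12], [14]]) 512 :=
  c.pcs (UB.nil gs) (Q_pe c) (Q_pr c) Q_pb (by decide +kernel)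

theorem Q_c : P.chainB ns D Q_vs [[0], [2], [4], [6], [8], [10], [12], [14]] = true :=
  zc76

theorem Q_o : prodL Q_vs 1 = 512 := by decide +kernel

theorem Q_lb (c : Ctx P e gs ns D chk) :
    LB (subW gs [[0], [2], [4], [6], [8], [10], [12], [14]]) 512 :=
  c.lb Q_c Q_o

theorem Q_card (c : Ctx P e gs ns D chk) :
    Nat.card (subW gs [[0], [2], [4], [6], [8], [10], [12], [14]]) = 512 :=
  (Q_ub c).card_eq (Q_lb c)

theorem S_pr (c : Ctx P e gs ns D chk) :
    Rels gs (pcsR S_ps []) :=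
  (c.rels _ zr78)

theorem S_pe (c : Ctx P e gs ns D chk) :
    Rels gs (defRels zE77) :=
  (c.rels _ zr79)

theorem S_pb : bnd (pcsB D S_ps []) (leB (app D zE77) [[0], [2], [4], [6], [8], [10], [12], [14], [22], [24], [26], [30]] (pcGens S_ps [])) = true := zb80

theorem S_ub (c : Ctx P e gs ns D chk) :
    UB (subW gs [[0], [2], [4], [6], [8], [10], [12], [14], [22], [24], [26], [30]]) 8192 :=
  c.pcs (UB.nil gs) (S_pe c) (S_pr c) S_pb (by decide +kernel)

theorem S_c : P.chainB ns D S_vs [[0], [2], [4], [6], [8], [10], [12], [14], [22], [24], [26], [30]] = true :=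
  zc81

theorem S_o : prodL S_vs 1 = 8192 := by decide +kernel

theorem S_lb (c : Ctx P e gs ns D chk) :
    LB (subW gs [[0], [2], [4], [6], [8], [10], [12], [14], [22], [24], [26], [30]]) 8192 :=
  c.lb S_c S_o

theorem S_card (c : Ctx P e gs ns D chk) :
    Nat.card (subW gs [[0], [2], [4], [6], [8], [10], [12], [14], [22], [24], [26], [30]]) = 8192 :=
  (S_ub c).card_eq (S_lb c)

theorem Cw_pr (c : Ctx P e gs ns D chk) :
    Rels gs (pcsR Cw_ps []) :=
  (c.rels _ zr83)

theorem Cw_pe (c : Ctx P e gs ns D chk) :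
    Rels gs (defRels zE82) :=
  (c.rels _ zr84)

theorem Cw_pb : bnd (pcsB D Cw_ps []) (leB (app D zE82) [[0], [2], [4], [6], [8], [10], [12], [14], [16], [18], [20], [22], [24], [26], [30]] (pcGens Cw_ps [])) = true := zb85

theorem Cw_ub (c : Ctx P e gs ns D chk) :
    UB (subW gs [[0], [2], [4], [6], [8], [10], [12], [14], [16], [18], [20], [22], [24], [26], [30]]) 221184 :=
  c.pcs (UB.nil gs) (Cw_pe c) (Cw_pr c) Cw_pb (by decide +kernel)

theorem Cw_c : P.chainB ns D Cw_vs [[0], [2], [4], [6], [8], [10], [12], [14], [16], [18], [20], [22], [24], [26], [30]] = true :=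
  zc86

theorem Cw_o : prodL Cw_vs 1 = 221184 := by decide +kernel

theorem Cw_lb (c : Ctx P e gs ns D chk) :
    LB (subW gs [[0], [2], [4], [6], [8], [10], [12], [14], [16], [18], [20], [22], [24], [26], [30]]) 221184 :=
  c.lb Cw_c Cw_o

theorem Cw_card (c : Ctx P e gs ns D chk) :
    Nat.card (subW gs [[0], [2], [4], [6], [8], [10], [12], [14], [16], [18], [20], [22], [24], [26], [30]]) = 221184 :=
  (Cw_ub c).card_eq (Cw_lb c)

theorem core_P_pr (c : Ctx P e gs ns D chk) :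
    Rels gs (pcsR core_P_ps []) :=
  (c.rels _ zr88)

theorem core_P_pe (c : Ctx P e gs ns D chk) :
    Rels gs (defRels zE87) :=
  (c.rels _ zr89)

theorem core_P_pb : bnd (pcsB D core_P_ps []) (leB (app D zE87) [[0], [2], [4], [6], [8], [10], [12], [14], [308], [310], [312]] (pcGens core_P_ps [])) = true := zb90

theorem core_P_ub (c : Ctx P e gs ns D chk) :
    UB (subW gs [[0], [2], [4], [6], [8], [10], [12], [14], [308], [310], [312]]) 8192 :=
  c.pcs (UB.nil gs) (core_P_pe c) (core_P_pr c) core_P_pb (by decide +kernel)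

theorem core_P_c : P.chainB ns D core_P_vs [[0], [2], [4], [6], [8], [10], [12], [14], [308], [310], [312]] = true :=
  zc91

theorem core_P_o : prodL core_P_vs 1 = 8192 := by decide +kernel

theorem core_P_lb (c : Ctx P e gs ns D chk) :
    LB (subW gs [[0], [2], [4], [6], [8], [10], [12], [14], [308], [310], [312]]) 8192 :=
  c.lb core_P_c core_P_o

theorem core_P_card (c : Ctx P e gs ns D chk) :
    Nat.card (subW gs [[0], [2], [4], [6], [8], [10], [12], [14], [308], [310], [312]]) = 8192 :=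
  (core_P_ub c).card_eq (core_P_lb c)

theorem core_sG_c : P.chainB ns D core_sG_vs [[0], [2], [4], [6], [8], [10], [12], [14], [308], [310], [312]] = true :=
  zc92

theorem core_sG_o : prodL core_sG_vs 1 = 8192 := by decide +kernel

theorem core_s (c : Ctx P e gs ns D chk) :
    ∀ g, g ∈ (subW gs [[0], [2], [4], [6], [8], [10], [12], [14]]) ↔ g ∈ (subW gs [[0], [2], [4], [6], [8], [10], [12], [14], [308], [310], [312]]) ∧ ∀ m ∈ core_s_ms, g ∈ sstab G (mset e P.n m) :=
  c.setStab (Rels.nil _) (c.sOk (c.exact core_sG_c core_sG_o (core_P_ub c)) zs93) (fun _ h => by cases h) zm96 zs95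

theorem core (c : Ctx P e gs ns D chk) :
    Cfsg.pCoreOf 2 (subW gs [[0], [2], [4], [6], [8], [10], [12], [14], [16], [18], [20], [22], [24], [26], [30]]) = (subW gs [[0], [2], [4], [6], [8], [10], [12], [14]]) :=
  have hfin : Finite (subW gs [[0], [2], [4], [6], [8], [10], [12], [14]]) := Nat.finite_of_card_ne_zero (by rw [Q_card c]; norm_num)
  pCoreOf_eq (c.pCoreOf_le (p := 2) (by norm_num) (b := 27) (Cw_card c) (core_P_card c) (by norm_num) (c.le_of_rels (ws := [[0], [2], [4], [6], [8], [10], [12], [14], [308], [310], [312]]) (l := [[0], [2], [4], [6], [8], [10], [12], [14], [16], [18], [20], [22], [24], [26], [30]]) (c.rels _ zr101) zm100) zm98 (core_s c))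
    (c.le_of_rels (ws := [[0], [2], [4], [6], [8], [10], [12], [14]]) (l := [[0], [2], [4], [6], [8], [10], [12], [14], [16], [18], [20], [22], [24], [26], [30]]) (c.rels _ zr107) zm106) (c.le_normalizer (cj := zcj102) hfin (c.rels _ zr104) zm103) (isPGroup_of_card (Q_card c) 9 (by norm_num))

theorem R_pr (c : Ctx P e gs ns D chk) :
    Rels gs (pcsR R_ps []) :=
  (c.rels _ zr109)

theorem R_pe (c : Ctx P e gs ns D chk) :
    Rels gs (defRels zE108) :=
  (c.rels _ zr110)

theorem R_pb : bnd (pcsB D R_ps []) (leB (app D zE108) [[30], [24], [26], [4], [12], [6], [14], [34], [36], [32]] (pcGens R_ps [])) = true := zb111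

theorem R_ub (c : Ctx P e gs ns D chk) :
    UB (subW gs [[30], [24], [26], [4], [12], [6], [14], [34], [36], [32]]) 1024 :=
  c.pcs (UB.nil gs) (R_pe c) (R_pr c) R_pb (by decide +kernel)

theorem R_c : P.chainB ns D R_vs [[30], [24], [26], [4], [12], [6], [14], [34], [36], [32]] = true :=
  zc112

theorem R_o : prodL R_vs 1 = 1024 := by decide +kernel

theorem R_lb (c : Ctx P e gs ns D chk) :
    LB (subW gs [[30], [24], [26], [4], [12], [6], [14], [34], [36], [32]]) 1024 :=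
  c.lb R_c R_o

theorem R_card (c : Ctx P e gs ns D chk) :
    Nat.card (subW gs [[30], [24], [26], [4], [12], [6], [14], [34], [36], [32]]) = 1024 :=
  (R_ub c).card_eq (R_lb c)

theorem R_r (c : Ctx P e gs ns D chk) :
    ∀ x ∈ (subW gs [[30], [24], [26], [4], [12], [6], [14], [34], [36], [32]]), ∀ y ∈ (subW gs [[30]]), x * y = y * x :=
  commute_of_comR (c.rels _ zr113)

theorem R2_pr (c : Ctx P e gs ns D chk) :
    Rels gs (pcsR R2_ps []) :=
  (c.rels _ zr115)

theorem R2_pe (c : Ctx P e gs ns D chk) :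
    Rels gs (defRels zE114) :=
  (c.rels _ zr116)

theorem R2_pb : bnd (pcsB D R2_ps []) (leB (app D zE114) [[456], [458], [460], [462]] (pcGens R2_ps [])) = true := zb117

theorem R2_ub (c : Ctx P e gs ns D chk) :
    UB (subW gs [[456], [458], [460], [462]]) 32 :=
  c.pcs (UB.nil gs) (R2_pe c) (R2_pr c) R2_pb (by decide +kernel)

theorem R2_c : P.chainB ns D R2_vs [[456], [458], [460], [462]] = true :=
  zc118

theorem R2_o : prodL R2_vs 1 = 32 := by decide +kernel

theorem R2_lb (c : Ctx P e gs ns D chk) :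
    LB (subW gs [[456], [458], [460], [462]]) 32 :=
  c.lb R2_c R2_o

theorem R2_card (c : Ctx P e gs ns D chk) :
    Nat.card (subW gs [[456], [458], [460], [462]]) = 32 :=
  (R2_ub c).card_eq (R2_lb c)

theorem com2_c_le (c : Ctx P e gs ns D chk) :
    (subW gs [[478], [480], [482], [484]]) ≤ ⁅(subW gs [[30], [24], [26], [4], [12], [6], [14], [34], [36], [32]]), (subW gs [[30], [24], [26], [4], [12], [6], [14], [34], [36], [32]])⁆ :=
  c.le_commutator (ps := zps119) (c.rels _ zr121) zm120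

theorem com2 (c : Ctx P e gs ns D chk) :
    ⁅(subW gs [[30], [24], [26], [4], [12], [6], [14], [34], [36], [32]]), (subW gs [[30], [24], [26], [4], [12], [6], [14], [34], [36], [32]])⁆ = (subW gs [[456], [458], [460], [462]]) :=
  have hfin : Finite (subW gs [[456], [458], [460], [462]]) := (R2_ub c).1
  le_antisymm (commutator_subW_le (c.le_normalizer (cj := zcj131) hfin (c.rels _ zr133) zm132) (c.le_normalizer (cj := zcj128) hfin (c.rels _ zr130) zm129)
    (c.le_of_rels (ws := (comWs [[30], [24], [26], [4], [12], [6], [14], [34], [36], [32]] [[30], [24], [26], [4], [12], [6], [14], [34], [36], [32]])) (l := [[456], [458], [460], [462]]) (c.rels _ zr127) zm126)) ((c.le_of_rels (ws := [[456], [458], [460], [462]]) (l := [[478], [480], [482], [484]]) (c.rels _ zr124) zm123).trans (com2_c_le c))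

theorem R3_pr (c : Ctx P e gs ns D chk) :
    Rels gs (pcsR R3_ps []) :=
  (c.rels _ zr134)

theorem R3_pe (c : Ctx P e gs ns D chk) :
    Rels gs (defRels []) :=
  (Rels.nil _)

theorem R3_pb : bnd (pcsB D R3_ps []) (leB (app D []) [[432], [498]] (pcGens R3_ps [])) = true := zb135

theorem R3_ub (c : Ctx P e gs ns D chk) :
    UB (subW gs [[432], [498]]) 4 :=
  c.pcs (UB.nil gs) (R3_pe c) (R3_pr c) R3_pb (by decide +kernel)

theorem R3_c : P.chainB ns D R3_vs [[432], [498]] = true :=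
  zc136

theorem R3_o : prodL R3_vs 1 = 4 := by decide +kernel

theorem R3_lb (c : Ctx P e gs ns D chk) :
    LB (subW gs [[432], [498]]) 4 :=
  c.lb R3_c R3_o

theorem R3_card (c : Ctx P e gs ns D chk) :
    Nat.card (subW gs [[432], [498]]) = 4 :=
  (R3_ub c).card_eq (R3_lb c)

theorem com3_c_le (c : Ctx P e gs ns D chk) :
    (subW gs [[500], [502]]) ≤ ⁅(subW gs [[456], [458], [460], [462]]), (subW gs [[30], [24], [26], [4], [12], [6], [14], [34], [36], [32]])⁆ :=
  c.le_commutator (ps := zps137) (c.rels _ zr139) zm138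

theorem com3 (c : Ctx P e gs ns D chk) :
    ⁅(subW gs [[456], [458], [460], [462]]), (subW gs [[30], [24], [26], [4], [12], [6], [14], [34], [36], [32]])⁆ = (subW gs [[432], [498]]) :=
  have hfin : Finite (subW gs [[432], [498]]) := (R3_ub c).1
  le_antisymm (commutator_subW_le (c.le_normalizer (cj := zcj149) hfin (c.rels _ zr151) zm150) (c.le_normalizer (cj := zcj146) hfin (c.rels _ zr148) zm147)
    (c.le_of_rels (ws := (comWs [[456], [458], [460], [462]] [[30], [24], [26], [4], [12], [6], [14], [34], [36], [32]])) (l := [[432], [498]]) (c.rels _ zr145) zm144)) ((c.le_of_rels (ws := [[432], [498]]) (l := [[500], [502]]) (c.rels _ zr142) zm141).trans (com3_c_le c))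

theorem R4_pr (c : Ctx P e gs ns D chk) :
    Rels gs (pcsR R4_ps []) :=
  (c.rels _ zr152)

theorem R4_pe (c : Ctx P e gs ns D chk) :
    Rels gs (defRels []) :=
  (Rels.nil _)

theorem R4_pb : bnd (pcsB D R4_ps []) (leB (app D []) [[32]] (pcGens R4_ps [])) = true := zb153

theorem R4_ub (c : Ctx P e gs ns D chk) :
    UB (subW gs [[32]]) 2 :=
  c.pcs (UB.nil gs) (R4_pe c) (R4_pr c) R4_pb (by decide +kernel)

theorem R4_c : P.chainB ns D R4_vs [[32]] = true :=
  zc154

theorem R4_o : prodL R4_vs 1 = 2 := by decide +kernel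

theorem R4_lb (c : Ctx P e gs ns D chk) :
    LB (subW gs [[32]]) 2 :=
  c.lb R4_c R4_o

theorem R4_card (c : Ctx P e gs ns D chk) :
    Nat.card (subW gs [[32]]) = 2 :=
  (R4_ub c).card_eq (R4_lb c)

theorem com4_c_le (c : Ctx P e gs ns D chk) :
    (subW gs [[506]]) ≤ ⁅(subW gs [[432], [498]]), (subW gs [[30], [24], [26], [4], [12], [6], [14], [34], [36], [32]])⁆ :=
  c.le_commutator (ps := zps155) (c.rels _ zr157) zm156

theorem com4 (c : Ctx P e gs ns D chk) :
    ⁅(subW gs [[432], [498]]), (subW gs [[30], [24], [26], [4], [12], [6], [14], [34], [36], [32]])⁆ = (subW gs [[32]]) :=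
  have hfin : Finite (subW gs [[32]]) := (R4_ub c).1
  le_antisymm (commutator_subW_le (c.le_normalizer (cj := zcj167) hfin (c.rels _ zr169) zm168) (c.le_normalizer (cj := zcj164) hfin (c.rels _ zr166) zm165)
    (c.le_of_rels (ws := (comWs [[432], [498]] [[30], [24], [26], [4], [12], [6], [14], [34], [36], [32]])) (l := [[32]]) (c.rels _ zr163) zm162)) ((c.le_of_rels (ws := [[32]]) (l := [[506]]) (c.rels _ zr160) zm159).trans (com4_c_le c))


end CL.P8.MW
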