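import Cfsg.Agent.Spor.TCSound

/-! coset enumeration certificate generated by tools/tc -/

set_option maxRecDepth 100000
set_option autoImplicit false
set_option linter.all false

namespace CL.TC.P8E8

noncomputable def rows0 : Tr ℕ := (.node (nat_lit 4) (.node (nat_lit 2) (.node (nat_lit 1) (.leaf (nat_lit 0xe6621d0c43a98878510fe217f8c5fc9887b30cf4e24a9fc42ba487fc816f8829de83fc507f990ff321fd243e83f40b7ea15fe215f104fbc877890ef301de603bb4073d7e814e8a1bfa04ff8857e312f0a1be5037ca86fd50b67e8619d4c33b1867950cfe211f8c47d984fa610f2618a9d142faa85f650bfe20ff8c43ca85fa40bfaa11f1c359ff407f580afd01df9037c4057980af4e15e9c2bf8838475309ec613dcc27d284ff106ece13e9433d184fa30954eaa11d9423ba847f105fc619e9423ea037c60bf4a10cfd5c1fb383f7707fc817e5c1fd303fb607fe20bf9c286fb28377506f0a0dfc40ff184fd504f8a11ed41bda8333f6605eec0be1817f2047a605f680bfc40ff303fb6052eeea09e1413ca827f102eea09f0c1bda027c504f8a08cfdd00fc201f9403fc80ded00ff8817e505f8807f100d07c18179302f4605f9013f880fe303f8605f4c0be9812a79201f4403ec807c180fe302f8403f4807f100ff20100))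 (.leaf (nat_lit 0xfd057c5883f41575a20ecc41dd083f88c7e629eec3e5dc587f930ff361fed43fdd87fc20fff117e963fd9c80bbac8f7aa27e763de109bac0f7681eeee3df98a3f88b047f115fb22dce877c212f5a1ded43bde477bc8efe727a0fe227f2897ed0a7b816f4649da873bc8e7791cfce4d41fa097f889f391bf722be8c8fb58df7b1bef437d286e37f8897291af9049da06bed0a7c322ef235de46b948d507e824fd447fc44bb38cfd913f8643de067bc0cf48197afd045c9063f410f6618ee831fc44bf29077418f282e83c905f9a0bf4417eec2fe105ff8887e51ff2823e1c6107f8877ca1dfb41fe9073b50b77a16f122de245bf38f507e81dfe21dd2457d20df6b15ef62be2c57c50af5a158dfe21bce453e40e7d80ff8635de853c48a78914e722941fa073f50dff10dfae1df0c67bc89f8813f1027d604debf40d73312fd033dd44bf886fe318f0625e0c4bd9882a73411e8823d5047c308f9411fe219d6847c30bf841141))) (.node (nat_lit 1) (.leaf (nat_lit 0xe7261ee09bf41f77b27ec677d20c3ab987e63dfe24a11ce4bfd51df1b2fe965fe609bc19d7572ffcc79fc49023f891fd924e345dd20bbcd12f8339eb25dd64bbf3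9dd07f121f9473f688ba416f5a2df7449e94e3ac96fe73aa0fd073fc4878c967492ceb659eec8fd29bf5a2ce54591bfc4838495fc838e9057d68afb515fd922f8c6dc24ae83f41c7ea37fe241d1cabac957692afb043f18d794153d7e836e0e53fa0d7a614f5729ecc53d98a7f89073b291be8e51e28cb939476431e8e51d58a3f29a7f11eef65037d249fdc0f7e833ec861d209fac13f6727fcc65fc47423a4937aa30e564de6c7bc197f5826ece4df98c7f88e047f11bfb239ca897cc0ef832eeb44bda497b492fe730a0fe233f28bbed0d75824f7439e8cb7b49276924fce5f41fa0bbf88cf2923eb247eec6fd19676b23ed447ce88e37f88c71922f905bd608bb5117da1af8a57da48b8c91507e82dfd459fc463ab90f6921fb233f14abb410f38217a)) (.leaf (nat_lit 0xe4c81dd8d3f4297244ee4c81f8d47f89975b40eac805dc98ffb5277063feb469d0d37f1a87f131eb67fd58fcbb951f71b3efe261d5ccfa1a67393ee907df193f8c1f3d7273df2e63fa13fae197434be6c7bf953bf89875b3d1be4e79e292f839e73c3ceee63d8d2bf2a6ff12feb67837ca4efdc17fe84ce7677de0c3b1a4f473bfcc97fc4b823949d7aa49e1675ceceba41d7982ff0a91f992bf896847f12cfb25bc28e79c1cf4a39f345de151fa49cfe749a0fe255f291fed15f3838e9471d68e3dc96fa645fce9141fa11ff89570937e726fd2cdfad9bfbb2cf4c89c68de37f894ef936f908bce0dba51b75a36eb26df64aff3a3507e845fd489fc4a79b9af4935eb26bd60d7ec157e7437ae6c69da9038b1a7443fe6c69f8d0bf89476b34ecc685dce8cf9599ff127e887dce4cfa499f5833f8c83ca0cdeb9b9979728fd083d10f79b9974632fca81fc49fb5990df3731f147bc5cc7be147633ce8c63f94fff89376b311b))))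 (.node (nat_lit 2) (.node (nat_lit 1) (.leaf (nat_lit 0xe28a1d29737a2873642804a1fc4ff9d2874450e88a083c693f85a7ff13de6e83c8d6f94a7fc55dfb07df9d79eb8b277763ffd0bbce90391ad7e35cfe27bd2d3ba327177164ded4b5bd9379526f563f6e49bfc4f3a5a6f464d2ee3499c2d33f89df274ceb27dd0d679c267c65be1098f5c5d2fcb9e7e85be5897d5cf7a1ac7e55afe277d2d2c6f8ba578a58dee95cb12b9ba57763c5e495fc4eba5a50df1949f7075fa16795a4f3849ef077d955ff32c7f13908e3291ea95f7da472b48e7091d2123cb9d28248fe27011fc4dfec9c6fa47e508fce91fa523f9939f0cadf9d5e8394a36e8463848dcad1b9c2374846e8e8dbdd1bf89b047f135f94adf68db9422f3a45e948bd2517dc9c24245a0fd0adfc4d77ca272944e7689d2d13a5a27ba37f8eab1a6c90ff52af2b43e5687ce10fa421f4743e2e87fc4d423922174a51e0885c9143f1aa7f134e9485d510baa2120f2a41e3683fc4cb9227f2941e7283f154bec19fe7537a)) (.leaf (nat_lit 0xe14c1bed83f8a8ee468f86d7f654b943073860fced8f5c0d7f99aa7e86b764bffc5478baff235fe66bfccd7d53f4356f85ee96bdc6d4f81b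3f185ef4ad3c1d7bf8a78470a5ddf6bbfc53b8ba970366f86d1f613f9c2efe7697ae08b9d5143f434716518a4b9fc53b952e7345ce68b883c296f7dadff14be2eb7ce53f91b2fc566fb099f9d9deb832d7764dfd0cdc696b9b273e25afe297ced6b9b2d1770a59df6b3fc5278bacf2959eb299d1593e332ef8597ae0eb1e5d2bf432f1c58e4eb1d592da12c7f149e76b037c255fdc247e864e36afca15f9c2bf77495a4affc51c23f8a27d945dd4adc615b952b73a56e72ade651d392b501d255fe287fa18f8caaf2b55e76abced57852afda448de26a9ca97f79aa36254fe285c9d5399aa74354e86a8a9fa18b8429f5b53e08bdc614f9429fa561e2ea7fc504238d2970b52fe281c11778ca97c360fb083d214bf3b0bd71451ea885fa183822e7e35ffe281ce947a228f445141))) (.node (nat_lit 1) (.leaf (nat_lit 0xfd0f1b61c395b86fb70df0d3a9dc3dbb3fe677fe2cc11fa1db6c37f2b6fdf6dfc21bf8c33af76fdcedffc59423f8b0ee96ee74ddb11d37d376a373f32c5b19cb84b7506c772dcedbcddb76239ef76dd46e9c19b7f8b0f3b6d1bd48e7ba1b39db66c472f46ebee1878bb668674fe2c011be9af75b5ff15f8ead7f658384b5f186be50d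7f9dd5ebf8af6e96ae74d5be18b71b8f0a6af0ae9be5ab84b5507e874dd0d3ceda77db0ee370f46e5edd7bf339ff15d08df4d1bada3f8ae6f760904d1f65778c3472868fcee4f5fa1c77433f3b67e16cfc617b81b7fa570deecffc56c237d336eb66fe2b5c1d9b8caeb8266fb0b7ca19bf3b83d6fa65dd6cbfc56383b2f1965e72b6c0997ec2cfe76f7adf4c9bad93f8abf0764e32c9ca593ac2ca9264dd0c8f46898f8db1ff155e0ec7c658f94b1f2863df0c7ba18debf8a9ef962e94c5b91ab853171a62f0addc258b8cb1507e86edf0c3d2d877234f0861f46d9edd4ff336ff15208)) (.leaf (nat_lit 0xfe2e1b25e38d3c6e878db4e9a69e3ccb8e7975dd2f1419e1d763bbf1777dd8efb5dcf4b3bee677fe2e1c6ddc6ff8b7ec976e34edba1db7d3b6fa715d2edb65db74bb5068377db0ebcadd635bafb86cdf0ebc1dd7333c7f16b08fe2d3b65d3953a6d86ed86f1ae9b7ccb56996cdf2e941a61b36bb9f2773db8dbb0ddf5b376f673fe2d3cadcc6f5c36ed872e56e5b6db35bb97b869e0ee5b71bbf8b4047f167db2e3ca9c77c38efa6adc6ede15e374b8ef971a0)))))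
noncomputable def recs0 : Tr ℕ := (.leaf (nat_lit 0x63a063a043a043a0467a467a55a055a099006300800043008200460088005500890035008d003600450845089b0044008100450056085608481b481b641b641b8b00560083004800a1006400571b571b9d0047004a2e4a2e652e652e8f00570084004a00a5006500582e582e9f004900546754674d414d416641664191005800870054005f675f6785004d00a90066005a415a41a3004b005054505497005f0093005a0086005000ab0051005c545c54a7004e0095005c00685468546800ad006854ad54957aad7a9754ab549567ab676641a941937aa97a9541a7419354a754652ea52e917aa57a932ea32e9141a341641ba11b8f7aa17a911b9f1b8f2e9f2e8f089d088b1b9d1b8ba09ba088089b08887a997a63a099a0878d978d5f679767868d958d5c549554858d938d5a419341848d918d582e912e838d8f8d571b8f1b82088d08817a8d7a818d8b8d56088b0881a089a08008890855a088a054678767505486544d4185414a2e842e481b831b467a827a4508810843a080a001a001a0018d018d017a017a01410141012e012e011b011b01080108))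
noncomputable def rows : Tr ℕ := rows0
noncomputable def recs : Tr ℕ := recs0
noncomputable def ci0 : CI := ⟨[], (nat_lit 0), false, (.node (nat_lit 1) (.leaf Rule.defn) (.leaf Rule.copy)), (.node (nat_lit 8) (.node (nat_lit 4) (.node (nat_lit 2) (.node (nat_lit 1) (.leaf (XRule.rot (nat_lit 0) [] 76 0)) (.leaf (XRule.rot (nat_lit 1409831944) [8, 84, 8, 84] 6 0))) (.node (nat_lit 1) (.leaf (XRule.rot (nat_lit 31354) [122, 122] 76 0)) (.leaf (XRule.rot (nat_lit 16705) [65, 65] 76 0)))) (.node (nat_lit 2) (.node (nat_lit 1) (.leaf (XRule.rot (nat_lit 26471) [103, 103] 76 0)) (.leaf (XRule.rot (nat_lit 36237) [141, 141] 76 0))) (.node (nat_lit 1) (.leaf (XRule.rot (nat_lit 21588) [84, 84] 76 0)) (.leaf (XRule.rot (nat_lit 11822) [46, 46] 76 0))))) (.node (nat_lit 2) (.node (nat_lit 1) (.leaf (XRule.rot (nat_lit 6939) [27, 27] 76 0)) (.leaf (XRule.rot (nat_lit 2056) [8, 8] 76 0))) (.leaf (XRule.rot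 (nat_lit 41120) [160, 160] 76 0))))⟩
noncomputable def ci8 : CI := ⟨[0], (nat_lit 8), true, (.node (nat_lit 8) (.node (nat_lit 4) (.node (nat_lit 2) (.node (nat_lit 1) (.leaf Rule.defn) (.leaf Rule.copy)) (.node (nat_lit 1) (.leaf (Rule.fwd [nat_lit 84, nat_lit 8, nat_lit 84] 6 0)) (.leaf (Rule.fwd [nat_lit 65, nat_lit 8, nat_lit 65] 4 0)))) (.node (nat_lit 2) (.node (nat_lit 1) (.leaf (Rule.fwd [nat_lit 103, nat_lit 8, nat_lit 103] 8 0)) (.leaf (Rule.fwd [nat_lit 46, nat_lit 8, nat_lit 46] 2 0))) (.node (nat_lit 1) (.leaf (Rule.fwd [nat_lit 8] 76 0)) (.leaf (Rule.fwd [nat_lit 122, nat_lit 8, nat_lit 122, nat_lit 8, nat_lit 122] 10 0))))) (.node (nat_lit 2) (.node (nat_lit 1) (.leaf (Rule.fwd [nat_lit 160, nat_lit 8, nat_lit 160, nat_lit 8, nat_lit 160] 14 0)) (.leaf (Rule.fwd [nat_lit 141, nat_lit 8, nat_lit 141] 12 0))) (.leaf (Rule.fwd [nat_lit 27, nat_lit 8, nat_lit 27, nat_lit 8, nat_lit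 27] 0 0)))), (.node (nat_lit 4) (.node (nat_lit 2) (.node (nat_lit 1) (.leaf XRule.defn) (.leaf XRule.ax)) (.node (nat_lit 1) (.leaf (XRule.rot (nat_lit 524128225402) [122, 8, 122, 8, 122] 10 0)) (.leaf (XRule.rot (nat_lit 116100106267) [27, 8, 27, 8, 27] 0 0)))) (.leaf (XRule.rot (nat_lit 8) [8] 76 0)))⟩
noncomputable def ci27 : CI := ⟨[1], (nat_lit 27), true, (.node (nat_lit 8) (.node (nat_lit 4) (.node (nat_lit 2) (.node (nat_lit 1) (.leaf Rule.defn) (.leaf Rule.copy)) (.node (nat_lit 1) (.leaf (Rule.fwd [nat_lit 84, nat_lit 27, nat_lit 84] 20 0)) (.leaf (Rule.fwd [nat_lit 65, nat_lit 27, nat_lit 65] 18 0)))) (.node (nat_lit 2) (.node (nat_lit 1) (.leaf (Rule.fwd [nat_lit 103, nat_lit 27, nat_lit 103] 22 0)) (.leaf (Rule.fwd [nat_lit 27] 76 0))) (.node (nat_lit 1) (.leaf (Rule.fwd [nat_lit 8, nat_lit 27, nat_lit 8, nat_lit 27, nat_lit 8] 0 1)) (.leaf (Rule.fwd [nat_lit 122, nat_lit 27, nat_lit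 122] 24 0))))) (.node (nat_lit 2) (.node (nat_lit 1) (.leaf (Rule.fwd [nat_lit 160, nat_lit 27, nat_lit 160] 28 0)) (.leaf (Rule.fwd [nat_lit 141, nat_lit 27, nat_lit 141] 26 0))) (.node (nat_lit 1) (.leaf (Rule.fwd [nat_lit 46, nat_lit 27, nat_lit 46, nat_lit 27, nat_lit 46] 16 0)) (.leaf (Rule.fwd [nat_lit 122, nat_lit 160, nat_lit 46, nat_lit 141, nat_lit 65, nat_lit 8, nat_lit 27, nat_lit 122, nat_lit 160, nat_lit 46, nat_lit 141, nat_lit 65, nat_lit 8, nat_lit 27, nat_lit 122, nat_lit 160, nat_lit 46, nat_lit 141, nat_lit 65, nat_lit 8, nat_lit 27, nat_lit 122, nat_lit 160, nat_lit 46, nat_lit 141, nat_lit 65, nat_lit 8, nat_lit 27, nat_lit 122, nat_lit 160, nat_lit 46, nat_lit 141, nat_lit 65, nat_lit 8, nat_lit 27, nat_lit 122, nat_lit 160, nat_lit 46, nat_lit 141, nat_lit 65, nat_lit 8, nat_lit 27, nat_lit 122, nat_lit 160, nat_lit 46, nat_lit 141, nat_lit 65, nat_lit 8, nat_lit 27, nat_lit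 122, nat_lit 160, nat_lit 46, nat_lit 141, nat_lit 65, nat_lit 8, nat_lit 27, nat_lit 122, nat_lit 160, nat_lit 46, nat_lit 141, nat_lit 65, nat_lit 103, nat_lit 8] 72 1))))), (.node (nat_lit 4) (.node (nat_lit 2) (.node (nat_lit 1) (.leaf XRule.defn) (.leaf XRule.ax)) (.node (nat_lit 1) (.leaf (XRule.rot (nat_lit 198024502062) [46, 27, 46, 27, 46] 16 0)) (.leaf (XRule.rot (nat_lit 8002426) [122, 27, 122] 24 0)))) (.leaf (XRule.rot (nat_lit 27) [27] 76 0)))⟩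
noncomputable def ci46 : CI := ⟨[2], (nat_lit 46), true, (.node (nat_lit 8) (.node (nat_lit 4) (.node (nat_lit 2) (.node (nat_lit 1) (.leaf Rule.defn) (.leaf Rule.copy)) (.node (nat_lit 1) (.leaf (Rule.fwd [nat_lit 84, nat_lit 46, nat_lit 84] 32 0)) (.leaf (Rule.fwd [nat_lit 103, nat_lit 46, nat_lit 103] 34 0)))) (.node (nat_lit 2) (.node (nat_lit 1) (.leaf (Rule.fwd [nat_lit 46] 76 0)) (.leaf (Rule.fwd [nat_lit 27, nat_lit 46, nat_lit 27, nat_lit 46, nat_lit 27] 16 1))) (.node (nat_lit 1) (.leaf (Rule.fwd [nat_lit 8, nat_lit 46, nat_lit 8] 2 1)) (.leaf (Rule.fwd [nat_lit 122, nat_lit 46, nat_lit 122] 36 0))))) (.node (nat_lit 2) (.node (nat_lit 1) (.leaf (Rule.fwd [nat_lit 160, nat_lit 46, nat_lit 160] 40 0)) (.leaf (Rule.fwd [nat_lit 65, nat_lit 46, nat_lit 65, nat_lit 46, nat_lit 65] 30 0))) (.leaf (Rule.fwd [nat_lit 141, nat_lit 46, nat_lit 141] 38 0)))), (.node (nat_lit 4) (.node (nat_lit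 2) (.node (nat_lit 1) (.leaf XRule.defn) (.leaf XRule.ax)) (.node (nat_lit 1) (.leaf (XRule.rot (nat_lit 279948897857) [65, 46, 65, 46, 65] 30 0)) (.leaf (XRule.rot (nat_lit 8007290) [122, 46, 122] 36 0)))) (.leaf (XRule.rot (nat_lit 46) [46] 76 0)))⟩
noncomputable def ci65 : CI := ⟨[3], (nat_lit 65), true, (.node (nat_lit 8) (.node (nat_lit 4) (.node (nat_lit 2) (.node (nat_lit 1) (.leaf Rule.defn) (.leaf Rule.copy)) (.node (nat_lit 1) (.leaf (Rule.fwd [nat_lit 65] 76 0)) (.leaf (Rule.fwd [nat_lit 46, nat_lit 65, nat_lit 46, nat_lit 65, nat_lit 46] 30 1)))) (.node (nat_lit 2) (.node (nat_lit 1) (.leaf (Rule.fwd [nat_lit 103, nat_lit 65, nat_lit 103] 44 0)) (.leaf (Rule.fwd [nat_lit 27, nat_lit 65, nat_lit 27] 18 1))) (.node (nat_lit 1) (.leaf (Rule.fwd [nat_lit 84, nat_lit 65, nat_lit 84, nat_lit 65, nat_lit 84] 42 0)) (.leaf (Rule.fwd [nat_lit 8, nat_lit 65, nat_lit 8] 4 1))))) (.node (nat_lit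 2) (.node (nat_lit 1) (.leaf (Rule.fwd [nat_lit 122, nat_lit 65, nat_lit 122] 46 0)) (.leaf (Rule.fwd [nat_lit 160, nat_lit 65, nat_lit 160] 50 0))) (.leaf (Rule.fwd [nat_lit 141, nat_lit 65, nat_lit 141] 48 0)))), (.node (nat_lit 4) (.node (nat_lit 2) (.node (nat_lit 1) (.leaf XRule.defn) (.leaf XRule.ax)) (.node (nat_lit 1) (.leaf (XRule.rot (nat_lit 361873293652) [84, 65, 84, 65, 84] 42 0)) (.leaf (XRule.rot (nat_lit 8012154) [122, 65, 122] 46 0)))) (.leaf (XRule.rot (nat_lit 65) [65] 76 0)))⟩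
noncomputable def ci84 : CI := ⟨[4], (nat_lit 84), false, (.node (nat_lit 8) (.node (nat_lit 4) (.node (nat_lit 2) (.node (nat_lit 1) (.leaf Rule.defn) (.leaf Rule.copy)) (.node (nat_lit 1) (.leaf (Rule.fwd [nat_lit 84] 76 0)) (.leaf (Rule.fwd [nat_lit 65, nat_lit 84, nat_lit 65, nat_lit 84, nat_lit 65] 42 1)))) (.node (nat_lit 2) (.node (nat_lit 1) (.leaf (Rule.fwd [nat_lit 103, nat_lit 84, nat_lit 103, nat_lit 84, nat_lit 103] 52 0)) (.leaf (Rule.fwd [nat_lit 46, nat_lit 84, nat_lit 46] 32 1))) (.node (nat_lit 1) (.leaf (Rule.fwd [nat_lit 27, nat_lit 84, nat_lit 27] 20 1)) (.leaf (Rule.fwd [nat_lit 8, nat_lit 84, nat_lit 8] 6 1))))) (.node (nat_lit 2) (.node (nat_lit 1) (.leaf (Rule.fwd [nat_lit 122, nat_lit 84, nat_lit 122] 54 0)) (.leaf (Rule.fwd [nat_lit 160, nat_lit 84, nat_lit 160] 58 0))) (.leaf (Rule.fwd [nat_lit 141, nat_lit 84, nat_lit 141] 56 0)))), (.node (nat_lit 4) (.node (nat_lit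 2) (.node (nat_lit 1) (.leaf XRule.defn) (.leaf XRule.defn)) (.node (nat_lit 1) (.leaf (XRule.rot (nat_lit 443797689447) [103, 84, 103, 84, 103] 52 0)) (.leaf (XRule.rot (nat_lit 8017018) [122, 84, 122] 54 0)))) (.leaf (XRule.rot (nat_lit 84) [84] 76 0)))⟩
noncomputable def ci103 : CI := ⟨[5], (nat_lit 103), false, (.node (nat_lit 8) (.node (nat_lit 4) (.node (nat_lit 2) (.node (nat_lit 1) (.leaf Rule.defn) (.leaf Rule.copy)) (.node (nat_lit 1) (.leaf (Rule.fwd [nat_lit 8, nat_lit 27, nat_lit 122, nat_lit 160, nat_lit 46, nat_lit 141, nat_lit 65, nat_lit 8, nat_lit 27, nat_lit 122, nat_lit 160, nat_lit 46, nat_lit 141, nat_lit 65, nat_lit 8, nat_lit 27, nat_lit 122, nat_lit 160, nat_lit 46, nat_lit 141, nat_lit 65, nat_lit 8, nat_lit 27, nat_lit 122, nat_lit 160, nat_lit 46, nat_lit 141, nat_lit 65, nat_lit 8, nat_lit 27, nat_lit 122, nat_lit 160, nat_lit 46, nat_lit 141, nat_lit 65, nat_lit 8,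 nat_lit 27, nat_lit 122, nat_lit 160, nat_lit 46, nat_lit 141, nat_lit 65, nat_lit 8, nat_lit 27, nat_lit 122, nat_lit 160, nat_lit 46, nat_lit 141, nat_lit 65, nat_lit 8, nat_lit 27, nat_lit 122, nat_lit 160, nat_lit 46, nat_lit 141, nat_lit 65, nat_lit 8, nat_lit 27, nat_lit 122, nat_lit 160, nat_lit 46, nat_lit 141, nat_lit 65] 72 63)) (.leaf (Rule.fwd [nat_lit 103] 76 0)))) (.node (nat_lit 2) (.node (nat_lit 1) (.leaf (Rule.fwd [nat_lit 84, nat_lit 103, nat_lit 84, nat_lit 103, nat_lit 84] 52 1)) (.leaf (Rule.fwd [nat_lit 65, nat_lit 103, nat_lit 65] 44 1))) (.node (nat_lit 1) (.leaf (Rule.fwd [nat_lit 122, nat_lit 103, nat_lit 122] 60 0)) (.leaf (Rule.fwd [nat_lit 160, nat_lit 103, nat_lit 160] 64 0))))) (.node (nat_lit 2) (.node (nat_lit 1) (.leaf (Rule.fwd [nat_lit 141, nat_lit 103, nat_lit 141] 62 0)) (.leaf (Rule.fwd [nat_lit 46, nat_lit 103, nat_lit 46] 34 1))) (.node (nat_lit 1) (.leaf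 (Rule.fwd [nat_lit 8, nat_lit 103, nat_lit 8] 8 1)) (.leaf (Rule.fwd [nat_lit 27, nat_lit 103, nat_lit 27] 22 1))))), (.node (nat_lit 2) (.node (nat_lit 1) (.leaf XRule.defn) (.leaf XRule.defn)) (.leaf (XRule.rot (nat_lit 103) [103] 76 0)))⟩
noncomputable def ci122 : CI := ⟨[6], (nat_lit 122), true, (.node (nat_lit 8) (.node (nat_lit 4) (.node (nat_lit 2) (.node (nat_lit 1) (.leaf Rule.defn) (.leaf Rule.copy)) (.node (nat_lit 1) (.leaf (Rule.fwd [nat_lit 84, nat_lit 122, nat_lit 84] 54 1)) (.leaf (Rule.fwd [nat_lit 65, nat_lit 122, nat_lit 65] 46 1)))) (.node (nat_lit 2) (.node (nat_lit 1) (.leaf (Rule.fwd [nat_lit 103, nat_lit 122, nat_lit 103] 60 1)) (.leaf (Rule.fwd [nat_lit 46, nat_lit 122, nat_lit 46] 36 1))) (.node (nat_lit 1) (.leaf (Rule.fwd [nat_lit 27, nat_lit 122, nat_lit 27] 24 1)) (.leaf (Rule.fwd [nat_lit 122] 76 0))))) (.node (nat_lit 2) (.node (nat_lit 1) (.leaf (Rule.fwd [nat_lit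 141, nat_lit 122, nat_lit 141, nat_lit 122, nat_lit 141] 66 0)) (.leaf (Rule.fwd [nat_lit 160, nat_lit 122, nat_lit 160] 68 0))) (.leaf (Rule.fwd [nat_lit 8, nat_lit 122, nat_lit 8, nat_lit 122, nat_lit 8] 10 1)))), (.node (nat_lit 2) (.node (nat_lit 1) (.leaf XRule.defn) (.leaf XRule.ax)) (.node (nat_lit 1) (.leaf (XRule.rot (nat_lit 10517152) [160, 122, 160] 68 0)) (.leaf (XRule.rot (nat_lit 122) [122] 76 0))))⟩
noncomputable def ci141 : CI := ⟨[7], (nat_lit 141), true, (.node (nat_lit 8) (.node (nat_lit 4) (.node (nat_lit 2) (.node (nat_lit 1) (.leaf Rule.defn) (.leaf Rule.copy)) (.node (nat_lit 1) (.leaf (Rule.fwd [nat_lit 84, nat_lit 141, nat_lit 84] 56 1)) (.leaf (Rule.fwd [nat_lit 65, nat_lit 141, nat_lit 65] 48 1)))) (.node (nat_lit 2) (.node (nat_lit 1) (.leaf (Rule.fwd [nat_lit 103, nat_lit 141, nat_lit 103] 62 1)) (.leaf (Rule.fwd [nat_lit 46, nat_lit 141, nat_lit 46] 38 1))) (.node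 (nat_lit 1) (.leaf (Rule.fwd [nat_lit 27, nat_lit 141, nat_lit 27] 26 1)) (.leaf (Rule.fwd [nat_lit 8, nat_lit 141, nat_lit 8] 12 1))))) (.node (nat_lit 2) (.node (nat_lit 1) (.leaf (Rule.fwd [nat_lit 160, nat_lit 141, nat_lit 160] 70 0)) (.leaf (Rule.fwd [nat_lit 141] 76 0))) (.leaf (Rule.fwd [nat_lit 122, nat_lit 141, nat_lit 122, nat_lit 141, nat_lit 122] 66 1)))), (.node (nat_lit 4) (.node (nat_lit 2) (.node (nat_lit 1) (.leaf XRule.defn) (.leaf XRule.ax)) (.node (nat_lit 1) (.leaf (XRule.rot (nat_lit 560392) [8, 141, 8] 12 1)) (.leaf (XRule.rot (nat_lit 1805595) [27, 141, 27] 26 1)))) (.node (nat_lit 2) (.node (nat_lit 1) (.leaf (XRule.rot (nat_lit 3050798) [46, 141, 46] 38 1)) (.leaf (XRule.rot (nat_lit 4296001) [65, 141, 65] 48 1))) (.node (nat_lit 1) (.leaf (XRule.rot (nat_lit 5541204) [84, 141, 84] 56 1)) (.leaf (XRule.rot (nat_lit 6786407) [103, 141, 103] 62 1)))))⟩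
noncomputable def ci160 : CI := ⟨[8], (nat_lit 160), true, (.node (nat_lit 8) (.node (nat_lit 4) (.node (nat_lit 2) (.node (nat_lit 1) (.leaf Rule.defn) (.leaf Rule.copy)) (.node (nat_lit 1) (.leaf (Rule.fwd [nat_lit 84, nat_lit 160, nat_lit 84] 58 1)) (.leaf (Rule.fwd [nat_lit 65, nat_lit 160, nat_lit 65] 50 1)))) (.node (nat_lit 2) (.node (nat_lit 1) (.leaf (Rule.fwd [nat_lit 103, nat_lit 160, nat_lit 103] 64 1)) (.leaf (Rule.fwd [nat_lit 46, nat_lit 160, nat_lit 46] 40 1))) (.node (nat_lit 1) (.leaf (Rule.fwd [nat_lit 27, nat_lit 160, nat_lit 27] 28 1)) (.leaf (Rule.fwd [nat_lit 160] 76 0))))) (.node (nat_lit 1) (.leaf (Rule.fwd [nat_lit 8, nat_lit 160, nat_lit 8, nat_lit 160, nat_lit 8] 14 1)) (.leaf (Rule.fwd [nat_lit 122, nat_lit 160, nat_lit 122] 68 1)))), (.node (nat_lit 2) (.node (nat_lit 1) (.leaf XRule.defn) (.leaf XRule.ax)) (.node (nat_lit 1) (.leaf (XRule.rot (nat_lit 37044658184)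 [8, 160, 8, 160, 8] 14 1)) (.leaf (XRule.rot (nat_lit 160) [160] 76 0))))⟩
noncomputable def outer : Tr CI := (.node (nat_lit 8) (.node (nat_lit 1) (.node (nat_lit 4) (.node (nat_lit 32) (.leaf ci0) (.leaf ci160)) (.leaf ci84)) (.node (nat_lit 2) (.leaf ci65) (.leaf ci103))) (.node (nat_lit 1) (.node (nat_lit 2) (.leaf ci8) (.node (nat_lit 4) (.leaf ci122) (.leaf ci46))) (.node (nat_lit 2) (.leaf ci141) (.leaf ci27))))
def cols : List ℕ := [nat_lit 8, nat_lit 27, nat_lit 46, nat_lit 65, nat_lit 84, nat_lit 103, nat_lit 122, nat_lit 141, nat_lit 160]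
def invL : List ℕ := [0, 1, 2, 3, 4, 5, 6, 7, 8]
def rels : List (List ℕ) := [[0, 1, 0, 1, 0, 1], [0, 2, 0, 2], [0, 3, 0, 3], [0, 4, 0, 4], [0, 5, 0, 5], [0, 6, 0, 6, 0, 6], [0, 7, 0, 7], [0, 8, 0, 8, 0, 8], [1, 2, 1, 2, 1, 2], [1, 3, 1, 3], [1, 4, 1, 4], [1, 5, 1, 5], [1, 6, 1, 6], [1, 7, 1, 7], [1, 8, 1, 8], [2, 3, 2, 3, 2, 3], [2, 4, 2, 4], [2, 5, 2, 5], [2, 6, 2, 6], [2, 7, 2, 7], [2, 8, 2, 8], [3, 4, 3, 4, 3, 4], [3, 5, 3, 5], [3, 6, 3, 6], [3, 7, 3, 7], [3, 8, 3, 8], [4, 5, 4, 5, 4, 5], [4, 6, 4, 6], [4, 7, 4, 7], [4, 8, 4, 8], [5, 6, 5, 6], [5, 7, 5, 7], [5, 8, 5, 8], [6, 7, 6, 7, 6, 7], [6, 8, 6, 8], [7, 8, 7, 8], [0, 1, 6, 8, 2, 7, 3, 0, 1, 6, 8, 2, 7, 3, 0, 1, 6, 8, 2, 7, 3, 0, 1, 6, 8, 2, 7, 3, 0, 1, 6, 8, 2, 7, 3, 0, 1, 6, 8, 2, 7, 3, 0, 1, 6, 8, 2, 7, 3, 0, 1, 6, 8, 2, 7, 3, 0, 1, 6, 8, 2, 7, 3, 5], [0, 1, 6, 8, 2, 7, 3, 4, 0, 1, 6, 8, 2, 7, 3, 4, 0, 1, 6, 8, 2, 7, 3, 4, 0, 1, 6,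 8, 2, 7, 3, 4, 0, 1, 6, 8, 2, 7, 3, 4, 0, 1, 6, 8, 2, 7, 3, 4, 0, 1, 6, 8, 2, 7, 3, 4, 0, 1, 6, 8, 2, 7, 3, 4, 0, 1, 6, 8, 2, 7, 3, 4, 0, 1, 6, 8, 2, 7, 3, 4, 0, 1, 6, 8, 2, 7, 3, 4, 0, 1, 6, 8, 2, 7, 3, 4, 0, 1, 6, 8, 2, 7, 3, 4, 0, 1, 6, 8, 2, 7, 3, 4, 0, 1, 6, 8, 2, 7, 3, 4]]
def subs : List (List ℕ) := [[0], [1], [2], [3], [6], [7], [8]]
noncomputable def row (n : ℕ) : ℕ := rowOf (fun h => rows.get h) (nat_lit 4) (nat_lit 15) (nat_lit 179) (nat_lit 0x7ffffffffffffffffffffffffffffffffffffffffffff) n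
noncomputable def xleaf (h : ℕ) : ℕ := recs.get h
noncomputable def mF : ℕ → ℕ := mainRow row (rowChk row xleaf outer (nat_lit 8) (nat_lit 255) (nat_lit 15) (nat_lit 12) (nat_lit 4095) (nat_lit 524287) (nat_lit 128) (nat_lit 120) (nat_lit 256) (nat_lit 8) (nat_lit 255) (nat_lit 16) (nat_lit 65535) (nat_lit 8) (nat_lit 255) cols)
noncomputable def xF : ℕ → ℕ → ℕ := xLeaf row xleaf outer (nat_lit 255) (nat_lit 12) (nat_lit 524287) (nat_lit 128) (nat_lit 120) (nat_lit 8) (nat_lit 255) (nat_lit 16) (nat_lit 65535) (nat_lit 65280) (nat_lit 8) (nat_lit 255) (nat_lit 10) (nat_lit 1023) (nat_lit 4) (nat_lit 15) (nat_lit 160) (nat_lit 30720) (nat_lit 128)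
noncomputable def cert : Cert := ⟨row, xleaf, outer, cols, nat_lit 8, nat_lit 255, nat_lit 15, nat_lit 12, nat_lit 4095, nat_lit 524287, nat_lit 128, nat_lit 120, nat_lit 256, nat_lit 8, nat_lit 255, nat_lit 16, nat_lit 65535, nat_lit 65280, nat_lit 8, nat_lit 255, nat_lit 10, nat_lit 1023, nat_lit 4, nat_lit 15, nat_lit 160, nat_lit 30720, nat_lit 128, nat_lit 19, nat_lit 128, nat_lit 1⟩
theorem tabok : tabOK (fun i => invL.getD i i) rels subs outer cols (nat_lit 8) (nat_lit 160) = true := by decide +kernel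
theorem m0 : rng mF (nat_lit 1) (nat_lit 120) = 0 := by decide +kernel
noncomputable def s0 : List ℕ := [nat_lit 0x401004010040100400000000000000000000000012143c0000110148004940044032001294440000112148004b4004503300131001160d0004d40046035001390011a0d8004f40047037001410011e0c8005151f000004905200149494000012c14c005352d000004c052001514b4000cc0055531000004d052001594c4000cc0057535000004e052001614d4000cc0059539000004f052001694e4000cd6b00000000415b16b090005b1690c8005c55e0cd714e4240017159034001714ec3500173574360017759c365e51b090005ed560dd7b4d4240017b580320017b4dc355f53d088005f53f0d400605550cd8558c2461d190918b474220018d538386353109000635580c800635330d4006554d0dd9956c2466d17090006754a0e59d4b4240019d540320019d4bc35001a35243869d53091a9454246ad25090006ad270d4006ad460e9b344424001b34a032001b34883a001b551439001b94ac39001bb48439001bd508326f51f08dbf44c237050f08dc35042300000000000000000000000000000000000000000000000000000000000000000]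
theorem x0 : xs xF s0 (nat_lit 1) = 0 := by decide +kernel
theorem mz0 : AllZ mF 1 (nat_lit 121) := (AllZ.step (AllZ.nil mF 1) (nat_lit 120) (nat_lit 121) rfl m0)
theorem xz0 : XZ xF (nat_lit 1) := (XZ.step (XZ.nil xF) s0 (nat_lit 1) (nat_lit 1) (by decide +kernel) x0)
/-- the certificate (120 points) is valid -/
theorem valid : cert.Valid (fun i => invL.getD i i) rels subs 9 :=
  ⟨by decide +kernel, tabok, by decide +kernel, mz0, xz0⟩
theorem cert_N : cert.N = 120 := rfl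

end CL.TC.P8E8
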